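import Cfsg.Agent.S4429
import Cfsg.Agent.SmallOrder.Parity
import Cfsg.Agent.SmallOrder.Involution
import Cfsg.Agent.BlockThms.OrderP.Main

/-!
# A simple group of order 10200960: degrees and the principal blocks at primes dividing to the
first power
-/

set_option autoImplicit false
set_option linter.unusedSectionVars false

namespace Cfsg.Agent.Fg24.M23

open scoped ComplexConjugate
open Cfsg.Agent Cfsg.Agent.Blocks

universe u

variable {G : Type u} [Group G] [Fintype G]

/-- The degree of a character. -/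
noncomputable abbrev dg (χ : Cfsg.IrrCharacter G) : ℕ := Cfsg.charDegree (χ : G → ℂ)

theorem value_one (χ : Cfsg.IrrCharacter G) : (χ : G → ℂ) 1 = (dg χ : ℂ) :=
  (charDegree_cast (Char.IsIrr.isCharacter χ.2)).symm

theorem dg_pos (χ : Cfsg.IrrCharacter G) : 0 < dg χ := charDegree_pos χ.2

theorem dg_triv : dg (triv G : Cfsg.IrrCharacter G) = 1 :=
  charDegree_eq (n := 1) (by simp [triv])

theorem triv_apply (g : G) : ((triv G : Cfsg.IrrCharacter G) : G → ℂ) g = 1 := rfl

/-- The order of the group. -/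
abbrev ord : ℕ := 10200960

section Simple

variable [IsSimpleGroup G] (hG : Nat.card G = ord)
include hG

theorem not_comm : ¬ IsMulCommutative G := fun hc => by
  letI : CommGroup G := { ‹Group G› with mul_comm := fun a b => hc.is_comm.comm a b }
  have hp := IsSimpleGroup.prime_card (α := G)
  rw [hG] at hp
  norm_num [ord] at hp

theorem deg_dvd (χ : Cfsg.IrrCharacter G) : dg χ ∣ ord :=
  hG ▸ Char.IsIrr.degree_dvd_card χ.2 (value_one χ)

theorem deg_le (χ : Cfsg.IrrCharacter G) : dg χ ≤ 3193 := by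
  classical
  have h := Char.second_orthogonality (1 : G) 1
  rw [if_pos (IsConj.refl 1)] at h
  have e : Nat.card (Subgroup.centralizer ({1} : Set G)) = ord := by
    rw [← hG]
    exact Nat.card_congr (Equiv.subtypeUnivEquiv fun g => by
      rw [Subgroup.mem_centralizer_singleton_iff, one_mul, mul_one])
  simp only [value_one, Complex.conj_natCast, e] at h
  have h' : ∑ ψ : Cfsg.IrrCharacter G, dg ψ * dg ψ = ord := by exact_mod_cast h
  have h1 := Finset.single_le_sum (f := fun ψ : Cfsg.IrrCharacter G => dg ψ * dg ψ)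
    (fun _ _ => Nat.zero_le _) (Finset.mem_univ χ)
  rw [h'] at h1
  by_contra hlt
  have : 3194 * 3194 ≤ dg χ * dg χ := Nat.mul_le_mul (by omega) (by omega)
  simp only [ord] at h1
  omega

theorem sum_sq : ∑ ψ : Cfsg.IrrCharacter G, dg ψ * dg ψ = ord := by
  classical
  have h := Char.second_orthogonality (1 : G) 1
  rw [if_pos (IsConj.refl 1)] at h
  have e : Nat.card (Subgroup.centralizer ({1} : Set G)) = ord := by
    rw [← hG]
    exact Nat.card_congr (Equiv.subtypeUnivEquiv fun g => by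
      rw [Subgroup.mem_centralizer_singleton_iff, one_mul, mul_one])
  simp only [value_one, Complex.conj_natCast, e] at h
  exact_mod_cast h

theorem dg_one {χ : Cfsg.IrrCharacter G} (h : dg χ = 1) : χ = triv G :=
  Subtype.ext (S4429.deg_one (not_comm hG) (Char.IsIrr.isCharacter χ.2)
    (by rw [value_one, h, Nat.cast_one]))

omit [Fintype G] [IsSimpleGroup G] in
theorem factorization_eq {p : ℕ} (hp : p = 5 ∨ p = 7 ∨ p = 11 ∨ p = 23) :
    (Nat.card G).factorization p = 1 := by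
  have key : ∀ q m : ℕ, q.Prime → ¬ q ∣ m → q * m = ord → (Nat.card G).factorization q = 1 := by
    intro q m hq hm he
    have hm0 : m ≠ 0 := fun h => hm (h ▸ dvd_zero q)
    rw [hG, ← he, Nat.factorization_mul hq.ne_zero hm0, Finsupp.add_apply,
      Nat.Prime.factorization_self hq, Nat.factorization_eq_zero_of_not_dvd hm]
  rcases hp with rfl | rfl | rfl | rfl
  · exact key 5 2040192 (by norm_num) (by norm_num) (by norm_num)
  · exact key 7 1457280 (by norm_num) (by norm_num) (by norm_num)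
  · exact key 11 927360 (by norm_num) (by norm_num) (by norm_num)
  · exact key 23 443520 (by norm_num) (by norm_num) (by norm_num)

omit [IsSimpleGroup G] in
theorem card_sylow {p : ℕ} [Fact p.Prime] (hp : p = 5 ∨ p = 7 ∨ p = 11 ∨ p = 23) (P : Sylow p G) :
    Nat.card (P : Subgroup G) = p := by
  rw [P.card_eq_multiplicity, factorization_eq hG hp, pow_one]

omit [IsSimpleGroup G] in
theorem exists_setup {p : ℕ} [Fact p.Prime] (hp : p = 5 ∨ p = 7 ∨ p = 11 ∨ p = 23) (P : Sylow p G) :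
    ∃ e : ℕ, BlockThms.OrderP.Setup P e :=
  ⟨_, card_sylow hG hp P, rfl⟩

omit [IsSimpleGroup G] in
theorem index_eq (g : G) : (Subgroup.centralizer ({g} : Set G)).index =
    ord / Nat.card (Subgroup.centralizer ({g} : Set G)) :=
  (Nat.div_eq_of_eq_mul_left Nat.card_pos (by
    rw [mul_comm, Subgroup.card_mul_index, hG])).symm

omit [IsSimpleGroup G] in
theorem card_dvd (g : G) : Nat.card (Subgroup.centralizer ({g} : Set G)) ∣ ord :=
  hG ▸ Subgroup.card_subgroup_dvd_card _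

/-- The value at an involution. -/
theorem inv_value {χ : Cfsg.IrrCharacter G} (hχ : χ ≠ triv G) {t : G} (ht : orderOf t = 2) :
    ∃ v : ℤ, (χ : G → ℂ) t = v ∧ (4 : ℤ) ∣ (dg χ : ℤ) - v ∧ v.natAbs < dg χ ∧
      (dg χ : ℤ) ∣ ((ord / Nat.card (Subgroup.centralizer ({t} : Set G)) : ℕ) : ℤ) * v := by
  have hna := not_comm hG
  obtain ⟨v, hv, -, hlo, hhi, hdvd, hne⟩ := S4429.inv_value hna χ ht
  obtain ⟨h1, h2⟩ := hne fun h => hχ (Subtype.ext h)
  refine ⟨v, hv, SmallOrder.four_dvd_degree_sub_apply hna (Char.IsIrr.isCharacter χ.2) ht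
    (value_one χ) hv, by simp only [dg] at *; omega, ?_⟩
  rwa [← index_eq hG]

end Simple

/-- The principal block of a Sylow subgroup of prime order `p`. -/
structure Blk {p : ℕ} [Fact p.Prime] (P : Sylow p G) (e : ℕ) where
  setup : BlockThms.OrderP.Setup P e
  M : Ideal Cfsg.AlgInt
  hM : Cfsg.IsPModular p M
  X : Finset (Cfsg.IrrCharacter G)
  Y : Finset (Cfsg.IrrCharacter G)
  a : Cfsg.IrrCharacter G → ℤ
  s : ℤ
  disj : Disjoint X Y
  cardX : X.card = e
  cardY : Y.card = (p - 1) / e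
  mem : ∀ χ, χ ∈ Cfsg.principalBlock M G ↔ χ ∈ X ∨ χ ∈ Y
  hs : s = 1 ∨ s = -1
  ha : ∀ χ ∈ X, a χ = 1 ∨ a χ = -1
  modX : ∀ χ ∈ X, (dg χ : ℤ) ≡ a χ [ZMOD p]
  valX : ∀ χ ∈ X, ∀ z ∈ (P : Subgroup G), z ≠ 1 → ∀ y ∈ Subgroup.centralizer (P : Set G),
    ¬ p ∣ orderOf y → (χ : G → ℂ) (z * y) = (a χ : ℂ)
  modY : ∀ θ ∈ Y, (dg θ : ℤ) ≡ -((e : ℤ) * s) [ZMOD p]
  eqY : ∀ θ ∈ Y, ∀ θ' ∈ Y, ∀ g : G, ¬ p ∣ orderOf g → (θ : G → ℂ) g = (θ' : G → ℂ) g
  rel : ∀ θ ∈ Y, ∀ g : G, ¬ p ∣ orderOf g →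
    (s : ℂ) * (θ : G → ℂ) g + ∑ χ ∈ X, (a χ : ℂ) * (χ : G → ℂ) g = 0

theorem exists_blk {p : ℕ} [Fact p.Prime] {P : Sylow p G} {e : ℕ}
    (hS : BlockThms.OrderP.Setup P e) : Nonempty (Blk P e) := by
  obtain ⟨M, hM⟩ := Blocks.exists_isPModular p (Fact.out : p.Prime)
  obtain ⟨X, Y, a, s, hdisj, hXc, hYc, hmem, hs, hX, hY, hYeq, hrel⟩ := hS.principal_structure hM
  exact ⟨⟨hS, M, hM, X, Y, a, s, hdisj, hXc, hYc, hmem, hs, fun χ h => (hX χ h).1,
    fun χ h => (hX χ h).2.1, fun χ h => (hX χ h).2.2, hY, hYeq, hrel⟩⟩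

namespace Blk

variable {p : ℕ} [Fact p.Prime] {P : Sylow p G} {e : ℕ} (B : Blk P e)

/-- The members of the block. -/
def Mem (χ : Cfsg.IrrCharacter G) : Prop := χ ∈ B.X ∨ χ ∈ B.Y

theorem triv_mem : B.Mem (triv G) := (B.mem _).1 (triv_mem_principalBlock B.hM)

theorem not_dvd {χ : Cfsg.IrrCharacter G} (h : B.Mem χ) : ¬ p ∣ dg χ :=
  B.setup.not_dvd_degree B.hM ((B.mem χ).2 h)

theorem triv_mem_X (h : ∀ s : ℤ, s = 1 ∨ s = -1 → ¬ (1 : ℤ) ≡ -((e : ℤ) * s) [ZMOD p]) :
    triv G ∈ B.X := by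
  refine B.triv_mem.resolve_right fun ht => ?_
  have h1 := B.modY _ ht
  rw [dg_triv] at h1
  exact h B.s B.hs (by exact_mod_cast h1)

theorem a_triv (hp : 2 < p) (h : triv G ∈ B.X) : B.a (triv G) = 1 := by
  rcases B.ha _ h with h2 | h2
  · exact h2
  · exfalso
    have h1 := B.modX _ h
    rw [dg_triv, h2] at h1
    have h3 : (p : ℤ) ∣ 2 := by simpa using Int.modEq_iff_dvd.1 h1.symm
    have := Int.le_of_dvd (by norm_num) h3
    omega

/-- Two characters with the degree rule determine the sign. -/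
theorem a_eq (hp : 2 < p) {χ : Cfsg.IrrCharacter G} (h : χ ∈ B.X) {b : ℤ} (hb : b = 1 ∨ b = -1)
    (hd : (dg χ : ℤ) ≡ b [ZMOD p]) : B.a χ = b := by
  have h2 := (B.modX χ h).symm.trans hd
  have h3 : (p : ℤ) ∣ b - B.a χ := Int.modEq_iff_dvd.1 h2
  by_contra hne
  rcases B.ha χ h with h1 | h1 <;> rcases hb with rfl | rfl <;> rw [h1] at h3 hne <;>
    first
    | exact hne rfl
    | (rw [← dvd_abs] at h3; norm_num at h3; have := Int.le_of_dvd (by norm_num) h3; omega)

theorem rel_one {θ : Cfsg.IrrCharacter G} (hθ : θ ∈ B.Y) :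
    B.s * (dg θ : ℤ) + ∑ χ ∈ B.X, B.a χ * (dg χ : ℤ) = 0 := by
  have h1 := B.rel θ hθ 1 (by rw [orderOf_one]; exact (Fact.out : p.Prime).not_dvd_one)
  simp only [value_one] at h1
  exact_mod_cast h1

theorem dg_Y {θ θ' : Cfsg.IrrCharacter G} (h : θ ∈ B.Y) (h' : θ' ∈ B.Y) : dg θ = dg θ' := by
  have h1 := B.eqY θ h θ' h' 1 (by rw [orderOf_one]; exact (Fact.out : p.Prime).not_dvd_one)
  simp only [value_one] at h1
  exact_mod_cast h1

theorem Y_nonempty : B.Y.Nonempty := by
  rw [← Finset.card_pos, B.cardY]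
  exact Nat.div_pos (Nat.le_of_dvd (Nat.sub_pos_of_lt (Fact.out : p.Prime).one_lt)
    B.setup.exists_y.1) B.setup.e_pos

/-- The values of a member of `X` at a regular element of the centralizer. -/
theorem congr_X {χ : Cfsg.IrrCharacter G} (h : χ ∈ B.X) {k : G}
    (hk : k ∈ Subgroup.centralizer (P : Set G)) (hkp : ¬ p ∣ orderOf k) :
    Cfsg.MemLocalIdeal B.M ((χ : G → ℂ) k - (B.a χ : ℂ)) := by
  obtain ⟨z, hz, hz1, hzo⟩ := B.setup.exists_gen
  have hc : Commute z k := Subgroup.mem_centralizer_iff.1 hk z hz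
  have h1 := memLocalIdeal_char_sub_pPrimePart B.hM (Char.IsIrr.isCharacter χ.2) (z * k)
  rwa [(parts_mul (Fact.out : p.Prime) hc ⟨1, by rw [hzo, pow_one]⟩ hkp).2,
    B.valX χ h z hz hz1 k hk hkp] at h1

/-- No member has defect zero at a prime dividing the centralizer of the Sylow subgroup. -/
theorem dvd_codeg {χ : Cfsg.IrrCharacter G} (h : B.Mem χ) {k : G}
    (hk : k ∈ Subgroup.centralizer (P : Set G)) {r : ℕ} (hr : r.Prime) (hrp : r ≠ p)
    (hko : orderOf k = r) : r ∣ Nat.card G / dg χ := by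
  have hp : p.Prime := Fact.out
  haveI := Fact.mk hr
  by_contra hd
  obtain ⟨M, hM⟩ := Blocks.exists_isPModular r hr
  obtain ⟨z, hz, hz1, hzo⟩ := B.setup.exists_gen
  have hkp : ¬ p ∣ orderOf k := by
    rw [hko]; exact fun h => hrp ((Nat.prime_dvd_prime_iff_eq hp hr).1 h).symm
  have hc : Commute z k := Subgroup.mem_centralizer_iff.1 hk z hz
  have hzero : ∀ y : G, r ∣ orderOf y → (χ : G → ℂ) y = 0 := fun y hy =>
    BlockThms.eq_zero_of_not_dvd_codegree hM χ hd (fun hreg => hreg hy)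
  rcases h with h | h
  · have h1 := B.valX χ h z hz hz1 k hk hkp
    rw [hzero _ (by
      rw [hc.orderOf_mul_eq_mul_orderOf_of_coprime (by
        rw [hzo, hko]; exact (Nat.coprime_primes hp hr).2 hrp.symm), hko]
      exact dvd_mul_left r _)] at h1
    rcases B.ha χ h with h2 | h2 <;> rw [h2] at h1 <;> norm_num at h1
  · have h1 := B.rel χ h k hkp
    rw [hzero k (hko ▸ dvd_rfl), mul_zero, zero_add] at h1
    have h2 : Cfsg.MemLocalIdeal B.M (∑ ψ ∈ B.X,
        ((B.a ψ : ℂ) * (ψ : G → ℂ) k - (B.a ψ : ℂ) * (B.a ψ : ℂ))) :=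
      memLocalIdeal_sum B.hM _ fun ψ hψ => by
        rw [← mul_sub]
        rcases B.ha ψ hψ with h | h <;> have h' := B.congr_X hψ hk hkp <;> rw [h] at h' ⊢
        · simpa using h'
        · simpa using memLocalIdeal_neg h'
    rw [Finset.sum_sub_distrib, h1, zero_sub,
      Finset.sum_congr rfl (g := fun _ => (1 : ℂ)) fun ψ hψ => by
        rcases B.ha ψ hψ with h | h <;> rw [h] <;> norm_num,
      Finset.sum_const, B.cardX, nsmul_one] at h2
    have h3 : (p : ℤ) ∣ -(e : ℤ) := by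
      rw [← Blocks.memLocalIdeal_intCast_iff B.hM]
      push_cast
      exact h2
    rw [dvd_neg, Int.natCast_dvd_natCast] at h3
    have he := B.setup.exists_y.1
    have := Nat.le_of_dvd (Nat.sub_pos_of_lt hp.one_lt) he
    have := Nat.le_of_dvd B.setup.e_pos h3
    have := hp.one_lt
    omega

/-- The value at an involution centralizing the Sylow subgroup. -/
theorem central_inv [IsSimpleGroup G] (hG : Nat.card G = ord) (hp : p ≠ 2)
    {χ : Cfsg.IrrCharacter G} (h : B.Mem χ) (hne : χ ≠ triv G) {w : G}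
    (hw : w ∈ Subgroup.centralizer (P : Set G)) (hw2 : orderOf w = 2) :
    ∃ v : ℤ, (χ : G → ℂ) w = v ∧ (4 * p : ℤ) ∣ (dg χ : ℤ) - v ∧ v.natAbs < dg χ ∧
      (dg χ : ℤ) ∣ ((ord / Nat.card (Subgroup.centralizer ({w} : Set G)) : ℕ) : ℤ) * v := by
  classical
  obtain ⟨v, hv, h4, hlt, hd⟩ := inv_value hG hne hw2
  refine ⟨v, hv, ?_, hlt, hd⟩
  have hwp : ¬ p ∣ orderOf w := by
    rw [hw2]; exact fun h => hp ((Nat.prime_dvd_prime_iff_eq (Fact.out : p.Prime) Nat.prime_two).1 h)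
  choose u hu using fun ψ : Cfsg.IrrCharacter G =>
    SmallOrder.exists_int_apply_involution (Char.IsIrr.isCharacter ψ.2) hw2
  have hcong : ∀ ψ ∈ B.X, (p : ℤ) ∣ u ψ - B.a ψ := fun ψ hψ => by
    rw [← Blocks.memLocalIdeal_intCast_iff B.hM]
    push_cast
    rw [← hu]
    exact B.congr_X hψ hw hwp
  have huv : u χ = v := by exact_mod_cast (hu χ).symm.trans hv
  have hpd : (p : ℤ) ∣ (dg χ : ℤ) - v := by
    rcases h with hX | hY
    · have h1 := Int.modEq_iff_dvd.1 (B.modX χ hX).symm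
      have h2 := hcong χ hX
      rw [huv] at h2
      have := dvd_sub h1 h2
      rwa [show (dg χ : ℤ) - B.a χ - (v - B.a χ) = dg χ - v by ring] at this
    · have h1 := B.rel χ hY w hwp
      simp only [hu] at h1
      have h2 : B.s * u χ + ∑ ψ ∈ B.X, B.a ψ * u ψ = 0 := by exact_mod_cast h1
      have h3 : (p : ℤ) ∣ ∑ ψ ∈ B.X, (B.a ψ * u ψ - 1) := Finset.dvd_sum fun ψ hψ => by
        have h := hcong ψ hψ
        rcases B.ha ψ hψ with e1 | e1 <;> rw [e1] at h ⊢
        · simpa using h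
        · rw [show (-1 : ℤ) * u ψ - 1 = -(u ψ - -1) by ring]; exact h.neg_right
      have h5 : ∑ ψ ∈ B.X, B.a ψ * u ψ = -(B.s * v) := by rw [← huv]; linarith
      rw [Finset.sum_sub_distrib, Finset.sum_const, B.cardX, nsmul_one, h5] at h3
      have h4 := Int.modEq_iff_dvd.1 (B.modY χ hY).symm
      rcases B.hs with e1 | e1 <;> rw [e1] at h3 h4
      · have := dvd_add h4 h3
        rwa [show (dg χ : ℤ) - -((e : ℤ) * 1) + (-(1 * v) - (e : ℤ)) = dg χ - v by ring] at this
      · have := dvd_sub h4 h3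
        rwa [show (dg χ : ℤ) - -((e : ℤ) * -1) - (-(-1 * v) - (e : ℤ)) = dg χ - v by ring] at this
  have hco : IsCoprime (4 : ℤ) (p : ℤ) := by
    rw [Int.isCoprime_iff_gcd_eq_one]
    exact (Nat.coprime_primes Nat.prime_two (Fact.out : p.Prime)).2 (Ne.symm hp) |>.pow_left 2
  exact hco.mul_dvd h4 hpd

end Blk

/-- An element of order `q` normalizing a subgroup of order prime to `q` centralizes an involution
of it, if it has no orbit on the involutions of a Sylow 2-subgroup. -/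
theorem exists_commuting_inv {K : Subgroup G} (h2 : 2 ∣ Nat.card K) {q : ℕ} [Fact q.Prime]
    (hq : ¬ q ∣ Nat.card K)
    (hpow : ∀ i ∈ Finset.Icc 1 ((Nat.card K).factorization 2), ¬ q ∣ 2 ^ i - 1)
    {y : G} (hy : orderOf y = q) (hn : y ∈ Subgroup.normalizer (K : Set G)) :
    ∃ w ∈ K, orderOf w = 2 ∧ Commute y w := by
  classical
  haveI : Fact (Nat.Prime 2) := ⟨Nat.prime_two⟩
  let T := Subgroup.zpowers y
  have hTn : T ≤ Subgroup.normalizer (K : Set G) := Subgroup.zpowers_le.2 hn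
  have hT : IsPGroup q T := IsPGroup.of_card (n := 1) (by rw [Nat.card_zpowers, hy, pow_one])
  let φ : T →* MulAut K :=
    { toFun := fun g =>
        { toFun := fun a => ⟨(g : G) * a * (g : G)⁻¹,
            (Subgroup.mem_normalizer_iff.1 (hTn g.2) a).1 a.2⟩
          invFun := fun a => ⟨(g : G)⁻¹ * a * (g : G), by
            have := (Subgroup.mem_normalizer_iff.1 (hTn (inv_mem g.2)) a).1 a.2
            rwa [inv_inv] at this⟩
          left_inv := fun a => Subtype.ext (by simp [mul_assoc])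
          right_inv := fun a => Subtype.ext (by simp [mul_assoc])
          map_mul' := fun a b => Subtype.ext (by simp [mul_assoc]) }
      map_one' := by ext a; simp
      map_mul' := fun g h => by ext a; simp [mul_assoc] }
  letI : MulDistribMulAction T K := MulDistribMulAction.compHom K φ
  -- an invariant Sylow subgroup
  have hs := hT.card_modEq_card_fixedPoints (Sylow 2 K)
  have hne : Nonempty (MulAction.fixedPoints T (Sylow 2 K)) := by
    rw [← Finite.card_pos_iff]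
    by_contra h0
    have h1 : Nat.card (MulAction.fixedPoints T (Sylow 2 K)) = 0 := by omega
    rw [h1] at hs
    exact hq (Dvd.dvd.trans (Nat.modEq_zero_iff_dvd.1 hs)
      ((Sylow.card_dvd_index (default : Sylow 2 K)).trans
        (Subgroup.index_dvd_card _)))
  obtain ⟨Q, hQ⟩ := hne
  have hmap : ∀ (g : T) (a : K), a ∈ (Q : Subgroup K) → g • a ∈ (Q : Subgroup K) := by
    intro g a ha
    have h1 : g • a ∈ ((g • Q : Sylow 2 K) : Subgroup K) :=
      Subgroup.smul_mem_pointwise_smul a g (Q : Subgroup K) ha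
    rwa [hQ g] at h1
  letI : MulAction T (Q : Subgroup K) :=
    { smul := fun g a => ⟨g • (a : K), hmap g a a.2⟩
      one_smul := fun a => Subtype.ext (one_smul T (a : K))
      mul_smul := fun g h a => Subtype.ext (mul_smul g h (a : K)) }
  have hf := hT.card_modEq_card_fixedPoints (Q : Subgroup K)
  have hQc : Nat.card (Q : Subgroup K) = 2 ^ (Nat.card K).factorization 2 := Q.card_eq_multiplicity
  have hfac : 1 ≤ (Nat.card K).factorization 2 :=
    Nat.Prime.factorization_pos_of_dvd Nat.prime_two Nat.card_pos.ne' h2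
  obtain ⟨a, ha, ha1⟩ : ∃ a : (Q : Subgroup K), a ∈ MulAction.fixedPoints T (Q : Subgroup K) ∧
      a ≠ 1 := by
    by_contra hcon
    push Not at hcon
    have h1 : Nat.card (MulAction.fixedPoints T (Q : Subgroup K)) = 1 :=
      Nat.card_eq_one_iff_unique.2 ⟨⟨fun a b => Subtype.ext ((hcon a a.2).trans (hcon b b.2).symm)⟩,
        ⟨⟨1, fun g => Subtype.ext (smul_one g)⟩⟩⟩
    rw [h1, hQc] at hf
    refine hpow _ (Finset.mem_Icc.2 ⟨hfac, le_rfl⟩) ?_
    exact (Nat.modEq_iff_dvd' Nat.one_le_two_pow).1 hf.symm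
  obtain ⟨j, hj⟩ := (IsPGroup.iff_orderOf.1 Q.isPGroup') a
  have hj1 : j ≠ 0 := fun h => ha1 (orderOf_eq_one_iff.1 (by rw [hj, h, pow_zero]))
  set b := a ^ 2 ^ (j - 1) with hb
  have hb2 : orderOf b = 2 := by
    rw [hb, orderOf_pow' a (pow_ne_zero _ two_ne_zero), hj,
      Nat.gcd_eq_right (pow_dvd_pow 2 (Nat.sub_le j 1)), Nat.pow_div (Nat.sub_le j 1) two_pos,
      show j - (j - 1) = 1 by omega, pow_one]
  refine ⟨((b : K) : G), (b : K).2, by rw [Subgroup.orderOf_coe, Subgroup.orderOf_coe, hb2], ?_⟩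
  have h1 : (⟨y, Subgroup.mem_zpowers y⟩ : T) • (a : K) = (a : K) :=
    congrArg Subtype.val (ha ⟨y, Subgroup.mem_zpowers y⟩)
  have h2 : Commute y ((a : K) : G) := mul_inv_eq_iff_eq_mul.1 (congrArg Subtype.val h1)
  rw [hb, SubgroupClass.coe_pow, SubgroupClass.coe_pow]
  exact h2.pow_right _

end Cfsg.Agent.Fg24.M23
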