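import Cfsg.Agent.Fg24.M23.Basic
import Cfsg.Agent.S0840

/-!
# Pairs of conjugates inverting a generator of a Sylow subgroup of prime order
-/

set_option autoImplicit false
set_option linter.unusedSectionVars false

namespace Cfsg.Agent.Fg24.M23

open scoped ComplexConjugate
open Cfsg.Agent Cfsg.Agent.Blocks Cfsg.Agent.BlockThms.OrderP

universe u

variable {G : Type u} [Group G] [Fintype G]

/-- The values at the powers of an element of prime order, for a rational value. -/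
theorem prime_value {χ : G → ℂ} (hχ : Cfsg.IsCharacter G χ) {d : ℕ} (hd : χ 1 = d) {x : G} {r : ℕ}
    [Fact r.Prime] (hx : orderOf x = r) {v : ℤ} (hv : χ x = v) :
    ∃ m : ℕ, (r : ℤ) * m = d + ((r : ℤ) - 1) * v := by
  classical
  have hr : r.Prime := Fact.out
  set T := Subgroup.zpowers x
  have hT : Nat.card T = r := by rw [Nat.card_zpowers, hx]
  have hval : ∀ y : T, y ≠ 1 → χ (y : G) = v := by
    rintro ⟨y, hy⟩ hy1
    obtain ⟨i, rfl⟩ := Subgroup.mem_zpowers_iff.1 hy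
    obtain ⟨j, hj⟩ : ∃ j : ℕ, x ^ i = x ^ j := by
      refine ⟨(i % (r : ℤ)).toNat, ?_⟩
      rw [← zpow_natCast, Int.toNat_of_nonneg (Int.emod_nonneg _ (by exact_mod_cast hr.ne_zero)),
        ← hx, zpow_mod_orderOf]
    have hco : j.Coprime r := (hr.coprime_iff_not_dvd.2 fun h => hy1 (Subtype.ext (by
      show x ^ i = 1
      rw [hj, ← orderOf_dvd_iff_pow_eq_one, hx]; exact h))).symm
    obtain ⟨σ, hσ⟩ := Char.exists_galois r j hr.ne_zero hco
    show χ (x ^ i) = v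
    rw [hj, ← Char.galois_apply_pow σ hσ hχ hx.dvd, hv, map_intCast]
  obtain ⟨m, hm⟩ := Char.classInner_isCharacter_eq_natCast (Char.isCharacter_res T hχ)
    (Char.isCharacter_one (G := T))
  refine ⟨m, ?_⟩
  have hsum : ∑ y : T, χ (y : G) = (d : ℂ) + ((r : ℂ) - 1) * v := by
    rw [← Finset.add_sum_erase _ _ (Finset.mem_univ (1 : T)), OneMemClass.coe_one, hd,
      Finset.sum_congr rfl fun (y : T) hy => hval y (Finset.ne_of_mem_erase hy),
      Finset.sum_const, Finset.card_erase_of_mem (Finset.mem_univ _), Finset.card_univ,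
      ← Nat.card_eq_fintype_card, hT, nsmul_eq_mul, Nat.cast_sub hr.one_le, Nat.cast_one]
  have h2 : (d : ℂ) + ((r : ℂ) - 1) * v = (r : ℂ) * m := by
    rw [← hsum, ← hm, Cfsg.classInner, hT, mul_inv_cancel_left₀ (Nat.cast_ne_zero.2 hr.ne_zero)]
    exact Finset.sum_congr rfl fun y _ => by simp
  have h3 : (d : ℤ) + ((r : ℤ) - 1) * v = (r : ℤ) * m := by exact_mod_cast h2
  exact h3.symm

/-- The pairs of conjugates of `w` whose product has `p`-part `z`. -/
abbrev Pairs (p : ℕ) (w z : G) : Type u :=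
  {q : G × G // IsConj w q.1 ∧ IsConj w q.2 ∧ pPartOf p (q.1 * q.2) = z}

/-- Products of two involutions are inverted by the factors. -/
theorem inverts_pPart {p : ℕ} [Fact p.Prime] {x y : G} (hx : x * x = 1) (hy : y * y = 1) :
    x * pPartOf p (x * y) * x⁻¹ = (pPartOf p (x * y))⁻¹ ∧
      y * pPartOf p (x * y) * y⁻¹ = (pPartOf p (x * y))⁻¹ := by
  have hxi : x⁻¹ = x := inv_eq_of_mul_eq_one_right hx
  have hyi : y⁻¹ = y := inv_eq_of_mul_eq_one_right hy
  set u := x * y with hu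
  obtain ⟨hc, hu2⟩ := Blocks.commute_pPartOf_pPrimePartOf (p := p) u,
    Blocks.pPartOf_mul_pPrimePartOf (p := p) (Fact.out : p.Prime) u
  have hp : p.Prime := Fact.out
  have hinv : pPartOf p u⁻¹ = (pPartOf p u)⁻¹ := by
    have h := (Blocks.parts_mul hp (u := (pPartOf p u)⁻¹) (s := (pPrimePartOf p u)⁻¹)
      (Blocks.commute_pPartOf_pPrimePartOf (p := p) u).inv_inv
      (by obtain ⟨k, hk⟩ := Blocks.orderOf_pPartOf (p := p) hp u
          exact ⟨k, by rw [orderOf_inv]; exact hk⟩)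
      (by rw [orderOf_inv]; exact Blocks.not_dvd_orderOf_pPrimePartOf hp u)).1
    rwa [← mul_inv_rev, ← (Blocks.commute_pPartOf_pPrimePartOf (p := p) u).eq,
      Blocks.pPartOf_mul_pPrimePartOf hp u] at h
  constructor
  · rw [← Blocks.pPartOf_conj (p := p), ← hinv]
    congr 1
    rw [hu, mul_inv_rev, hxi, hyi]
    calc x * (x * y) * x = (x * x) * y * x := by group
      _ = y * x := by rw [hx, one_mul]
  · rw [← Blocks.pPartOf_conj (p := p), ← hinv]
    congr 1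
    rw [hu, mul_inv_rev, hxi, hyi]
    calc y * (x * y) * y = y * x * (y * y) := by group
      _ = y * x := by rw [hy, mul_one]

variable {p : ℕ} [Fact p.Prime] {P : Sylow p G} {e : ℕ}

namespace Blk

variable (B : Blk P e)

include B in
theorem mem_fiber_eq {z : G} (hz : z ∈ (P : Subgroup G)) (hz1 : z ≠ 1) {u : G}
    (hu : u ∈ fiber p z) :
    ∃ y ∈ Subgroup.centralizer (P : Set G), ¬ p ∣ orderOf y ∧ u = z * y := by
  have hp : p.Prime := Fact.out
  have h := mem_fiber.1 hu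
  refine ⟨pPrimePartOf p u, ?_, not_dvd_orderOf_pPrimePartOf hp u, ?_⟩
  · rw [← B.setup.centralizer_eq hz hz1, Subgroup.mem_centralizer_singleton_iff, ← h]
    exact (commute_pPartOf_pPrimePartOf u).eq.symm
  · conv_lhs => rw [← pPartOf_mul_pPrimePartOf hp u, h]

theorem sum_fiber_X {χ : Cfsg.IrrCharacter G} (h : χ ∈ B.X) {z : G} (hz : z ∈ (P : Subgroup G))
    (hz1 : z ≠ 1) : ∑ u ∈ fiber p z, (χ : G → ℂ) u = ((fiber p z).card : ℂ) * (B.a χ : ℂ) := by
  rw [Finset.sum_congr rfl fun u hu => ?_, Finset.sum_const, nsmul_eq_mul]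
  obtain ⟨y, hy, hyp, rfl⟩ := B.mem_fiber_eq hz hz1 hu
  exact B.valX χ h z hz hz1 y hy hyp

theorem sum_fiber_out {χ : Cfsg.IrrCharacter G} (h : ¬ B.Mem χ) {z : G}
    (hz : z ∈ (P : Subgroup G)) (hz1 : z ≠ 1) : ∑ u ∈ fiber p z, (χ : G → ℂ) u = 0 := by
  have h0 := B.setup.avg_eq_zero B.hM hz hz1 (χ := χ) fun h' => h ((B.mem χ).1 h')
  rw [avg, mul_eq_zero] at h0
  refine h0.resolve_left (inv_ne_zero (Nat.cast_ne_zero.2 (Finset.card_ne_zero.2 ⟨z, ?_⟩)))
  exact self_mem_fiber hz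

theorem sum_split (f : Cfsg.IrrCharacter G → ℂ) (h : ∀ χ, ¬ B.Mem χ → f χ = 0) :
    ∑ χ, f χ = ∑ χ ∈ B.X, f χ + ∑ χ ∈ B.Y, f χ := by
  classical
  rw [← Finset.sum_union B.disj]
  refine (Finset.sum_subset (Finset.subset_univ _) fun χ _ hχ => h χ ?_).symm
  simpa [Blk.Mem, Finset.mem_union] using hχ

/-- The exceptional members together have average `s`. -/
theorem sum_fiber_Y {z : G} (hz : z ∈ (P : Subgroup G)) (hz1 : z ≠ 1) :
    ∑ θ ∈ B.Y, ∑ u ∈ fiber p z, (θ : G → ℂ) u = ((fiber p z).card : ℂ) * (B.s : ℂ) := by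
  classical
  obtain ⟨θ, hθ⟩ := B.Y_nonempty
  have hp : p.Prime := Fact.out
  have h0 : ∑ u ∈ fiber p z, ∑ χ : Cfsg.IrrCharacter G, (χ : G → ℂ) u * conj ((χ : G → ℂ) 1)
      = 0 := by
    refine Finset.sum_eq_zero fun u hu => ?_
    rw [Char.second_orthogonality, if_neg]
    intro h
    have hu1 : u = 1 := isConj_one_left.1 h
    have hz' := mem_fiber.1 hu
    rw [hu1, (pPartOf_eq_one_iff hp 1).2 (by rw [orderOf_one]; exact hp.not_dvd_one)] at hz'
    exact hz1 hz'.symm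
  simp only [value_one, Complex.conj_natCast] at h0
  rw [Finset.sum_comm] at h0
  simp only [← Finset.sum_mul] at h0
  rw [B.sum_split _ fun χ hχ => by rw [B.sum_fiber_out hχ hz hz1, zero_mul],
    Finset.sum_congr rfl fun χ hχ => by rw [B.sum_fiber_X hχ hz hz1, mul_assoc],
    ← Finset.mul_sum, Finset.sum_congr (s₁ := B.Y) rfl (g := fun η : Cfsg.IrrCharacter G =>
      (∑ u ∈ fiber p z, (η : G → ℂ) u) * (dg θ : ℂ)) fun η hη => by rw [B.dg_Y hη hθ],
    ← Finset.sum_mul] at h0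
  have h1 := congrArg (fun n : ℤ => (n : ℂ)) (B.rel_one hθ)
  push_cast at h1
  have hd : (dg θ : ℂ) ≠ 0 := Nat.cast_ne_zero.2 (dg_pos θ).ne'
  refine mul_right_cancel₀ hd ?_
  linear_combination h0 - ((fiber p z).card : ℂ) * h1

/-- The number of pairs from a class of integral values. -/
theorem pairs_formula {w z : G} (hz : z ∈ (P : Subgroup G)) (hz1 : z ≠ 1)
    (hw : ¬ p ∣ orderOf w) {v : Cfsg.IrrCharacter G → ℤ}
    (hv : ∀ χ, B.Mem χ → (χ : G → ℂ) w = v χ) {θ : Cfsg.IrrCharacter G} (hθ : θ ∈ B.Y) :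
    (Nat.card (Pairs p w z) : ℂ) * (Nat.card G : ℂ) =
      ((Subgroup.centralizer ({w} : Set G)).index : ℂ) ^ 2 * ((fiber p z).card : ℂ) *
        (∑ χ ∈ B.X, (B.a χ : ℂ) * (v χ : ℂ) ^ 2 / (dg χ : ℂ) +
          (B.s : ℂ) * (v θ : ℂ) ^ 2 / (dg θ : ℂ)) := by
  classical
  have hcount : (Nat.card (Pairs p w z) : ℂ) =
      ∑ u ∈ fiber p z, (Nat.card {q : G × G // IsConj w q.1 ∧ IsConj w q.2 ∧ q.1 * q.2 = u} : ℂ) := by
    rw [← Nat.cast_sum]
    congr 1
    rw [Nat.card_eq_fintype_card, Fintype.card_subtype,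
      Finset.card_eq_sum_card_fiberwise (f := fun q : G × G => q.1 * q.2) (t := fiber p z)
        fun q hq => mem_fiber.2 (Finset.mem_filter.1 hq).2.2.2]
    refine Finset.sum_congr rfl fun u hu => ?_
    rw [Nat.card_eq_fintype_card, Fintype.card_subtype, Finset.filter_filter]
    congr 1
    ext q
    simp only [Finset.mem_filter, Finset.mem_univ, true_and]
    exact ⟨fun h => ⟨h.1.1, h.1.2.1, h.2⟩,
      fun h => ⟨⟨h.1, h.2.1, by rw [h.2.2]; exact mem_fiber.1 hu⟩, h.2.2⟩⟩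
  set cl : ℂ := ((Subgroup.centralizer ({w} : Set G)).index : ℂ) with hcl
  have hG0 : (Nat.card G : ℂ) ≠ 0 := Nat.cast_ne_zero.2 Nat.card_pos.ne'
  rw [hcount, Finset.sum_mul]
  simp only [S0840.result, finsum_eq_sum_of_fintype, Char.card_isConj_eq_index, ← hcl]
  rw [Finset.sum_congr rfl (g := fun u => cl ^ 2 * ∑ χ : Cfsg.IrrCharacter G,
      (χ : G → ℂ) w * (χ : G → ℂ) w / (χ : G → ℂ) 1 * conj ((χ : G → ℂ) u)) fun u _ => by
    rw [div_mul_eq_mul_div, div_mul_cancel₀ _ hG0, sq]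
    congr 1
    exact Finset.sum_congr rfl fun χ _ => by ring]
  rw [← Finset.mul_sum, Finset.sum_comm, mul_assoc]
  congr 1
  simp only [← Finset.mul_sum, ← map_sum, value_one]
  rw [B.sum_split _ fun χ hχ => by rw [B.sum_fiber_out hχ hz hz1, map_zero, mul_zero],
    mul_add, Finset.mul_sum]
  congr 1
  · refine Finset.sum_congr rfl fun χ hχ => ?_
    rw [B.sum_fiber_X hχ hz hz1, hv χ (Or.inl hχ), map_mul, Complex.conj_natCast, map_intCast]
    ring
  · rw [Finset.sum_congr rfl (g := fun η : Cfsg.IrrCharacter G => (v θ : ℂ) * (v θ : ℂ) /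
      (dg θ : ℂ) * conj (∑ u ∈ fiber p z, (η : G → ℂ) u)) fun η hη => by
        rw [B.eqY η hη θ hθ w hw, hv θ (Or.inr hθ), B.dg_Y hη hθ],
      ← Finset.mul_sum, ← map_sum, B.sum_fiber_Y hz hz1, map_mul, Complex.conj_natCast,
      map_intCast]
    ring

end Blk

/-- With an automizer of odd order no involution inverts a generator. -/
theorem not_inverts (hS : Setup P e) (hp : p ≠ 2) (he : Odd e) {z : G} (hz : z ∈ (P : Subgroup G))
    (hz1 : z ≠ 1) {x : G} (hx : x * z * x⁻¹ = z⁻¹) : False := by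
  obtain ⟨-, y, hy, hgen, hpow, -⟩ := hS.exists_y
  have hxN : x ∈ Subgroup.normalizer (P : Set G) := by
    have := hS.mem_normalizer hz hz1 (c := x⁻¹) (by rw [inv_inv, hx]; exact inv_mem hz)
    simpa using inv_mem this
  obtain ⟨j, hj⟩ := hgen x hxN
  have hjn : y ^ j ∈ Subgroup.normalizer (P : Set G) := pow_mem hy j
  have hyz : y ^ j * z * (y ^ j)⁻¹ = z⁻¹ := by
    have hm : y ^ j * z * (y ^ j)⁻¹ ∈ (P : Subgroup G) := hS.conj_mem hz hjn
    have hc := Subgroup.mem_centralizer_iff.1 hj _ hm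
    rw [← hx]
    calc y ^ j * z * (y ^ j)⁻¹ = (y ^ j * z * (y ^ j)⁻¹) * (x * (y ^ j)⁻¹) * (x * (y ^ j)⁻¹)⁻¹ := by
          group
      _ = (x * (y ^ j)⁻¹) * (y ^ j * z * (y ^ j)⁻¹) * (x * (y ^ j)⁻¹)⁻¹ := by rw [hc]
      _ = x * z * x⁻¹ := by group
  have h2 : y ^ (2 * j) ∈ Subgroup.centralizer (P : Set G) := by
    rw [← hS.centralizer_eq hz hz1, Subgroup.mem_centralizer_singleton_iff, ← mul_inv_eq_iff_eq_mul]
    calc y ^ (2 * j) * z * (y ^ (2 * j))⁻¹
        = y ^ j * (y ^ j * z * (y ^ j)⁻¹) * (y ^ j)⁻¹ := by rw [two_mul, pow_add]; group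
      _ = y ^ j * z⁻¹ * (y ^ j)⁻¹ := by rw [hyz]
      _ = (y ^ j * z * (y ^ j)⁻¹)⁻¹ := by group
      _ = z := by rw [hyz, inv_inv]
  have hej : e ∣ j := (Nat.Coprime.dvd_of_dvd_mul_left he.coprime_two_right ((hpow _).1 h2))
  have h3 := (hpow j).2 hej
  rw [← hS.centralizer_eq hz hz1, Subgroup.mem_centralizer_singleton_iff] at h3
  rw [h3, mul_inv_cancel_right] at hyz
  have h4 : z ^ 2 = 1 := by
    rw [sq]; nth_rw 2 [hyz]; exact mul_inv_cancel z
  have h5 := orderOf_dvd_of_pow_eq_one h4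
  obtain ⟨k, hk⟩ := exists_orderOf_pow hz
  rw [hk] at h5
  have hk0 : k ≠ 0 := fun h => hz1 (orderOf_eq_one_iff.1 (by rw [hk, h, pow_zero]))
  exact hp ((Nat.prime_dvd_prime_iff_eq (Fact.out : p.Prime) Nat.prime_two).1
    ((dvd_pow_self p hk0).trans h5))

theorem no_pairs (hS : Setup P e) (hp : p ≠ 2) (he : Odd e) {z : G} (hz : z ∈ (P : Subgroup G))
    (hz1 : z ≠ 1) {w : G} (hw : orderOf w = 2) : Nat.card (Pairs p w z) = 0 := by
  rw [Nat.card_eq_zero]
  refine Or.inl ⟨fun ⟨q, h1, h2, h3⟩ => ?_⟩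
  have hsq : ∀ x, IsConj w x → x * x = 1 := fun x hx => by
    obtain ⟨c, rfl⟩ := isConj_iff.1 hx
    rw [← sq, conj_pow, ← hw, pow_orderOf_eq_one, mul_one, mul_inv_cancel]
  have := (inverts_pPart (p := p) (hsq _ h1) (hsq _ h2)).1
  rw [h3] at this
  exact not_inverts hS hp he hz hz1 this

/-- The square of the number of conjugates inverting a generator. -/
theorem card_pairs (hS : Setup P e) (hp : p ≠ 2) {z : G} (hz : z ∈ (P : Subgroup G))
    (hz1 : z ≠ 1) {w : G} (hw : orderOf w = 2) :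
    ∃ n : ℕ, n * n = p * Nat.card (Pairs p w z) := by
  classical
  have hp' : p.Prime := Fact.out
  let J := {x : G // IsConj w x ∧ x * z * x⁻¹ = z⁻¹}
  have hsq : ∀ x, IsConj w x → x * x = 1 := fun x hx => by
    obtain ⟨c, rfl⟩ := isConj_iff.1 hx
    rw [← sq, conj_pow, ← hw, pow_orderOf_eq_one, mul_one, mul_inv_cancel]
  have hinvP : ∀ x : J, ∀ v ∈ (P : Subgroup G), x.1 * v * x.1⁻¹ = v⁻¹ := by
    intro x v hv
    rw [← hS.zpowers_eq hz hz1] at hv
    obtain ⟨i, rfl⟩ := Subgroup.mem_zpowers_iff.1 hv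
    rw [← conj_zpow, x.2.2, inv_zpow]
  have hC : ∀ x y : J, x.1 * y.1 ∈ Subgroup.centralizer (P : Set G) := fun x y => by
    refine Subgroup.mem_centralizer_iff.2 fun v hv => ?_
    have e1 := hinvP y v hv
    have e2 := hinvP x v⁻¹ (inv_mem hv)
    rw [inv_inv, ← e1] at e2
    rw [← mul_inv_eq_iff_eq_mul.1 (show x.1 * y.1 * v * (x.1 * y.1)⁻¹ = v by
      rw [show x.1 * y.1 * v * (x.1 * y.1)⁻¹ = x.1 * (y.1 * v * y.1⁻¹) * x.1⁻¹ by group]
      exact e2)]
  have hmem : ∀ c ∈ Subgroup.centralizer (P : Set G), pPartOf p c ∈ (P : Subgroup G) ∧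
      ∀ v ∈ (P : Subgroup G), pPartOf p (c * v) = pPartOf p c * v := by
    intro c hc
    obtain ⟨K, hKC, -, hKm, -, -, hdec⟩ := hS.exists_complement
    obtain ⟨a, ha, b, hb, rfl⟩ := hdec c hc
    have hab : ∀ t ∈ (P : Subgroup G), pPartOf p (b * t) = t := fun t ht => by
      have hcm : Commute t b := Subgroup.mem_centralizer_iff.1 (hKC hb) t ht
      rw [← hcm.eq]
      exact (parts_mul hp' hcm (exists_orderOf_pow ht) ((hKm b).1 hb).2).1
    refine ⟨by rw [hab a ha]; exact ha, fun v hv => ?_⟩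
    rw [mul_assoc, hab _ (mul_mem ha hv), hab a ha]
  let Φ : J × J → (P : Subgroup G) := fun q =>
    ⟨pPartOf p (q.1.1 * q.2.1), (hmem _ (hC q.1 q.2)).1⟩
  have hpairs : Nat.card {q : J × J // Φ q = ⟨z, hz⟩} = Nat.card (Pairs p w z) := by
    refine Nat.card_congr
      { toFun := fun q => ⟨(q.1.1.1, q.1.2.1), q.1.1.2.1, q.1.2.2.1, congrArg Subtype.val q.2⟩
        invFun := fun q => ⟨(⟨q.1.1, q.2.1, ?_⟩, ⟨q.1.2, q.2.2.1, ?_⟩), Subtype.ext q.2.2.2⟩
        left_inv := fun q => rfl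
        right_inv := fun q => rfl }
    · have := (inverts_pPart (p := p) (hsq _ q.2.1) (hsq _ q.2.2.1)).1
      rwa [q.2.2.2] at this
    · have := (inverts_pPart (p := p) (hsq _ q.2.1) (hsq _ q.2.2.1)).2
      rwa [q.2.2.2] at this
  -- the fibres have equal size
  have heq : ∀ a : (P : Subgroup G), Nat.card {q : J × J // Φ q = a} =
      Nat.card {q : J × J // Φ q = ⟨z, hz⟩} := by
    intro a
    obtain ⟨v, hv⟩ : ∃ v : (P : Subgroup G), v ^ 2 = a * ⟨z, hz⟩⁻¹ := by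
      have hco : (Nat.card (P : Subgroup G)).Coprime 2 := by
        rw [hS.card]; exact (Nat.coprime_primes hp' Nat.prime_two).2 hp
      exact (Nat.Coprime.pow_left_bijective hco).2 _
    have hvz : (v : G) * (v : G) = (a : G) * z⁻¹ := by
      rw [← sq]; exact congrArg Subtype.val hv
    let mv : J → {t : G // t ∈ (P : Subgroup G)} → J := fun y t => ⟨(t : G) * y.1 * (t : G)⁻¹,
      y.2.1.trans (isConj_iff.2 ⟨t, rfl⟩), by
        have h := hinvP y z hz
        have h1 := hS.comm t.2 hz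
        have h2 := hS.comm t.2 (inv_mem hz)
        calc (t : G) * y.1 * (t : G)⁻¹ * z * ((t : G) * y.1 * (t : G)⁻¹)⁻¹
            = (t : G) * y.1 * ((t : G)⁻¹ * ((t : G) * z) * (t : G)⁻¹ * (t : G)) * y.1⁻¹ *
                (t : G)⁻¹ := by rw [h1]; group
          _ = (t : G) * (y.1 * z * y.1⁻¹) * (t : G)⁻¹ := by group
          _ = z⁻¹ := by rw [h, h2, mul_inv_cancel_right]⟩
    have hΦ : ∀ (x y : J) (t : (P : Subgroup G)),
        pPartOf p (x.1 * (mv y t).1) = pPartOf p (x.1 * y.1) * ((t : G) * (t : G))⁻¹ := by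
      intro x y t
      rw [← (hmem _ (hC x y)).2 _ (inv_mem (mul_mem t.2 t.2))]
      congr 1
      have h1 : x.1 * (t : G) = (t : G)⁻¹ * x.1 := mul_inv_eq_iff_eq_mul.1 (hinvP x _ t.2)
      have h2 := Subgroup.mem_centralizer_iff.1 (hC x y) _ (inv_mem t.2)
      calc x.1 * ((t : G) * y.1 * (t : G)⁻¹) = x.1 * (t : G) * y.1 * (t : G)⁻¹ := by group
        _ = (t : G)⁻¹ * (x.1 * y.1) * (t : G)⁻¹ := by rw [h1]; group
        _ = x.1 * y.1 * ((t : G) * (t : G))⁻¹ := by rw [h2]; group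
    exact Nat.card_congr
      { toFun := fun q => ⟨(q.1.1, mv q.1.2 v), Subtype.ext (by
          show pPartOf p _ = z
          rw [hΦ, show pPartOf p (q.1.1.1 * q.1.2.1) = (a : G) from congrArg Subtype.val q.2, hvz,
            mul_inv_rev, inv_inv, ← mul_assoc, hS.comm a.2 hz, mul_inv_cancel_right])⟩
        invFun := fun q => ⟨(q.1.1, mv q.1.2 v⁻¹), Subtype.ext (by
          show pPartOf p _ = _
          rw [hΦ, show pPartOf p (q.1.1.1 * q.1.2.1) = z from congrArg Subtype.val q.2,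
            Subgroup.coe_inv, ← mul_inv_rev, inv_inv, hvz, hS.comm hz (mul_mem a.2 (inv_mem hz)),
            inv_mul_cancel_right])⟩
        left_inv := fun q => Subtype.ext (Prod.ext rfl (Subtype.ext (by simp [mv, mul_assoc])))
        right_inv := fun q => Subtype.ext (Prod.ext rfl (Subtype.ext (by simp [mv, mul_assoc]))) }
  refine ⟨Nat.card J, ?_⟩
  rw [← Nat.card_prod, ← Nat.card_congr (Equiv.sigmaFiberEquiv Φ), Nat.card_sigma,
    Finset.sum_congr rfl fun a _ => (heq a).trans hpairs, Finset.sum_const, Finset.card_univ,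
    ← Nat.card_eq_fintype_card, hS.card, smul_eq_mul]

end Cfsg.Agent.Fg24.M23
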