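import Cfsg.Agent.Fusion.Transfer
import Cfsg.Agent.BlockThms.Normal
import Cfsg.Agent.SmallOrder.Below6000
import Cfsg.Agent.SmallOrder.Classes168

/-!
# A group of order 2688 with few involutions and small centralizers at seven
-/

set_option autoImplicit false
set_option linter.unusedSectionVars false

namespace Cfsg.Agent.Fg24.M23

open Cfsg.Agent Subgroup

universe u

/-- The hypotheses on the centralizer of an involution. -/
structure CH (H : Type u) [Group H] (t : H) : Prop where
  card : Nat.card H = 2688
  ord_t : orderOf t = 2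
  central : ∀ h : H, Commute t h
  cent7 : ∀ x : H, orderOf x = 7 → Nat.card (centralizer ({x} : Set H)) = 14
  norm7 : ∀ x : H, orderOf x = 7 → Nat.card (normalizer (zpowers x : Set H)) = 42
  invol : Nat.card {x : H // x * x = 1} = 100

/-- A group of order 128 does not have exactly one hundred solutions of `x * x = 1`. -/
theorem no_hundred {K : Type*} [Group K] [Finite K] (hK : Nat.card K = 128)
    (h : Nat.card {x : K // x * x = 1} = 100) : False := by
  classical
  have := Fintype.ofFinite K
  let S := Finset.univ.filter fun x : K => x * x = 1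
  have hS : S.card = 100 := by
    rw [← h, Nat.card_eq_fintype_card, Fintype.card_subtype]
  have hc : ∀ a ∈ S, ∀ y : K, Commute a y := by
    intro a ha y
    simp only [S, Finset.mem_filter, Finset.mem_univ, true_and] at ha
    let S' := S.map ⟨fun x => a * x, mul_right_injective a⟩
    have h1 : (S ∪ S').card ≤ 128 := by
      rw [← hK, Nat.card_eq_fintype_card]; exact Finset.card_le_univ _
    have h2 := Finset.card_union_add_card_inter S S'
    rw [Finset.card_map, hS] at h2
    have h3 : S ∩ S' ⊆ Finset.univ.filter fun x => x ∈ centralizer ({a} : Set K) := by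
      intro z hz
      simp only [S, S', Finset.mem_inter, Finset.mem_map, Finset.mem_filter, Finset.mem_univ,
        true_and, Function.Embedding.coeFn_mk] at hz
      obtain ⟨hz, x, hx, rfl⟩ := hz
      simp only [Finset.mem_filter, Finset.mem_univ, true_and, mem_centralizer_singleton_iff]
      have hxa : a * x = x * a := by
        calc a * x = a * x * ((x * a) * (x * a)⁻¹) := by group
          _ = a * (x * x) * a * (x * a)⁻¹ := by group
          _ = (x * a)⁻¹ := by rw [hx, mul_one, ha, one_mul]
          _ = x * a := by rw [mul_inv_rev, inv_eq_of_mul_eq_one_right hx,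
            inv_eq_of_mul_eq_one_right ha]; exact (inv_eq_of_mul_eq_one_right hz).symm.trans (by
              rw [mul_inv_rev, inv_eq_of_mul_eq_one_right hx, inv_eq_of_mul_eq_one_right ha])
      rw [mul_assoc, ← hxa]
    have h4 := Finset.card_le_card h3
    rw [← Fintype.card_subtype, ← Nat.card_eq_fintype_card] at h4
    have h5 := card_subgroup_dvd_card (centralizer ({a} : Set K))
    rw [hK] at h5
    have h6 : Nat.card (centralizer ({a} : Set K)) = 128 := by
      replace h4 : (S ∩ S').card ≤ Nat.card (centralizer ({a} : Set K)) := h4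
      obtain ⟨k, hk⟩ := h5
      have : k < 2 := by
        by_contra hk2
        have : Nat.card (centralizer ({a} : Set K)) * 2 ≤
          Nat.card (centralizer ({a} : Set K)) * k := Nat.mul_le_mul_left _ (by omega)
        omega
      interval_cases k <;> omega
    have h7 := eq_top_of_card_eq _ (h6.trans hK.symm)
    exact (mem_centralizer_singleton_iff.1 (h7 ▸ mem_top y : y ∈ centralizer ({a} : Set K))).symm
  let A : Subgroup K :=
    { carrier := {x | x * x = 1}
      one_mem' := mul_one 1
      mul_mem' := fun {a b} ha hb => by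
        have := hc a (Finset.mem_filter.2 ⟨Finset.mem_univ _, ha⟩) b
        show a * b * (a * b) = 1
        rw [this.symm.mul_mul_mul_comm, ha, hb, mul_one]
      inv_mem' := fun {a} ha => by
        show a⁻¹ * a⁻¹ = 1
        rw [← mul_inv_rev, ha, inv_one] }
  have := card_subgroup_dvd_card A
  rw [show Nat.card A = 100 from h, hK] at this
  norm_num at this

namespace CH

variable {H : Type u} [Group H] [Finite H] {t : H} (C : CH H t)
include C

theorem t_ne : t ≠ 1 := fun h => by have := C.ord_t; rw [h, orderOf_one] at this; omega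

theorem tt : t * t = 1 := by rw [← sq, ← C.ord_t, pow_orderOf_eq_one]

theorem exists_seven : ∃ y : H, orderOf y = 7 :=
  exists_prime_orderOf_dvd_card' 7 (hp := ⟨by norm_num⟩) (by rw [C.card]; norm_num)

theorem xt_mem {x : H} (hx : orderOf x = 7) :
    orderOf (x * t) = 14 ∧ centralizer ({x} : Set H) = zpowers (x * t) := by
  have h14 : orderOf (x * t) = 14 := by
    rw [(C.central x).symm.orderOf_mul_eq_mul_orderOf_of_coprime (by rw [hx, C.ord_t]; norm_num),
      hx, C.ord_t]
  refine ⟨h14, (eq_of_le_of_card_ge (zpowers_le.2 ?_)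
    (by rw [C.cent7 x hx, Nat.card_zpowers, h14])).symm⟩
  exact mul_mem (mem_centralizer_singleton_iff.2 rfl) (mem_centralizer_singleton_iff.2 (C.central x))

theorem not_three {x z : H} (hx : orderOf x = 7) (hz : orderOf z = 3) : ¬ Commute z x := fun h => by
  have := orderOf_dvd_natCard (centralizer ({x} : Set H)) (x := z)
    (mem_centralizer_singleton_iff.2 h.eq)
  rw [C.cent7 x hx, hz] at this
  norm_num at this

/-- A proper normal subgroup containing `t` is a 2-group. -/
theorem isPGroup_of_normal {M : Subgroup H} [M.Normal] (ht : t ∈ M) (hne : M ≠ ⊤) :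
    IsPGroup 2 M := by
  classical
  haveI : Fact (Nat.Prime 2) := ⟨Nat.prime_two⟩
  haveI : Fact (Nat.Prime 7) := ⟨by norm_num⟩
  haveI : Fact (Nat.Prime 3) := ⟨Nat.prime_three⟩
  have hdvd : Nat.card M ∣ 2 ^ 7 * 21 := by
    have := card_subgroup_dvd_card M; rw [C.card] at this; exact this
  have h7 : ¬ 7 ∣ Nat.card M := by
    intro h7
    obtain ⟨⟨x, hxM⟩, hx⟩ := exists_prime_orderOf_dvd_card' (G := M) 7 h7
    rw [← orderOf_coe] at hx
    change orderOf x = 7 at hx
    let P : Sylow 7 H := Sylow.ofCard (zpowers x) (by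
      rw [Nat.card_zpowers, hx, C.card, show (2688 : ℕ) = 7 * 384 by norm_num,
        Nat.factorization_mul (by norm_num) (by norm_num), Finsupp.add_apply,
        Nat.Prime.factorization_self (by norm_num), Nat.factorization_eq_zero_of_not_dvd
          (by norm_num)]
      norm_num)
    have hPM : (P : Subgroup H) ≤ M := zpowers_le.2 hxM
    have hsup := Sylow.normalizer_sup_eq_top' P hPM
    set N := normalizer ((P : Subgroup H) : Set H) with hN
    have hNc : Nat.card N = 42 := C.norm7 x hx
    have hcard := Core.card_sup_mul_card_inf N M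
    rw [show N ⊔ M = ⊤ from hsup, card_top, C.card, hNc] at hcard
    obtain ⟨h14, hCz⟩ := C.xt_mem hx
    have hxN : x * t ∈ N := mul_mem (le_normalizer (mem_zpowers x)) (by
      refine centralizer_le_normalizer _ (mem_centralizer_iff.2 fun v _ => ?_)
      exact (C.central v).eq.symm)
    have hle : zpowers (x * t) ≤ N ⊓ M := zpowers_le.2 ⟨hxN, mul_mem hxM ht⟩
    have hj : Nat.card (N ⊓ M : Subgroup H) = 14 := by
      have h1 := card_dvd_of_le hle
      rw [Nat.card_zpowers, h14] at h1
      have h2 := card_dvd_of_le (inf_le_left : N ⊓ M ≤ N)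
      rw [hNc] at h2
      obtain ⟨k, hk⟩ := h1
      rw [hk, show (42 : ℕ) = 14 * 3 by norm_num] at h2
      rcases Nat.prime_three.eq_one_or_self_of_dvd k
        (Nat.dvd_of_mul_dvd_mul_left (by norm_num) h2) with rfl | rfl
      · omega
      · exfalso
        have hNM : N ≤ M := inf_eq_left.1 (eq_of_le_of_card_ge inf_le_left (by rw [hk, hNc]))
        exact hne (by rw [← hsup]; exact (sup_eq_right.2 hNM).symm)
    rw [hj] at hcard
    have hM : Nat.card M = 896 := by omega
    -- the complement
    let P' : Sylow 7 M := P.subtype hPM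
    have hnc : normalizer ((P' : Subgroup M) : Set M) ≤ centralizer ((P' : Subgroup M) : Set M) := by
      intro c hc
      have hcN : (c : H) ∈ N := by
        refine mem_normalizer_iff.2 fun v => ?_
        constructor
        · intro hv
          exact (mem_normalizer_iff.1 hc ⟨v, hPM hv⟩).1 hv
        · intro hv
          have hvM : v ∈ M := by
            have := Subgroup.Normal.conj_mem inferInstance _ (hPM hv) ((c : H))⁻¹
            simpa [mul_assoc] using this
          exact (mem_normalizer_iff.1 hc ⟨v, hvM⟩).2 hv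
      have hcz : (c : H) ∈ centralizer ({x} : Set H) := by
        rw [hCz, eq_of_le_of_card_ge hle (by rw [hj, Nat.card_zpowers, h14])]
        exact ⟨hcN, c.2⟩
      refine mem_centralizer_iff.2 fun v hv => Subtype.ext ?_
      obtain ⟨i, hi⟩ := (mem_zpowers_iff.1 (show (v : H) ∈ zpowers x from hv))
      show (v : H) * (c : H) = (c : H) * (v : H)
      rw [← hi]
      exact ((show Commute (c : H) x from mem_centralizer_singleton_iff.1 hcz).zpow_right i).eq.symm
    obtain ⟨K, hK, hco, k, hk⟩ := Fusion.hasNormalPComplement_iff_exists.1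
      (Fusion.hasNormalPComplement_of_normalizer_le_centralizer P' hnc)
    have hmem : ∀ c : M, c ∈ K ↔ ¬ 7 ∣ orderOf c := fun c =>
      ⟨fun h hd => (Fact.out : Nat.Prime 7).coprime_iff_not_dvd.1 hco.symm
          (hd.trans (orderOf_dvd_natCard K h)),
        fun h => BlockThms.mem_of_regular Fact.out ⟨k, hk⟩ h⟩
    have hK128 : Nat.card K = 128 := by
      have h1 := K.card_mul_index
      rw [hk, hM] at h1
      have hk1 : k = 1 := by
        rcases Nat.lt_or_ge k 2 with h | h
        · interval_cases k
          · exfalso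
            rw [pow_zero, mul_one] at h1
            rw [h1] at hco
            norm_num at hco
          · rfl
        · have : 7 ^ 2 ∣ 896 := h1 ▸ (pow_dvd_pow 7 h).mul_left _
          norm_num at this
      rw [hk1] at h1
      omega
    set S := K.map M.subtype with hS
    have hS128 : Nat.card S = 128 := by rw [hS, card_map_of_injective M.subtype_injective, hK128]
    haveI : S.Normal := ⟨fun n hn g => by
      obtain ⟨c, hc, rfl⟩ := hn
      refine ⟨⟨g * c * g⁻¹, Subgroup.Normal.conj_mem inferInstance _ c.2 g⟩, (hmem _).2 ?_, rfl⟩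
      have := (hmem c).1 hc
      rw [← orderOf_coe] at this
      rw [Subgroup.orderOf_mk]
      rwa [show g * (c : H) * g⁻¹ = MulAut.conj g (c : H) by simp, MulEquiv.orderOf_eq]⟩
    have hinv : ∀ y : H, y * y = 1 → y ∈ S := by
      intro y hy
      by_contra hyS
      have h1 := Core.card_sup_mul_card_inf (zpowers y) S
      have h2 := card_subgroup_dvd_card (zpowers y ⊔ S)
      have h3 : Nat.card (zpowers y) = 2 := by
        rw [Nat.card_zpowers]
        exact orderOf_eq_prime (by rw [sq, hy]) fun e => hyS (e ▸ one_mem S)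
      have h4 : Nat.card (zpowers y ⊓ S : Subgroup H) = 1 := by
        have h5 := card_dvd_of_le (inf_le_left : zpowers y ⊓ S ≤ zpowers y)
        rw [h3] at h5
        refine (Nat.prime_two.eq_one_or_self_of_dvd _ h5).resolve_right fun e => hyS ?_
        exact (inf_eq_left.1 (eq_of_le_of_card_ge inf_le_left (by rw [e, h3]))) (mem_zpowers y)
      rw [h3, h4, hS128] at h1
      rw [show Nat.card (zpowers y ⊔ S : Subgroup H) = 256 by omega, C.card] at h2
      norm_num at h2
    refine no_hundred hS128 ?_
    rw [← C.invol]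
    exact Nat.card_congr
      { toFun := fun x => ⟨x.1.1, congrArg Subtype.val x.2⟩
        invFun := fun x => ⟨⟨x.1, hinv _ x.2⟩, Subtype.ext x.2⟩
        left_inv := fun _ => rfl
        right_inv := fun _ => rfl }
  have h3 : ¬ 3 ∣ Nat.card M := by
    intro h3
    obtain ⟨⟨z, hzM⟩, hz⟩ := exists_prime_orderOf_dvd_card' (G := M) 3 h3
    rw [← orderOf_coe] at hz
    change orderOf z = 3 at hz
    let Q : Sylow 3 H := Sylow.ofCard (zpowers z) (by
      rw [Nat.card_zpowers, hz, C.card, show (2688 : ℕ) = 3 * 896 by norm_num,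
        Nat.factorization_mul (by norm_num) (by norm_num), Finsupp.add_apply,
        Nat.Prime.factorization_self (by norm_num), Nat.factorization_eq_zero_of_not_dvd
          (by norm_num)]
      norm_num)
    have hsup := Sylow.normalizer_sup_eq_top' Q (show (Q : Subgroup H) ≤ M from zpowers_le.2 hzM)
    have hcard := Core.card_sup_mul_card_inf (normalizer ((Q : Subgroup H) : Set H)) M
    rw [show normalizer ((Q : Subgroup H) : Set H) ⊔ M = ⊤ from hsup, card_top, C.card] at hcard
    have hd : 7 ∣ Nat.card (normalizer ((Q : Subgroup H) : Set H)) * Nat.card M :=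
      hcard ▸ (show (7 : ℕ) ∣ 2688 by norm_num).mul_right _
    obtain ⟨⟨y, hyN⟩, hy⟩ := exists_prime_orderOf_dvd_card'
      (G := (normalizer ((Q : Subgroup H) : Set H) : Subgroup H)) 7
      ((Nat.Prime.dvd_mul Fact.out).1 hd |>.resolve_right h7)
    rw [← orderOf_coe] at hy
    change orderOf y = 7 at hy
    apply C.not_three hy hz
    have h := (mem_normalizer_iff.1 hyN z).1 (mem_zpowers z)
    change y * z * y⁻¹ ∈ zpowers z at h
    rw [mem_zpowers_iff_mem_range_orderOf, hz] at h
    obtain ⟨i, hi, he⟩ := Finset.mem_image.1 h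
    rw [Finset.mem_range] at hi
    interval_cases i
    · exfalso
      rw [pow_zero] at he
      rw [conj_eq_one_iff.1 he.symm, orderOf_one] at hz
      omega
    · rw [pow_one] at he
      exact (mul_inv_eq_iff_eq_mul.1 he.symm).symm
    · exfalso
      have hn : ∀ j : ℕ, y ^ j * z * (y ^ j)⁻¹ = z ^ (2 ^ j) := by
        intro j
        induction j with
        | zero => simp
        | succ j ih =>
          calc y ^ (j + 1) * z * (y ^ (j + 1))⁻¹ = y * (y ^ j * z * (y ^ j)⁻¹) * y⁻¹ := by
                rw [pow_succ']; group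
            _ = (y * z * y⁻¹) ^ (2 ^ j) := by rw [ih, conj_pow]
            _ = z ^ (2 ^ (j + 1)) := by rw [← he, ← pow_mul, pow_succ' 2]
      have h7' := hn 7
      rw [← hy, pow_orderOf_eq_one, one_mul, inv_one, mul_one, hy, ← pow_mod_orderOf, hz] at h7'
      norm_num at h7'
      have : z ^ 1 = 1 := mul_left_cancel (a := z) (by rw [pow_one, mul_one, ← sq]; exact h7'.symm)
      rw [pow_one] at this
      rw [this, orderOf_one] at hz
      omega
  have hc : (Nat.card M).Coprime 21 := by
    rw [show (21 : ℕ) = 3 * 7 from rfl]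
    exact Nat.Coprime.mul_right (Nat.prime_three.coprime_iff_not_dvd.2 h3).symm
      ((Fact.out : Nat.Prime 7).coprime_iff_not_dvd.2 h7).symm
  obtain ⟨k, -, hk⟩ := (Nat.dvd_prime_pow Nat.prime_two).1 (hc.dvd_of_dvd_mul_right hdvd)
  exact IsPGroup.of_card hk

/-- The largest normal 2-subgroup, its properties. -/
theorem exists_core : ∃ O : Subgroup H, O.Normal ∧ t ∈ O ∧ Nat.card O = 16 ∧
    ∀ M : Subgroup H, M.Normal → t ∈ M → M ≠ ⊤ → M ≤ O := by
  classical
  haveI : Fact (Nat.Prime 2) := ⟨Nat.prime_two⟩
  haveI : Fact (Nat.Prime 7) := ⟨by norm_num⟩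
  let s : Set (Subgroup H) := {M | M.Normal ∧ t ∈ M ∧ M ≠ ⊤}
  have hz : zpowers t ∈ s := by
    refine ⟨⟨fun n hn g => ?_⟩, mem_zpowers t, fun h => ?_⟩
    · obtain ⟨i, rfl⟩ := hn
      show g * t ^ i * g⁻¹ ∈ zpowers t
      rw [← ((C.central g).zpow_left i).eq, mul_inv_cancel_right]
      exact zpow_mem_zpowers t i
    · have := congrArg (fun K : Subgroup H => Nat.card K) h
      simp only [Nat.card_zpowers, C.ord_t, card_top, C.card] at this
      norm_num at this
  obtain ⟨O, hO, hmax⟩ := Set.Finite.exists_maximalFor (fun M : Subgroup H => Nat.card M) s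
    (Set.toFinite _) ⟨_, hz⟩
  obtain ⟨hOn, htO, hOne⟩ := hO
  haveI := hOn
  have hO2 := C.isPGroup_of_normal htO hOne
  have hle : ∀ M : Subgroup H, M.Normal → t ∈ M → M ≠ ⊤ → M ≤ O := by
    intro M hM htM hMne
    haveI := hM
    have hM2 := C.isPGroup_of_normal htM hMne
    have hp : IsPGroup 2 (M ⊔ O : Subgroup H) := hM2.to_sup_of_normal_right hO2
    have hs : M ⊔ O ∈ s := ⟨inferInstance, le_sup_left (a := M) htM, fun h => by
      rw [h] at hp
      obtain ⟨k, hk⟩ := IsPGroup.iff_card.1 hp
      rw [card_top, C.card] at hk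
      have : 7 ∣ 2 ^ k := hk ▸ by norm_num
      have := (Nat.prime_dvd_prime_iff_eq Fact.out Nat.prime_two).1
        ((Fact.out : Nat.Prime 7).dvd_of_dvd_pow this)
      omega⟩
    have h1 : Nat.card O ≤ Nat.card (M ⊔ O : Subgroup H) :=
      Nat.le_of_dvd Nat.card_pos (card_dvd_of_le le_sup_right)
    have := eq_of_le_of_card_ge (le_sup_right : O ≤ M ⊔ O) (hmax hs h1)
    exact le_sup_left.trans this.ge
  refine ⟨O, hOn, htO, ?_, hle⟩
  obtain ⟨b, hb⟩ := IsPGroup.iff_card.1 hO2
  -- congruence from the fixed points of an element of order seven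
  obtain ⟨y, hy⟩ := C.exists_seven
  have hY : IsPGroup 7 (zpowers y) := IsPGroup.of_card (n := 1) (by
    rw [Nat.card_zpowers, hy, pow_one])
  letI : MulAction (zpowers y) O :=
    MulAction.compHom O ((MulAut.conjNormal (H := O)).comp (zpowers y).subtype)
  have hfix : Nat.card (MulAction.fixedPoints (zpowers y) O) = 2 := by
    rw [← C.ord_t, ← Nat.card_zpowers]
    have hmem : ∀ v : O, v ∈ MulAction.fixedPoints (zpowers y) O ↔ Commute (v : H) y := by
      intro v
      rw [MulAction.mem_fixedPoints]
      constructor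
      · intro h
        have h1 := congrArg Subtype.val (h ⟨y, mem_zpowers y⟩)
        change y * (v : H) * y⁻¹ = (v : H) at h1
        exact (mul_inv_eq_iff_eq_mul.1 h1).symm
      · rintro h ⟨g, i, rfl⟩
        refine Subtype.ext ?_
        show y ^ i * (v : H) * (y ^ i)⁻¹ = (v : H)
        rw [← (h.zpow_right i).eq, mul_inv_cancel_right]
    refine Nat.card_congr
      { toFun := fun v => ⟨(v.1 : H), ?_⟩
        invFun := fun v => ⟨⟨v.1, (zpowers_le.2 htO) v.2⟩, (hmem _).2 ?_⟩
        left_inv := fun _ => rfl
        right_inv := fun _ => rfl }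
    · have hv := (hmem v.1).1 v.2
      obtain ⟨h14, hCz⟩ := C.xt_mem hy
      have hvC : (v.1 : H) ∈ centralizer ({y} : Set H) := mem_centralizer_singleton_iff.2 hv.eq
      rw [hCz, mem_zpowers_iff] at hvC
      obtain ⟨i, hi⟩ := hvC
      obtain ⟨j, hj⟩ := IsPGroup.iff_orderOf.1 hO2 v.1
      rw [← orderOf_coe] at hj
      -- its seventh part is trivial
      have h7 : y ^ i = (v.1 : H) * (t ^ i)⁻¹ := by
        rw [← hi, ((C.central y).symm).mul_zpow, mul_inv_cancel_right]
      have hc2 : Commute (v.1 : H) (t ^ i)⁻¹ := ((C.central _).symm.zpow_right i).inv_right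
      have hd2 : (y ^ i) ^ (2 ^ (j + 1)) = 1 := by
        rw [h7, hc2.mul_pow, pow_succ, pow_mul, ← hj, pow_orderOf_eq_one, one_pow, one_mul,
          mul_comm, pow_mul, inv_pow, ← zpow_natCast (t ^ i) 2, ← zpow_mul, mul_comm, zpow_mul,
          zpow_natCast, sq, C.tt, one_zpow, inv_one, one_pow]
      have hd7 : (y ^ i) ^ 7 = 1 := by
        rw [← zpow_natCast, ← zpow_mul, mul_comm, zpow_mul, zpow_natCast, ← hy, pow_orderOf_eq_one,
          one_zpow]
      have hone : orderOf (y ^ i) = 1 := Nat.eq_one_of_dvd_coprimes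
        (Nat.Coprime.pow_right _ (by norm_num : Nat.Coprime 7 2))
        (orderOf_dvd_of_pow_eq_one hd7) (orderOf_dvd_of_pow_eq_one hd2)
      rw [orderOf_eq_one_iff] at hone
      rw [← hi, ((C.central y).symm).mul_zpow, hone, one_mul]
      exact zpow_mem_zpowers t i
    · obtain ⟨i, hi⟩ := v.2
      rw [← hi]
      exact (C.central y).zpow_left i
  have hmod := hY.card_modEq_card_fixedPoints O
  rw [hb, hfix] at hmod
  have hb7 : b ≤ 7 := by
    have h1 := card_subgroup_dvd_card O
    rw [hb, C.card] at h1
    by_contra h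
    have := (pow_dvd_pow 2 (show 8 ≤ b by omega)).trans h1
    norm_num at this
  -- the quotient is simple
  have hsimple : IsSimpleGroup (H ⧸ O) := by
    haveI : Nontrivial (H ⧸ O) := QuotientGroup.nontrivial_iff.2 hOne
    refine ⟨fun K hK => ?_⟩
    by_cases h : K.comap (QuotientGroup.mk' O) = ⊤
    · exact Or.inr (comap_injective (QuotientGroup.mk'_surjective O) (h.trans (comap_top _).symm))
    · refine Or.inl (comap_injective (QuotientGroup.mk'_surjective O) (le_antisymm ?_ ?_))
      · rw [MonoidHom.comap_bot, QuotientGroup.ker_mk']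
        exact hle _ (hK.comap _) (by simp [(QuotientGroup.eq_one_iff t).2 htO]) h
      · exact comap_mono bot_le
  have hq : Nat.card O * Nat.card (H ⧸ O) = 2688 := by
    rw [← C.card, ← O.card_mul_index]; rfl
  have hna : ¬ IsMulCommutative (H ⧸ O) := fun hc => by
    letI : CommGroup (H ⧸ O) :=
      { (inferInstance : Group (H ⧸ O)) with mul_comm := fun a b => hc.is_comm.comm a b }
    have hp := IsSimpleGroup.prime_card (α := H ⧸ O)
    have h21 : 21 ∣ Nat.card (H ⧸ O) := by
      refine (Nat.Coprime.pow_right b (by norm_num : Nat.Coprime 21 2)).dvd_of_dvd_mul_left ?_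
      rw [← hb, hq]; norm_num
    have := hp.eq_one_or_self_of_dvd 21 h21
    rw [show (21 : ℕ) = 1 ↔ False by norm_num, false_or] at this
    rw [← this] at hp
    norm_num at hp
  have hlt : Nat.card (H ⧸ O) < 6000 := by
    have : 0 < Nat.card O := Nat.card_pos
    nlinarith
  have hlist := SmallOrder.card_of_lt_6000 hna hlt
  simp only [List.mem_cons, List.not_mem_nil, or_false] at hlist
  rw [hb] at hq ⊢
  interval_cases b
  all_goals first | (norm_num; done) | (norm_num [Nat.ModEq] at hmod; done) | omega

end CH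

end Cfsg.Agent.Fg24.M23
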