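import Cfsg.Agent.Fg24.M23.CentralH

/-!
# The normal subgroup of order sixteen
-/

set_option autoImplicit false
set_option linter.unusedSectionVars false

namespace Cfsg.Agent.Fg24.M23

open Cfsg.Agent Subgroup

universe u

/-- The properties of the subgroup of order sixteen. -/
structure CoreH (H : Type u) [Group H] (t : H) (O : Subgroup H) : Prop where
  normal : O.Normal
  mem : t ∈ O
  card : Nat.card O = 16
  le : ∀ M : Subgroup H, M.Normal → t ∈ M → M ≠ ⊤ → M ≤ O
  sq : ∀ x ∈ O, x * x = 1
  comm : ∀ x ∈ O, ∀ y ∈ O, Commute x y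
  cent : ∀ h : H, (∀ x ∈ O, Commute h x) → h ∈ O
  faithful : ∀ h : H, (∀ x ∈ O, h * x * h⁻¹ = x ∨ h * x * h⁻¹ = x * t) → h ∈ O
  bound : ∀ D : Subgroup H, ∀ x : H, x ∉ O → x * x ∈ O →
    (∀ d ∈ D, d * x * d⁻¹ * x⁻¹ ∈ O) → Nat.card D ≤ 128

namespace CH

variable {H : Type u} [Group H] [Finite H] {t : H} (C : CH H t)
include C

theorem exists_coreH : ∃ O : Subgroup H, CoreH H t O := by
  classical
  obtain ⟨O, hOn, htO, hO16, hle⟩ := C.exists_core
  haveI := hOn
  haveI : Fact (Nat.Prime 2) := ⟨Nat.prime_two⟩
  letI := Fintype.ofFinite H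
  have t7 : t ^ 7 = t := by rw [pow_succ, pow_mul t 2 3, sq, C.tt, one_pow, one_mul]
  obtain ⟨y, hy⟩ := C.exists_seven
  -- an element of order seven moves everything outside the centre
  have hmove : ∀ x ∈ O, Commute y x → x = 1 ∨ x = t := by
    intro x hx hc
    obtain ⟨h14, hCz⟩ := C.xt_mem hy
    have hxC : x ∈ centralizer ({y} : Set H) := mem_centralizer_singleton_iff.2 hc.eq.symm
    rw [hCz, mem_zpowers_iff_mem_range_orderOf, h14] at hxC
    obtain ⟨k, hk, rfl⟩ := Finset.mem_image.1 hxC
    rw [Finset.mem_range] at hk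
    have h16 : (y * t) ^ (k * 16) = 1 := by
      have h := Subgroup.orderOf_dvd_natCard O hx
      rw [hO16] at h
      rw [pow_mul]
      exact orderOf_dvd_iff_pow_eq_one.1 h
    have hd := orderOf_dvd_of_pow_eq_one h16
    rw [h14] at hd
    interval_cases k <;> first | exact Or.inl (pow_zero _) | omega | skip
    right
    rw [(C.central y).symm.mul_pow, ← hy, pow_orderOf_eq_one, one_mul, hy, t7]
  have hmove' : ∀ x ∈ O, x ≠ 1 → x ≠ t → y * x * y⁻¹ ≠ x ∧ y * x * y⁻¹ ≠ x * t := by
    intro x hx h1 h2
    refine ⟨fun e => ?_, fun e => ?_⟩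
    · exact (hmove x hx (mul_inv_eq_iff_eq_mul.1 e)).elim h1 h2
    · have hn : ∀ j : ℕ, y ^ j * x * (y ^ j)⁻¹ = x * t ^ j := by
        intro j
        induction j with
        | zero => simp
        | succ j ih =>
          calc y ^ (j + 1) * x * (y ^ (j + 1))⁻¹ = y * (y ^ j * x * (y ^ j)⁻¹) * y⁻¹ := by
                rw [pow_succ']; group
            _ = y * x * y⁻¹ * (y * t ^ j * y⁻¹) := by rw [ih]; group
            _ = x * t * t ^ j := by
              rw [e, ((C.central y).symm.pow_right j).eq, mul_inv_cancel_right]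
            _ = x * t ^ (j + 1) := by rw [mul_assoc, ← pow_succ']
      have h := hn 7
      rw [← hy, pow_orderOf_eq_one, one_mul, inv_one, mul_one, hy, t7] at h
      exact C.t_ne (mul_eq_left.1 h.symm)
  -- the exponent is two
  have hsq : ∀ x ∈ O, x * x = 1 := by
    by_contra hex
    push Not at hex
    obtain ⟨a₀, ha₀, hne⟩ := hex
    -- the fourteen elements are permuted by `y` and by multiplication with `t`
    let Z : Finset H := {1, t}
    let S : Finset H := (Finset.univ.filter fun x : H => x ∈ O) \ Z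
    have hS : ∀ x, x ∈ S ↔ x ∈ O ∧ x ≠ 1 ∧ x ≠ t := fun x => by simp [S, Z]
    have hZc : Z.card = 2 := Finset.card_pair (Ne.symm C.t_ne)
    have hSc : S.card = 14 := by
      rw [Finset.card_sdiff_of_subset (fun x hx => by
        simp only [Z, Finset.mem_insert, Finset.mem_singleton] at hx
        rcases hx with rfl | rfl <;> simp [one_mem, htO]), hZc, ← Fintype.card_subtype,
        ← Nat.card_eq_fintype_card, show Nat.card {x : H // x ∈ O} = 16 from hO16]
    let c : ℕ → H → H := fun j x => y ^ j * x * (y ^ j)⁻¹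
    have hcO : ∀ j, ∀ x ∈ O, c j x ∈ O := fun j x hx => hOn.conj_mem x hx _
    have hc_inj : ∀ x ∈ O, x ≠ 1 → x ≠ t → ∀ i < 7, ∀ j < 7, c i x = c j x → i = j := by
      intro x hx h1 h2 i hi j hj hij
      by_contra hne'
      wlog hlt : i < j generalizing i j
      · exact this j hj i hi hij.symm (Ne.symm hne') (by omega)
      have hd : Commute (y ^ (j - i)) x := by
        have e : y ^ j = y ^ i * y ^ (j - i) := by rw [← pow_add]; congr 1; omega
        have h3 : y ^ i * x * (y ^ i)⁻¹ = y ^ i * (y ^ (j - i) * x * (y ^ (j - i))⁻¹) * (y ^ i)⁻¹ := by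
          calc y ^ i * x * (y ^ i)⁻¹ = y ^ j * x * (y ^ j)⁻¹ := hij
            _ = _ := by rw [e]; group
        exact mul_inv_eq_iff_eq_mul.1 (mul_left_cancel (mul_right_cancel h3)).symm
      obtain ⟨m, -, hm⟩ := Nat.exists_mul_mod_eq_one_of_coprime
        ((show Nat.Prime 7 by norm_num).coprime_iff_not_dvd.2
          (show ¬ 7 ∣ j - i from fun h => by
            have := Nat.le_of_dvd (by omega) h; omega)).symm (by norm_num)
      have hy' : y = (y ^ (j - i)) ^ m := by
        rw [← pow_mul, ← pow_mod_orderOf, hy, hm, pow_one]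
      rcases hmove x hx (hy' ▸ hd.pow_left m) with e | e
      exacts [h1 e, h2 e]
    have hdis : ∀ x ∈ O, x ≠ 1 → x ≠ t → ∀ i j, c i x ≠ c j x * t := by
      intro x hx h1 h2 i j e
      -- raise to a power moving `i` to `j`
      have hcc : ∀ a b z, c a (c b z) = c (a + b) z := fun a b z => by
        simp only [c, pow_add]; group
      have hct : ∀ a z, c a (z * t) = c a z * t := fun a z => by
        simp only [c]
        rw [show y ^ a * (z * t) * (y ^ a)⁻¹ = y ^ a * z * (y ^ a)⁻¹ * (y ^ a * t * (y ^ a)⁻¹) by group,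
          ((C.central y).symm.pow_left a).eq, mul_inv_cancel_right]
      obtain ⟨k, hk⟩ : ∃ k, c k x = x * t := by
        refine ⟨6 * j + i, ?_⟩
        have := congrArg (c (6 * j)) e
        rw [hcc, hct, hcc] at this
        rw [this]
        simp only [c, show 6 * j + j = 7 * j by ring, pow_mul, ← hy, pow_orderOf_eq_one, one_pow,
          one_mul, inv_one, mul_one]
      have hn : ∀ n : ℕ, c (k * n) x = x * t ^ n := by
        intro n
        induction n with
        | zero => simp [c]
        | succ n ih =>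
          rw [show k * (n + 1) = k + k * n by ring, ← hcc, ih]
          have : ∀ n, c k (x * t ^ n) = x * t * t ^ n := by
            intro n
            induction n with
            | zero => simpa using hk
            | succ n ih' => rw [pow_succ, ← mul_assoc, hct, ih', mul_assoc]
          rw [this, mul_assoc, ← pow_succ']
      have h := hn 7
      have e7 : y ^ (k * 7) = 1 := by rw [mul_comm, pow_mul, ← hy, pow_orderOf_eq_one, one_pow]
      simp only [c, e7, one_mul, inv_one, mul_one, t7] at h
      exact C.t_ne (mul_eq_left.1 h.symm)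
    have hall : ∀ x ∈ O, x ≠ 1 → x ≠ t → x * x = a₀ * a₀ ∨
        ∃ j, x * x = y ^ j * (a₀ * a₀) * (y ^ j)⁻¹ := by
      intro x hx h1 h2
      have ha1 : a₀ ≠ 1 := fun e => hne (by rw [e, mul_one])
      have ha2 : a₀ ≠ t := fun e => hne (by rw [e, C.tt])
      let f : Fin 7 × Bool → H := fun q => if q.2 then c q.1 a₀ * t else c q.1 a₀
      have hf : Function.Injective f := by
        rintro ⟨i, bi⟩ ⟨j, bj⟩ e
        cases bi <;> cases bj <;> simp only [f, Bool.false_eq_true, if_false, if_true] at e
        · rw [Fin.ext (hc_inj a₀ ha₀ ha1 ha2 i i.2 j j.2 e)]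
        · exact absurd e (hdis a₀ ha₀ ha1 ha2 i j)
        · exact absurd e.symm (hdis a₀ ha₀ ha1 ha2 j i)
        · rw [Fin.ext (hc_inj a₀ ha₀ ha1 ha2 i i.2 j j.2 (mul_right_cancel e))]
      have hsub : Finset.univ.image f ⊆ S := by
        intro z hz
        obtain ⟨⟨i, b⟩, -, rfl⟩ := Finset.mem_image.1 hz
        have hconj1 : c i a₀ ≠ 1 := fun e => ha1 (conj_eq_one_iff.1 e)
        have hconjt : c i a₀ ≠ t := fun e => ha2 (by
          have := congrArg (fun z => (y ^ (i : ℕ))⁻¹ * z * y ^ (i : ℕ)) e
          simp only [c] at this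
          rw [((C.central y).symm.pow_left (i : ℕ)).inv_left.eq, inv_mul_cancel_right] at this
          simpa [mul_assoc] using this)
        rw [hS]
        cases b
        · exact ⟨hcO _ _ ha₀, hconj1, hconjt⟩
        · refine ⟨mul_mem (hcO _ _ ha₀) htO, fun e => hconjt ?_, fun e => hconj1 (mul_eq_right.1 e)⟩
          have e' : c (i : ℕ) a₀ * t = 1 := e
          rw [mul_eq_one_iff_eq_inv.1 e']
          exact inv_eq_of_mul_eq_one_right C.tt
      have heq := Finset.eq_of_subset_of_card_le hsub (by
        rw [hSc, Finset.card_image_of_injective _ hf]; simp)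
      obtain ⟨⟨i, b⟩, -, hi⟩ := Finset.mem_image.1 (heq.symm ▸ (hS x).2 ⟨hx, h1, h2⟩ :
        x ∈ Finset.univ.image f)
      right
      refine ⟨i, ?_⟩
      subst hi
      cases b
      · simp [f, c, mul_assoc]
      · simp only [f, if_true]
        rw [(C.central (c (i : ℕ) a₀)).mul_mul_mul_comm, C.tt, mul_one]
        simp [c, mul_assoc]
    -- all squares equal `t`
    have hsqt : ∀ x ∈ O, x ≠ 1 → x ≠ t → x * x = t := by
      intro x hx h1 h2
      have key : ∀ z ∈ O, z ≠ 1 → z ≠ t → orderOf (z * z) = orderOf (a₀ * a₀) := by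
        intro z hz z1 z2
        rcases hall z hz z1 z2 with e | ⟨j, e⟩
        · rw [e]
        · rw [e, ← MulAut.conj_apply, MulEquiv.orderOf_eq]
      by_contra hxx
      have hq1 : x * x ≠ 1 := by
        intro e
        have := key x hx h1 h2
        rw [e, orderOf_one] at this
        exact hne (orderOf_eq_one_iff.1 this.symm)
      have h3 := key _ (mul_mem hx hx) hq1 hxx
      rw [← key x hx h1 h2, ← sq, ← sq, ← pow_mul] at h3
      have hpow : ∃ k, orderOf x = 2 ^ k := by
        have h16 := Subgroup.orderOf_dvd_natCard O hx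
        rw [hO16, show (16 : ℕ) = 2 ^ 4 by norm_num] at h16
        obtain ⟨k, -, hk⟩ := (Nat.dvd_prime_pow Nat.prime_two).1 h16
        exact ⟨k, hk⟩
      obtain ⟨k, hk⟩ := hpow
      have hk2 : 2 ≤ k := by
        by_contra hk
        push Not at hk
        refine hq1 ((sq x).symm.trans (orderOf_dvd_iff_pow_eq_one.1 ?_))
        rename_i hk'
        rw [hk']
        exact (pow_dvd_pow 2 (show k ≤ 1 by omega)).trans (by norm_num)
      rw [orderOf_pow' x (by norm_num : 2 * 2 ≠ 0), orderOf_pow' x (by norm_num : (2 : ℕ) ≠ 0), hk,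
        show 2 * 2 = 2 ^ 2 by norm_num, Nat.gcd_eq_right (pow_dvd_pow 2 hk2),
        Nat.gcd_eq_right (dvd_pow_self 2 (by omega)), Nat.pow_div hk2 (by norm_num)] at h3
      have h4 : 2 ^ k / 2 = 2 ^ (k - 1) := by
        rw [← Nat.pow_div (by omega : 1 ≤ k) (by norm_num), pow_one]
      rw [h4] at h3
      have := Nat.pow_right_injective le_rfl h3
      omega
    have hanti : ∀ a b, a ∈ S → b ∈ S → a * b ∈ S → b * a = a * b * t := by
      intro a b ha hb hab
      rw [hS] at ha hb hab
      have e1 := hsqt a ha.1 ha.2.1 ha.2.2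
      have e2 := hsqt b hb.1 hb.2.1 hb.2.2
      have e3 := hsqt (a * b) hab.1 hab.2.1 hab.2.2
      calc b * a = a⁻¹ * (a * b * (a * b)) * b⁻¹ := by group
        _ = a⁻¹ * t * b⁻¹ := by rw [e3]
        _ = a⁻¹ * (a * a) * (b * b) * b⁻¹ * t⁻¹ := by
          rw [e1, e2, mul_assoc _ t t, C.tt, mul_one,
            show t⁻¹ = t from inv_eq_of_mul_eq_one_right C.tt, mul_assoc a⁻¹ b⁻¹ t,
            ← (C.central b⁻¹).eq, ← mul_assoc]
        _ = a * b * t := by rw [inv_eq_of_mul_eq_one_right C.tt]; group
    have hti : t⁻¹ = t := inv_eq_of_mul_eq_one_right C.tt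
    obtain ⟨a, ha⟩ : S.Nonempty := Finset.card_pos.1 (by omega)
    obtain ⟨b, hb, hb'⟩ := Finset.exists_mem_notMem_of_card_lt_card (s := ({a, a * t} : Finset H))
      (t := S) (by rw [hSc]; exact lt_of_le_of_lt Finset.card_le_two (by norm_num))
    obtain ⟨d, hd, hd'⟩ := Finset.exists_mem_notMem_of_card_lt_card
      (s := ({a, a * t, b, b * t, a * b, a * b * t} : Finset H)) (t := S)
      (by rw [hSc]; exact lt_of_le_of_lt Finset.card_le_six (by norm_num))
    simp only [Finset.mem_insert, Finset.mem_singleton, not_or] at hb' hd'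
    have hinv : ∀ x ∈ S, x⁻¹ = x * t := fun x hx => by
      rw [hS] at hx
      refine inv_eq_of_mul_eq_one_right ?_
      rw [← mul_assoc, hsqt x hx.1 hx.2.1 hx.2.2, C.tt]
    have hprod : ∀ x z, x ∈ S → z ∈ S → z ≠ x → z ≠ x * t → x * z ∈ S := by
      intro x z hx hz n1 n2
      have hxi := hinv x hx
      rw [hS] at hx hz ⊢
      refine ⟨mul_mem hx.1 hz.1, fun e => n2 ?_, fun e => n1 ?_⟩
      · rw [← hxi]; exact (inv_eq_of_mul_eq_one_right e).symm
      · calc z = x⁻¹ * (x * z) := by group
          _ = x * t * t := by rw [e, hxi]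
          _ = x := by rw [mul_assoc, C.tt, mul_one]
    have hab := hprod a b ha hb hb'.1 hb'.2
    have had := hprod a d ha hd hd'.1 hd'.2.1
    have hbd := hprod b d hb hd hd'.2.2.1 hd'.2.2.2.1
    have habd := hprod (a * b) d hab hd hd'.2.2.2.2.1 hd'.2.2.2.2.2
    have h5 := hanti (a * b) d hab hd habd
    have h6 : d * (a * b) = a * b * d := by
      calc d * (a * b) = d * a * b := (mul_assoc _ _ _).symm
        _ = a * d * t * b := by rw [hanti a d ha hd had]
        _ = a * (d * b) * t := by rw [mul_assoc (a * d) t b, (C.central b).eq]; group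
        _ = a * (b * d * t) * t := by rw [hanti b d hb hd hbd]
        _ = a * b * d := by
          rw [mul_assoc a (b * d * t) t, mul_assoc (b * d) t t, C.tt, mul_one, ← mul_assoc]
    rw [h6] at h5
    exact C.t_ne (mul_eq_left.1 h5.symm)
  have hcomm : ∀ x ∈ O, ∀ z ∈ O, Commute x z := fun x hx z hz => by
    show x * z = z * x
    calc x * z = (x * z) * ((z * x) * (z * x)) := by rw [hsq _ (mul_mem hz hx), mul_one]
      _ = x * (z * z) * x * z * x := by group
      _ = (x * x) * z * x := by rw [hsq z hz]; group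
      _ = z * x := by rw [hsq x hx, one_mul]
  refine ⟨O, hOn, htO, hO16, hle, hsq, hcomm, ?_, ?_, ?_⟩
  · intro h hh
    have hK : centralizer (O : Set H) ≠ ⊤ := fun e => by
      obtain ⟨x, hx, hx'⟩ : ∃ x : H, x ∈ O ∧ x ∉ ({1, t} : Finset H) := by
        obtain ⟨x, hx, hx'⟩ := Finset.exists_mem_notMem_of_card_lt_card (s := ({1, t} : Finset H))
          (t := Finset.univ.filter fun x : H => x ∈ O) (by
            rw [← Fintype.card_subtype, ← Nat.card_eq_fintype_card,
              show Nat.card {x : H // x ∈ O} = 16 from hO16]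
            exact lt_of_le_of_lt Finset.card_le_two (by norm_num))
        exact ⟨x, (Finset.mem_filter.1 hx).2, hx'⟩
      simp only [Finset.mem_insert, Finset.mem_singleton, not_or] at hx'
      have hy' := mem_centralizer_iff.1 (e ▸ mem_top y : y ∈ centralizer (O : Set H)) x hx
      exact (hmove x hx hy'.symm).elim hx'.1 hx'.2
    exact hle _ inferInstance (mem_centralizer_iff.2 fun x _ => (C.central x).eq.symm) hK
      (mem_centralizer_iff.2 fun x hx => (hh x hx).eq.symm)
  · intro h hh
    have htt := C.tt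
    let K : Subgroup H :=
      { carrier := {h | ∀ x ∈ O, h * x * h⁻¹ = x ∨ h * x * h⁻¹ = x * t}
        one_mem' := fun x _ => Or.inl (by simp)
        mul_mem' := fun {a b} ha hb x hx => by
          have e : a * b * x * (a * b)⁻¹ = a * (b * x * b⁻¹) * a⁻¹ := by group
          rw [e]
          rcases hb x hx with h | h <;> rw [h]
          · exact ha x hx
          · rcases ha _ (mul_mem hx htO) with h' | h'
            · exact Or.inr h'
            · exact Or.inl (by rw [h', mul_assoc, htt, mul_one])
        inv_mem' := fun {a} ha x hx => by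
          have hx' : a⁻¹ * x * a ∈ O := by simpa using hOn.conj_mem x hx a⁻¹
          rw [inv_inv]
          rcases ha _ hx' with h | h <;>
            rw [show a * (a⁻¹ * x * a) * a⁻¹ = x by group] at h
          · exact Or.inl h.symm
          · right
            conv_rhs => rw [h, mul_assoc, htt, mul_one] }
    haveI : K.Normal := ⟨fun n hn g x hx => by
      have hx' : g⁻¹ * x * g ∈ O := by simpa using hOn.conj_mem x hx g⁻¹
      have e : g * n * g⁻¹ * x * (g * n * g⁻¹)⁻¹ = g * (n * (g⁻¹ * x * g) * n⁻¹) * g⁻¹ := by group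
      rw [e]
      rcases hn _ hx' with h | h <;> rw [h]
      · left; group
      · right
        calc g * (g⁻¹ * x * g * t) * g⁻¹ = x * (g * t) * g⁻¹ := by group
          _ = x * t := by rw [(C.central g).symm.eq, ← mul_assoc, mul_inv_cancel_right]⟩
    have htK : t ∈ K := fun x _ => Or.inl (by rw [← (C.central x).symm.eq, mul_inv_cancel_right])
    have hK : K ≠ ⊤ := fun e => by
      obtain ⟨x, hx, hx'⟩ := Finset.exists_mem_notMem_of_card_lt_card (s := ({1, t} : Finset H))
        (t := Finset.univ.filter fun x : H => x ∈ O) (by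
          rw [← Fintype.card_subtype, ← Nat.card_eq_fintype_card,
            show Nat.card {x : H // x ∈ O} = 16 from hO16]
          exact lt_of_le_of_lt Finset.card_le_two (by norm_num))
      simp only [Finset.mem_insert, Finset.mem_singleton, not_or] at hx'
      obtain ⟨n1, n2⟩ := hmove' x (Finset.mem_filter.1 hx).2 hx'.1 hx'.2
      exact ((e ▸ mem_top y : y ∈ K) x (Finset.mem_filter.1 hx).2).elim n1 n2
    exact hle K inferInstance htK hK hh
  · intro D x hxO hx2 hd
    have hq : Nat.card (H ⧸ O) = 168 := by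
      have := O.card_mul_index
      rw [hO16, C.card] at this
      show O.index = 168
      omega
    have hOne : O ≠ ⊤ := fun e => by
      rw [e, card_top, C.card] at hO16; omega
    haveI : Nontrivial (H ⧸ O) := QuotientGroup.nontrivial_iff.2 hOne
    haveI : IsSimpleGroup (H ⧸ O) := ⟨fun K hK => by
      by_cases h : K.comap (QuotientGroup.mk' O) = ⊤
      · exact Or.inr (comap_injective (QuotientGroup.mk'_surjective O) (h.trans (comap_top _).symm))
      · refine Or.inl (comap_injective (QuotientGroup.mk'_surjective O) (le_antisymm ?_ ?_))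
        · rw [MonoidHom.comap_bot, QuotientGroup.ker_mk']
          exact hle _ (hK.comap _) (by simp [(QuotientGroup.eq_one_iff t).2 htO]) h
        · exact comap_mono bot_le⟩
    set π := QuotientGroup.mk' O
    have hx : orderOf (π x) = 2 := orderOf_eq_prime
      (by rw [sq, ← map_mul]; exact (QuotientGroup.eq_one_iff _).2 hx2)
      fun e => hxO ((QuotientGroup.eq_one_iff x).1 e)
    obtain ⟨T, hT, -⟩ := SmallOrder.Order168.centralizer_two hq hx
    have h8 := SmallOrder.Order168.card_sylow_two_eq hq T
    have hle' : D ≤ (centralizer ({π x} : Set (H ⧸ O))).comap π := by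
      intro d hdD
      have h := (QuotientGroup.eq_one_iff _).2 (hd d hdD)
      rw [mem_comap, mem_centralizer_singleton_iff]
      change π (d * x * d⁻¹ * x⁻¹) = 1 at h
      simp only [map_mul, map_inv] at h
      calc π d * π x = (π d * π x * (π d)⁻¹ * (π x)⁻¹) * (π x * π d) := by group
        _ = π x * π d := by rw [h, one_mul]
    have h128 : Nat.card ((centralizer ({π x} : Set (H ⧸ O))).comap π) = 128 := by
      have h1 := (centralizer ({π x} : Set (H ⧸ O))).card_mul_index
      rw [hT, h8, hq] at h1
      have h2 := ((centralizer ({π x} : Set (H ⧸ O))).comap π).card_mul_index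
      rw [index_comap_of_surjective _ (QuotientGroup.mk'_surjective O), C.card, hT,
        show (T : Subgroup (H ⧸ O)).index = 21 by omega] at h2
      rw [hT]
      omega
    exact (Nat.le_of_dvd Nat.card_pos (card_dvd_of_le hle')).trans h128.le

end CH

end Cfsg.Agent.Fg24.M23
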