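import Cfsg.Agent.Fg24.M23.Seven
import Cfsg.Agent.Fg24.M23.CentralO

/-!
# The centralizer of an involution
-/

set_option autoImplicit false
set_option linter.unusedSectionVars false

namespace Cfsg.Agent.Fg24.M23

open Cfsg.Agent

universe u

variable {G : Type u} [Group G]

/-- The subgroup of order sixteen attached to an involution. -/
structure IsE (t : G) (E : Subgroup G) : Prop where
  mem : t ∈ E
  le : E ≤ Subgroup.centralizer ({t} : Set G)
  card : Nat.card E = 16
  sq : ∀ x ∈ E, x * x = 1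
  comm : ∀ x ∈ E, ∀ y ∈ E, Commute x y
  conj : ∀ h ∈ Subgroup.centralizer ({t} : Set G), ∀ x ∈ E, h * x * h⁻¹ ∈ E
  cent : ∀ h : G, (∀ x ∈ E, Commute h x) → h ∈ E
  faithful : ∀ h ∈ Subgroup.centralizer ({t} : Set G),
    (∀ x ∈ E, h * x * h⁻¹ = x ∨ h * x * h⁻¹ = x * t) → h ∈ E
  bound : ∀ D : Subgroup G, D ≤ Subgroup.centralizer ({t} : Set G) →
    ∀ x ∈ Subgroup.centralizer ({t} : Set G), x ∉ E → x * x ∈ E →
      (∀ d ∈ D, d * x * d⁻¹ * x⁻¹ ∈ E) → Nat.card D ≤ 128

variable [Fintype G] [IsSimpleGroup G] (hG : Nat.card G = ord)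
variable [Fact (Nat.Prime 11)] [Fact (Nat.Prime 23)] [Fact (Nat.Prime 5)] [Fact (Nat.Prime 7)]
variable (T : Table G)
include hG T

theorem isCH {t : G} (ht : orderOf t = 2) :
    CH (Subgroup.centralizer ({t} : Set G) : Subgroup G)
      ⟨t, Subgroup.mem_centralizer_singleton_iff.2 rfl⟩ := by
  classical
  set H := Subgroup.centralizer ({t} : Set G) with hH
  have htt : t * t = 1 := by rw [← sq, ← ht, pow_orderOf_eq_one]
  have hcomm : ∀ h : H, Commute t (h : G) := fun h =>
    (Subgroup.mem_centralizer_singleton_iff.1 h.2).symm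
  have hsmall : ∀ x : H, orderOf x = 7 → Subgroup.centralizer ({(x : G)} : Set G) ≤ H := by
    intro x hx
    have hxo : orderOf (x : G) = 7 := by rw [Subgroup.orderOf_coe]; exact hx
    intro c hc
    refine Subgroup.mem_centralizer_singleton_iff.2 ?_
    exact (commute_of_normalizes hG T hxo ht (hcomm x) (by
      rw [Subgroup.mem_centralizer_singleton_iff.1 hc, mul_inv_cancel_right]
      exact Subgroup.mem_zpowers _)).eq
  refine ⟨T.card_two t ht, by rw [← Subgroup.orderOf_coe]; exact ht,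
    fun h => Subtype.ext (hcomm h).eq, ?_, ?_, ?_⟩
  · intro x hx
    rw [← cent_seven hG T (x := (x : G)) (by rw [Subgroup.orderOf_coe]; exact hx)]
    exact Nat.card_congr
      { toFun := fun c => ⟨(c.1 : G), Subgroup.mem_centralizer_singleton_iff.2
          (congrArg Subtype.val (Subgroup.mem_centralizer_singleton_iff.1 c.2))⟩
        invFun := fun c => ⟨⟨c.1, hsmall x hx c.2⟩, Subgroup.mem_centralizer_singleton_iff.2
          (Subtype.ext (Subgroup.mem_centralizer_singleton_iff.1 c.2))⟩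
        left_inv := fun _ => rfl
        right_inv := fun _ => rfl }
  · intro x hx
    have hxo : orderOf (x : G) = 7 := by rw [Subgroup.orderOf_coe]; exact hx
    obtain ⟨P, hP, hne⟩ := exists_sylow_mem hxo
    rw [← card_normalizer_seven hG T P]
    have hPz : (P : Subgroup G) = Subgroup.zpowers (x : G) :=
      ((seven hG T P).1.zpowers_eq hP hne).symm
    rw [show (P : Set G) = ((Subgroup.zpowers (x : G) : Subgroup G) : Set G) from
      congrArg (fun K : Subgroup G => (K : Set G)) hPz]
    have hmap : ∀ (c v : H), v ∈ Subgroup.zpowers x ↔ (v : G) ∈ Subgroup.zpowers (x : G) := by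
      intro c v
      simp only [Subgroup.mem_zpowers_iff]
      exact ⟨fun ⟨i, hi⟩ => ⟨i, by rw [← hi]; rfl⟩, fun ⟨i, hi⟩ => ⟨i, Subtype.ext hi⟩⟩
    exact Nat.card_congr
      { toFun := fun c => ⟨(c.1 : G), Subgroup.mem_normalizer_iff.2 fun v => by
          constructor
          · intro hv
            have hvH : v ∈ H := (Subgroup.zpowers_le.2 x.2) hv
            exact (hmap c.1 _).1 ((Subgroup.mem_normalizer_iff.1 c.2 ⟨v, hvH⟩).1 ((hmap c.1 ⟨v, hvH⟩).2 hv))
          · intro hv
            have hvH : v ∈ H := by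
              have := H.mul_mem (H.mul_mem (H.inv_mem c.1.2) ((Subgroup.zpowers_le.2 x.2) hv)) c.1.2
              simpa [mul_assoc] using this
            exact (hmap c.1 _).1 ((Subgroup.mem_normalizer_iff.1 c.2 ⟨v, hvH⟩).2 ((hmap c.1 _).2 hv))⟩
        invFun := fun c => ⟨⟨c.1, Subgroup.mem_centralizer_singleton_iff.2
            (commute_of_normalizes hG T hxo ht (hcomm x)
              ((Subgroup.mem_normalizer_iff.1 c.2 (x : G)).1 (Subgroup.mem_zpowers _))).eq⟩,
          Subgroup.mem_normalizer_iff.2 fun v => by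
            change v ∈ Subgroup.zpowers x ↔ _ ∈ Subgroup.zpowers x
            rw [hmap v, hmap v]
            exact Subgroup.mem_normalizer_iff.1 c.2 (v : G)⟩
        left_inv := fun _ => rfl
        right_inv := fun _ => rfl }
  · have h98 := T.card_invol_pairs hG ht
    rw [Nat.card_eq_fintype_card, Fintype.card_subtype] at h98
    set P := Finset.univ.filter fun x : G => orderOf x = 2 ∧ orderOf (x * t) = 2 with hP
    have ht1 : t ≠ 1 := fun h => by rw [h, orderOf_one] at ht; omega
    have hset : (Finset.univ.filter fun x : G => x ∈ H ∧ x * x = 1) = insert 1 (insert t P) := by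
      ext x
      simp only [hP, Finset.mem_filter, Finset.mem_univ, true_and, Finset.mem_insert]
      constructor
      · rintro ⟨hx, hxx⟩
        by_cases h1 : x = 1
        · exact Or.inl h1
        by_cases h2 : x = t
        · exact Or.inr (Or.inl h2)
        have hc := Subgroup.mem_centralizer_singleton_iff.1 hx
        refine Or.inr (Or.inr ⟨orderOf_eq_prime (by rw [sq, hxx]) h1,
          orderOf_eq_prime (by
            rw [sq, (show Commute t x from hc.symm).mul_mul_mul_comm, hxx, htt, mul_one]) fun e => h2 ?_⟩)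
        rw [mul_eq_one_iff_eq_inv.1 e, inv_eq_of_mul_eq_one_right htt]
      · rintro (rfl | rfl | ⟨hx, hxt⟩)
        · exact ⟨one_mem _, mul_one 1⟩
        · exact ⟨Subgroup.mem_centralizer_singleton_iff.2 rfl, htt⟩
        · have hxx : x * x = 1 := by rw [← sq, ← hx, pow_orderOf_eq_one]
          have h2 : x * t * (x * t) = 1 := by rw [← sq, ← hxt, pow_orderOf_eq_one]
          refine ⟨Subgroup.mem_centralizer_singleton_iff.2 ?_, hxx⟩
          calc x * t = (x * t) * (x * t) * (t⁻¹ * x⁻¹) := by group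
            _ = t * x := by rw [h2, one_mul, inv_eq_of_mul_eq_one_right hxx,
              inv_eq_of_mul_eq_one_right htt]
    have h1 : (1 : G) ∉ insert t P := by
      simp [hP, Ne.symm ht1]
    have h2 : t ∉ P := by
      simp [hP, htt]
    have e : Nat.card {x : H // x * x = 1} =
        (Finset.univ.filter fun x : G => x ∈ H ∧ x * x = 1).card := by
      rw [← Fintype.card_subtype, ← Nat.card_eq_fintype_card]
      exact Nat.card_congr
        { toFun := fun x => ⟨(x.1 : G), x.1.2, congrArg Subtype.val x.2⟩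
          invFun := fun x => ⟨⟨x.1, x.2.1⟩, Subtype.ext x.2.2⟩
          left_inv := fun _ => rfl
          right_inv := fun _ => rfl }
    rw [e, hset, Finset.card_insert_of_notMem h1, Finset.card_insert_of_notMem h2, h98]

/-- Existence and uniqueness. -/
theorem exists_isE {t : G} (ht : orderOf t = 2) : ∃ E : Subgroup G, IsE t E ∧
    ∀ F : Subgroup G, t ∈ F → F ≤ Subgroup.centralizer ({t} : Set G) → Nat.card F = 16 →
      (∀ h ∈ Subgroup.centralizer ({t} : Set G), ∀ x ∈ F, h * x * h⁻¹ ∈ F) → F = E := by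
  classical
  set H := Subgroup.centralizer ({t} : Set G) with hH
  have C := isCH hG T ht
  obtain ⟨O, hO⟩ := C.exists_coreH
  haveI := hO.normal
  have hmem : ∀ x : G, x ∈ O.map H.subtype ↔ ∃ h : x ∈ H, (⟨x, h⟩ : H) ∈ O := fun x =>
    ⟨fun ⟨a, ha, e⟩ => by subst e; exact ⟨a.2, ha⟩, fun ⟨h, ha⟩ => ⟨⟨x, h⟩, ha, rfl⟩⟩
  have hE : IsE t (O.map H.subtype) := by
    refine ⟨(hmem t).2 ⟨_, hO.mem⟩, Subgroup.map_subtype_le _,
      by rw [Subgroup.card_map_of_injective H.subtype_injective, hO.card], ?_, ?_, ?_, ?_, ?_, ?_⟩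
    · intro x hx
      obtain ⟨h, hx⟩ := (hmem x).1 hx
      exact congrArg Subtype.val (hO.sq _ hx)
    · intro x hx y hy
      obtain ⟨h, hx⟩ := (hmem x).1 hx
      obtain ⟨h', hy⟩ := (hmem y).1 hy
      exact congrArg Subtype.val (hO.comm _ hx _ hy).eq
    · intro g hg x hx
      obtain ⟨h, hx⟩ := (hmem x).1 hx
      exact (hmem _).2 ⟨_, Subgroup.Normal.conj_mem hO.normal _ hx ⟨g, hg⟩⟩
    · intro g hg
      have hgH : g ∈ H := Subgroup.mem_centralizer_singleton_iff.2 (hg t ((hmem t).2 ⟨_, hO.mem⟩)).eq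
      exact (hmem g).2 ⟨hgH, hO.cent ⟨g, hgH⟩ fun x hx =>
        Subtype.ext (hg x ((hmem _).2 ⟨x.2, hx⟩)).eq⟩
    · intro g hg hf
      refine (hmem g).2 ⟨hg, hO.faithful ⟨g, hg⟩ fun x hx => ?_⟩
      rcases hf x ((hmem _).2 ⟨x.2, hx⟩) with e | e
      · exact Or.inl (Subtype.ext e)
      · exact Or.inr (Subtype.ext e)
    · intro D hD x hx hxE hxx hd
      have hb := hO.bound (D.subgroupOf H) ⟨x, hx⟩ (fun h => hxE ((hmem x).2 ⟨hx, h⟩)) (by
          obtain ⟨_, h⟩ := (hmem _).1 hxx
          exact h) fun d hdD => by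
        obtain ⟨_, h⟩ := (hmem _).1 (hd d hdD)
        exact h
      rwa [Nat.card_congr (Subgroup.subgroupOfEquivOfLe hD).toEquiv] at hb
  refine ⟨_, hE, fun F hFm hFl hFk hFj => ?_⟩
  have hFc : Nat.card (F.subgroupOf H) = 16 := by
    rw [Nat.card_congr (Subgroup.subgroupOfEquivOfLe hFl).toEquiv, hFk]
  have hsub : F.subgroupOf H ≤ O := by
    refine hO.le _ ⟨fun n hn g => hFj g g.2 n hn⟩ hFm fun h => ?_
    rw [h, Subgroup.card_top, C.card] at hFc
    omega
  refine Subgroup.eq_of_le_of_card_ge (fun x hx => (hmem x).2 ⟨hFl hx, hsub hx⟩) ?_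
  rw [hFk, hE.card]

/-- The subgroup attached to an involution. -/
noncomputable def eSub (t : G) (ht : orderOf t = 2) : Subgroup G :=
  Classical.choose (exists_isE hG T ht)

theorem eSub_spec {t : G} (ht : orderOf t = 2) : IsE t (eSub hG T t ht) :=
  (Classical.choose_spec (exists_isE hG T ht)).1

/-- The characterisation. -/
theorem eSub_unique {t : G} (ht : orderOf t = 2) {F : Subgroup G} (hm : t ∈ F)
    (hl : F ≤ Subgroup.centralizer ({t} : Set G)) (hk : Nat.card F = 16)
    (hc : ∀ h ∈ Subgroup.centralizer ({t} : Set G), ∀ x ∈ F, h * x * h⁻¹ ∈ F) :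
    F = eSub hG T t ht :=
  (Classical.choose_spec (exists_isE hG T ht)).2 F hm hl hk hc

end Cfsg.Agent.Fg24.M23
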