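import Cfsg.Agent.Fg24.M23.ColumnArith

/-!
# The search for the column of an involution, part B
-/

set_option autoImplicit false
set_option maxRecDepth 20000

namespace Cfsg.Agent.Fg24.M23

/-- Orders of centralizers with the square root. -/
def ordListB : List (ℕ × ℕ) := [(896, 29)]

theorem searchB : ordListB.all search = true := by decide +kernel

end Cfsg.Agent.Fg24.M23
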