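import Cfsg.Agent.Fg24.M23.ColumnArith

/-!
# The search for the column of an involution, part C
-/

set_option autoImplicit false
set_option maxRecDepth 20000

namespace Cfsg.Agent.Fg24.M23

/-- Orders of centralizers with the square root. -/
def ordListC : List (ℕ × ℕ) := [(960, 30), (1008, 31), (1120, 33), (1152, 33), (1260, 35), (1344, 36), (1440, 37), (1680, 40), (1920, 43), (2016, 44), (2240, 47), (2520, 50)]

theorem searchC : ordListC.all search = true := by decide +kernel

end Cfsg.Agent.Fg24.M23
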