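import Cfsg.Agent.Fg24.M23.ColumnArith

/-!
# The search for the column of an involution, part D
-/

set_option autoImplicit false
set_option maxRecDepth 20000

namespace Cfsg.Agent.Fg24.M23

/-- Orders of centralizers with the square root. -/
def ordListD : List (ℕ × ℕ) := [(2688, 51), (2880, 53), (3360, 57), (4032, 63), (4480, 66), (5040, 70), (5760, 75), (6720, 81), (8064, 89), (10080, 100), (13440, 115), (20160, 141), (40320, 200)]

theorem searchD : ordListD.all search = true := by decide +kernel

end Cfsg.Agent.Fg24.M23
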