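import Cfsg.Agent.Fg24.M23.ColumnA
import Cfsg.Agent.Fg24.M23.ColumnB
import Cfsg.Agent.Fg24.M23.ColumnC
import Cfsg.Agent.Fg24.M23.ColumnD

/-!
# The specification of the search
-/

set_option autoImplicit false

namespace Cfsg.Agent.Fg24.M23

theorem ord_lists : ∀ a ∈ [1, 2, 4, 8, 16, 32, 64, 128], ∀ b ∈ Nat.divisors 315,
    2 ∣ a * b → ((ordListA ++ ordListB ++ ordListC ++ ordListD).any fun cr =>
      cr.1 == a * b && decide (cr.1 < (cr.2 + 1) * (cr.2 + 1))) = true := by
  decide +kernel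

theorem exists_root {c : ℕ} (h : c ∣ 40320) (h2 : 2 ∣ c) :
    ∃ r, c < (r + 1) * (r + 1) ∧ search (c, r) = true := by
  have h1 : c ∈ Nat.divisors (128 * 315) := Nat.mem_divisors.2 ⟨h, by norm_num⟩
  rw [Nat.divisors_mul] at h1
  obtain ⟨a, ha, b, hb, rfl⟩ := Finset.mem_mul.1 h1
  obtain ⟨⟨c', r⟩, hm, hc⟩ := List.any_eq_true.1 (ord_lists a
    ((show ∀ x ∈ Nat.divisors 128, x ∈ [1, 2, 4, 8, 16, 32, 64, 128] by decide +kernel) a ha) b hb h2)
  simp only [Bool.and_eq_true, beq_iff_eq, decide_eq_true_eq] at hc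
  obtain ⟨rfl, hr⟩ := hc
  refine ⟨r, hr, ?_⟩
  rcases List.mem_append.1 hm with hm | hm
  · rcases List.mem_append.1 hm with hm | hm
    · rcases List.mem_append.1 hm with hm | hm
      · exact List.all_eq_true.1 searchA _ hm
      · exact List.all_eq_true.1 searchB _ hm
    · exact List.all_eq_true.1 searchC _ hm
  · exact List.all_eq_true.1 searchD _ hm

theorem okv_iff {c d : ℕ} {v : ℤ} : okv c d v = true ↔
    (4 : ℤ) ∣ (d : ℤ) - v ∧ v * v ≤ (c : ℤ) ∧ v.natAbs < d ∧
      (d : ℤ) ∣ ((10200960 / c : ℕ) : ℤ) * v := by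
  simp only [okv, Bool.and_eq_true, beq_iff_eq, decide_eq_true_eq, Int.dvd_iff_emod_eq_zero,
    and_assoc]

theorem mem_cands {c r d : ℕ} {v : ℤ} (hr : c < (r + 1) * (r + 1)) (h : okv c d v = true) :
    v ∈ cands c r d := by
  obtain ⟨h4, hsq, hlt, hdvd⟩ := okv_iff.1 h
  have hle : v.natAbs ≤ r := by
    by_contra hgt
    have h1 : (r + 1) * (r + 1) ≤ v.natAbs * v.natAbs := Nat.mul_le_mul (by omega) (by omega)
    have h2 : ((v.natAbs * v.natAbs : ℕ) : ℤ) = v * v := by
      rw [Nat.cast_mul]; exact Int.natAbs_mul_self' v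
    omega
  unfold cands
  refine List.mem_filter.2 ⟨List.mem_map.2 ⟨(v + ((if d - 1 ≤ r then d - 1 else r) : ℕ)).toNat,
    List.mem_range.2 ?_, ?_⟩, ?_⟩
  · split_ifs <;> omega
  · split_ifs <;> omega
  · simp only [Bool.and_eq_true, beq_iff_eq, decide_eq_true_eq]
    exact ⟨⟨Int.emod_eq_zero_of_dvd h4, hsq⟩, Int.emod_eq_zero_of_dvd hdvd⟩

/-- Sums over a list of degrees with values. -/
def sumT (L : List (ℕ × ℤ)) : ℤ := (L.map fun x => sgn23 x.1 * x.2).sum

/-- The weighted squares of a list. -/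
def sumQ (L : List (ℕ × ℤ)) : ℤ := (L.map fun x => sgn23 x.1 * (x.2 * x.2) * wt x.1).sum

/-- The squares of a list. -/
def sumS (L : List (ℕ × ℤ)) : ℤ := (L.map fun x => x.2 * x.2).sum

theorem recF_spec {c r : ℕ} (hr : c < (r + 1) * (r + 1)) {fin : List ℤ → ℤ → ℤ → ℤ → Bool} :
    ∀ (L : List (ℕ × ℤ)) (pd : ℕ) (pv : ℤ) (acc : List ℤ) (T Q S : ℤ),
      (∀ x ∈ L, okv c x.1 x.2 = true) → L.Pairwise (fun x y => x.1 = y.1 → x.2 ≤ y.2) →
      (∀ x ∈ L, x.1 = pd → pv ≤ x.2) → S + sumS L ≤ (c : ℤ) →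
      recF c r fin (L.map Prod.fst) pd pv acc T Q S = true →
      fin (acc ++ L.map Prod.snd) (T + sumT L) (Q + sumQ L) (S + sumS L) = true := by
  intro L
  induction L with
  | nil =>
    intro pd pv acc T Q S _ _ _ _ h
    simpa [sumT, sumQ, sumS, recF] using h
  | cons x L ih =>
    obtain ⟨d, v⟩ := x
    intro pd pv acc T Q S hok hpw hprev hle h
    rw [List.pairwise_cons] at hpw
    simp only [List.map_cons, recF] at h
    have h1 := List.all_eq_true.1 h v (mem_cands hr (hok _ List.mem_cons_self))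
    have hnonneg : 0 ≤ sumS L := List.sum_nonneg (by
      intro a ha
      obtain ⟨y, -, rfl⟩ := List.mem_map.1 ha
      exact mul_self_nonneg _)
    have hS : sumS ((d, v) :: L) = v * v + sumS L := by simp [sumS]
    rw [hS] at hle
    have e1 : (d == pd && decide (v < pv)) = false := by
      by_cases e : d = pd
      · have := hprev _ List.mem_cons_self e
        simp [not_lt.2 this]
      · simp [e]
    have e2 : decide (S + v * v ≤ (c : ℤ)) = true := decide_eq_true (by omega)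
    rw [e1, e2, Bool.false_or, Bool.not_true, Bool.false_or] at h1
    have h2 := ih d v (acc ++ [v]) (T + sgn23 d * v) (Q + sgn23 d * (v * v) * wt d) (S + v * v)
      (fun y hy => hok y (List.mem_cons_of_mem _ hy)) hpw.2 (fun y hy e => hpw.1 y hy e.symm)
      (by omega) h1
    simpa [sumT, sumQ, sumS, add_assoc] using h2

/-- The numerical statement. -/
theorem search_spec {c p q y : ℕ} {va vb vp vq u w l z : ℤ} {L : List (ℕ × ℤ)}
    (hc : c ∣ 40320) (h2 : 2 ∣ c) (hpq : (p = 230 ∧ q = 1035) ∨ (p = 483 ∧ q = 1288))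
    (hcore : (p, L.map Prod.fst, y) ∈ cores) (hab : va ≤ vb)
    (hpw : L.Pairwise (fun x y => x.1 = y.1 → x.2 ≤ y.2))
    (oa : okv c 45 va = true) (ob : okv c 45 vb = true) (op : okv c p vp = true)
    (oq : okv c q vq = true) (ou : okv c 896 u = true) (ow : okv c 231 w = true)
    (ol : okv c 2024 l = true) (oz : okv c y z = true) (oL : ∀ x ∈ L, okv c x.1 x.2 = true)
    (r5 : l = 1 + w + 2 * u) (r11 : u = 1 + va + vb - vp + vq)
    (r23 : sgn23 y * z + (1 - va - vb - 2 * u + w) + sumT L = 0)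
    (f11 : 10200960 + wt 45 * (va * va + vb * vb) - wt p * (vp * vp) + wt q * (vq * vq) -
      wt 896 * (u * u) = 0)
    (f23 : 10200960 - wt 45 * (va * va + vb * vb) - 2 * wt 896 * (u * u) + wt 231 * (w * w) +
      sumQ L + sgn23 y * (z * z) * wt y = 0)
    (hsq : 1 + va * va + vb * vb + vp * vp + vq * vq + 2 * (u * u) + w * w + l * l + 2 * (z * z) +
      sumS L ≤ (c : ℤ)) :
    c = 2688 ∧ p = 230 ∧ L.map Prod.fst = [22, 231, 231, 990, 990] ∧ y = 770 ∧
      [va, vb, vp, vq, u, w, l, z] = [-3, -3, 22, 27, 0, 7, 8, -14] ∧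
      L.map Prod.snd = [6, 7, 7, -18, -18] := by
  obtain ⟨r, hr, hs⟩ := exists_root hc h2
  have hnonneg : 0 ≤ sumS L := List.sum_nonneg (by
    intro a ha
    obtain ⟨y, -, rfl⟩ := List.mem_map.1 ha
    exact mul_self_nonneg _)
  have hph : phase1 c r p q = true := by
    simp only [search, Bool.and_eq_true] at hs
    rcases hpq with ⟨rfl, rfl⟩ | ⟨rfl, rfl⟩
    · exact hs.1
    · exact hs.2
  have s0 := mul_self_nonneg w
  have s1 := mul_self_nonneg l
  have s2 := mul_self_nonneg z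
  have s3 := mul_self_nonneg vp
  have s4 := mul_self_nonneg vq
  have s5 := mul_self_nonneg u
  unfold phase1 at hph
  have h1 := List.all_eq_true.1 (List.all_eq_true.1 hph _ (mem_cands hr oa)) _ (mem_cands hr ob)
  rw [decide_eq_false (not_lt.2 hab), decide_eq_true (show 1 + va * va + vb * vb ≤ (c : ℤ) by omega),
    Bool.not_true, Bool.false_or, Bool.false_or] at h1
  have h3 := List.all_eq_true.1 h1 _ (mem_cands hr op)
  rw [decide_eq_true (show 1 + va * va + vb * vb + vp * vp ≤ (c : ℤ) by omega), Bool.not_true,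
    Bool.false_or] at h3
  have h4 := List.all_eq_true.1 h3 _ (mem_cands hr oq)
  simp only [← r11, f11, ou, beq_self_eq_true, Bool.and_true] at h4
  rw [decide_eq_true (show 1 + va * va + vb * vb + vp * vp + vq * vq + 2 * (u * u) ≤ (c : ℤ) by omega),
    Bool.not_true, Bool.false_or] at h4
  unfold phase2 at h4
  have h5 := List.all_eq_true.1 h4 _ (mem_cands hr ow)
  simp only [← r5, ol, Bool.true_and] at h5
  rw [decide_eq_true (show 1 + va * va + vb * vb + vp * vp + vq * vq + 2 * (u * u) + w * w + l * l ≤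
    (c : ℤ) by omega), Bool.not_true, Bool.false_or] at h5
  have h6 := List.all_eq_true.1 h5 (p, L.map Prod.fst, y)
    (List.mem_filter.2 ⟨hcore, beq_self_eq_true p⟩)
  have hpos : ∀ x ∈ L, x.1 ≠ 0 := fun x hx e => by
    have := (okv_iff.1 (oL x hx)).2.2.1
    omega
  have h7 := recF_spec hr L 0 0 [] _ _ _ oL hpw (fun x hx e => absurd e (hpos x hx)) (by omega) h6
  have hz : -(sgn23 y * (1 - va - vb - 2 * u + w + sumT L)) = z := by
    have hsq1 : sgn23 y * sgn23 y = 1 := by rw [sgn23]; split_ifs <;> norm_num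
    linear_combination z * hsq1 - sgn23 y * r23
  simp only [hz, List.nil_append, oz, f23, beq_self_eq_true, Bool.true_and, Bool.and_true] at h7
  rw [decide_eq_true (show 1 + va * va + vb * vb + vp * vp + vq * vq + 2 * (u * u) + w * w + l * l +
    sumS L + 2 * (z * z) ≤ (c : ℤ) by omega), Bool.not_true, Bool.false_or] at h7
  simp only [expect, Bool.and_eq_true, beq_iff_eq, Prod.mk.injEq, List.cons_append,
    List.nil_append, List.cons.injEq] at h7
  obtain ⟨⟨⟨e1, e2⟩, e3, e4⟩, e5, e6, e7, e8, e9, e10, e11, e12, e13⟩ := h7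
  exact ⟨e1, e2, e3, e4, by rw [e5, e6, e7, e8, e9, e10, e11, e12], e13⟩

end Cfsg.Agent.Fg24.M23
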