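import Cfsg.Agent.Fg24.M23.DegCore
import Cfsg.Agent.Fg24.M23.ColumnSpec

/-!
# The column of an involution; there is one class
-/

set_option autoImplicit false
set_option linter.unusedSectionVars false

namespace Cfsg.Agent.Fg24.M23

open scoped ComplexConjugate
open Cfsg.Agent Cfsg.Agent.Blocks

universe u

variable {G : Type u} [Group G] [Fintype G]

theorem reg_of_two {t : G} (ht : orderOf t = 2) : Reg t := by
  refine ⟨?_, ?_, ?_⟩ <;> rw [ht] <;> norm_num

variable [IsSimpleGroup G] (hG : Nat.card G = ord)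
variable [Fact (Nat.Prime 11)] [Fact (Nat.Prime 23)]
include hG

/-- The order of the centralizer of an involution divides 40320. -/
theorem card_dvd_of_two {t : G} (ht : orderOf t = 2) :
    Nat.card (Subgroup.centralizer ({t} : Set G)) ∣ 40320 ∧
      2 ∣ Nat.card (Subgroup.centralizer ({t} : Set G)) := by
  refine ⟨?_, ?_⟩
  · have key : ∀ (p : ℕ) [Fact p.Prime], p ≠ 2 →
        (∀ Q : Sylow p G, (∃ e, BlockThms.OrderP.Setup Q e) ∧
          Nat.card (Subgroup.centralizer (Q : Set G)) = p) →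
        ¬ p ∣ Nat.card (Subgroup.centralizer ({t} : Set G)) := by
      intro p _ hp hQ h
      obtain ⟨x, hx⟩ := exists_prime_orderOf_dvd_card' (G := Subgroup.centralizer ({t} : Set G)) p h
      have hxo : orderOf (x : G) = p := by rw [Subgroup.orderOf_coe]; exact hx
      obtain ⟨Q, hxQ⟩ := (IsPGroup.of_card (p := p) (n := 1) (by
        rw [Nat.card_zpowers, hxo, pow_one]) : IsPGroup p (Subgroup.zpowers (x : G))).exists_le_sylow
      obtain ⟨⟨e, hS⟩, hC⟩ := hQ Q
      have hx1 : (x : G) ≠ 1 := fun h => by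
        rw [h, orderOf_one] at hxo; exact (Fact.out : p.Prime).one_lt.ne hxo
      have htC : t ∈ Subgroup.centralizer (Q : Set G) := by
        rw [← hS.centralizer_eq (hxQ (Subgroup.mem_zpowers _)) hx1,
          Subgroup.mem_centralizer_singleton_iff]
        exact (Subgroup.mem_centralizer_singleton_iff.1 x.2).symm
      have := Subgroup.orderOf_dvd_natCard _ htC
      rw [hC, ht] at this
      exact hp ((Nat.prime_dvd_prime_iff_eq Nat.prime_two Fact.out).1 this).symm
    have h11 := key 11 (by norm_num) fun Q => ⟨⟨_, (eleven hG Q).1⟩, (eleven hG Q).2⟩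
    have h23 := key 23 (by norm_num) fun Q => ⟨⟨_, (twentythree hG Q).1⟩, (twentythree hG Q).2⟩
    refine (Nat.Coprime.dvd_of_dvd_mul_left ?_ (show _ ∣ 253 * 40320 from card_dvd hG t))
    exact ((((Fact.out : Nat.Prime 11).coprime_iff_not_dvd.2 h11).mul_left
      ((Fact.out : Nat.Prime 23).coprime_iff_not_dvd.2 h23))).symm
  · rw [← ht]
    exact Subgroup.orderOf_dvd_natCard _ (Subgroup.mem_centralizer_singleton_iff.2 rfl)

/-- The values at an involution, as integers. -/
theorem exists_values {t : G} (ht : orderOf t = 2) :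
    ∃ v : Cfsg.IrrCharacter G → ℤ, (∀ χ : Cfsg.IrrCharacter G, (χ : G → ℂ) t = v χ) ∧
      (∑ χ, v χ * v χ = (Nat.card (Subgroup.centralizer ({t} : Set G)) : ℤ)) ∧
      ∀ χ, χ ≠ triv G → okv (Nat.card (Subgroup.centralizer ({t} : Set G))) (dg χ) (v χ) = true := by
  classical
  choose v hv using fun ψ : Cfsg.IrrCharacter G =>
    SmallOrder.exists_int_apply_involution (Char.IsIrr.isCharacter ψ.2) ht
  have hsum : ∑ χ, v χ * v χ = (Nat.card (Subgroup.centralizer ({t} : Set G)) : ℤ) := by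
    have h := Char.second_orthogonality t t
    rw [if_pos (IsConj.refl t)] at h
    simp only [hv, map_intCast] at h
    exact_mod_cast h
  refine ⟨v, hv, hsum, fun χ hne => okv_iff.2 ?_⟩
  obtain ⟨u, hu, h4, hlt, hd⟩ := inv_value hG hne ht
  have hvu : v χ = u := by exact_mod_cast (hv χ).symm.trans hu
  rw [← hvu] at h4 hlt hd
  refine ⟨h4, ?_, hlt, hd⟩
  rw [← hsum]
  exact Finset.single_le_sum (f := fun χ => v χ * v χ) (fun _ _ => mul_self_nonneg _)
    (Finset.mem_univ χ)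

/-- The members entering the column. -/
noncomputable def coreList (C : Core G) : List (Cfsg.IrrCharacter G) :=
  [triv G, C.a, C.b, C.p, C.q, C.θ, C.θ', C.w, C.l, C.y, C.y'] ++ C.F.toList

/-- The column of an involution. -/
structure IsCol (C : Core G) (t : G) : Prop where
  card : Nat.card (Subgroup.centralizer ({t} : Set G)) = 2688
  degp : dg C.p = 230 ∧ dg C.q = 1035
  degy : dg C.y = 770
  degF : (C.F.toList.map dg).Perm [22, 231, 231, 990, 990]
  vals : (C.a : G → ℂ) t = -3 ∧ (C.b : G → ℂ) t = -3 ∧ (C.p : G → ℂ) t = 22 ∧ (C.q : G → ℂ) t = 27 ∧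
    (C.θ : G → ℂ) t = 0 ∧ (C.θ' : G → ℂ) t = 0 ∧ (C.w : G → ℂ) t = 7 ∧ (C.l : G → ℂ) t = 8 ∧
    (C.y : G → ℂ) t = -14 ∧ (C.y' : G → ℂ) t = -14
  valF : ∀ χ ∈ C.F, (χ : G → ℂ) t =
    if dg χ = 22 then 6 else if dg χ = 231 then 7 else -18

theorem ne_triv_of_mem (C : Core G) {χ : Cfsg.IrrCharacter G}
    (h : χ ∈ [C.a, C.b, C.p, C.q, C.θ, C.θ', C.w, C.l, C.y, C.y'] ++ C.F.toList) : χ ≠ triv G := by
  have hn := C.nodup
  rw [List.cons_append, List.nodup_cons] at hn
  exact fun e => hn.1 (e ▸ h)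

set_option maxHeartbeats 1000000 in
theorem isCol (C : Core G) {t : G} (ht : orderOf t = 2) : IsCol C t := by
  classical
  obtain ⟨v, hv, hsum, hok⟩ := exists_values hG ht
  obtain ⟨hc, h2⟩ := card_dvd_of_two hG ht
  set c := Nat.card (Subgroup.centralizer ({t} : Set G)) with hcdef
  have hreg := reg_of_two ht
  have hv1 : v (triv G) = 1 := by
    have := hv (triv G); rw [triv_apply] at this; exact_mod_cast this.symm
  -- the members of the 23-block by degree and value
  let R : Cfsg.IrrCharacter G → Cfsg.IrrCharacter G → Prop := fun χ ψ =>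
    dg χ < dg ψ ∨ (dg χ = dg ψ ∧ v χ ≤ v ψ)
  haveI : Std.Total R := ⟨fun χ ψ => by
    show (dg χ < dg ψ ∨ (dg χ = dg ψ ∧ v χ ≤ v ψ)) ∨ (dg ψ < dg χ ∨ (dg ψ = dg χ ∧ v ψ ≤ v χ))
    omega⟩
  haveI : IsTrans (Cfsg.IrrCharacter G) R := ⟨fun χ ψ η h1 h2 => by
    show dg χ < dg η ∨ (dg χ = dg η ∧ v χ ≤ v η)
    change dg χ < dg ψ ∨ (dg χ = dg ψ ∧ v χ ≤ v ψ) at h1
    change dg ψ < dg η ∨ (dg ψ = dg η ∧ v ψ ≤ v η) at h2
    omega⟩
  obtain ⟨L, hperm, hsort⟩ : ∃ L : List (Cfsg.IrrCharacter G),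
      L.Perm C.F.toList ∧ L.Pairwise R :=
    ⟨C.F.toList.insertionSort R, List.perm_insertionSort _ _, List.pairwise_insertionSort _ _⟩
  let Lp : List (ℕ × ℤ) := L.map fun χ => (dg χ, v χ)
  obtain ⟨L₀, hL₀, hcore⟩ := C.core
  have hfst : Lp.map Prod.fst = L₀ := by
    have h1 : (L.map dg).Perm L₀ := (hperm.map dg).trans hL₀
    have h2 : (L.map dg).Pairwise (· ≤ ·) := by
      refine List.pairwise_map.2 (hsort.imp fun {χ ψ} h => ?_)
      change dg χ < dg ψ ∨ (dg χ = dg ψ ∧ v χ ≤ v ψ) at h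
      omega
    have h3 : L₀.Pairwise (· ≤ ·) :=
      (show ∀ k ∈ cores, k.2.1.Pairwise (· ≤ ·) by decide +kernel) _ hcore
    rw [show Lp.map Prod.fst = L.map dg by simp [Lp, Function.comp_def]]
    exact List.Perm.eq_of_pairwise (fun a b _ _ h h' => le_antisymm h h') h2 h3 h1
  have hmemF : ∀ χ, χ ∈ L ↔ χ ∈ C.F := fun χ => by rw [hperm.mem_iff, Finset.mem_toList]
  have hokm : ∀ χ ∈ [C.a, C.b, C.p, C.q, C.θ, C.θ', C.w, C.l, C.y, C.y'] ++ C.F.toList,
      okv c (dg χ) (v χ) = true := fun χ h => hok χ (ne_triv_of_mem hG C h)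
  have oL : ∀ x ∈ Lp, okv c x.1 x.2 = true := by
    intro x hx
    obtain ⟨χ, hχ, rfl⟩ := List.mem_map.1 hx
    exact hokm χ (List.mem_append_right _ (hperm.mem_iff.1 hχ))
  have hpw : Lp.Pairwise (fun x y => x.1 = y.1 → x.2 ≤ y.2) :=
    List.pairwise_map.2 (hsort.imp fun {χ ψ} h e => by
      change dg χ < dg ψ ∨ (dg χ = dg ψ ∧ v χ ≤ v ψ) at h
      have e' : dg χ = dg ψ := e
      show v χ ≤ v ψ
      omega)
  obtain ⟨ha, hb, hθ, hθ', hw, hl, hy'⟩ := C.degs
  -- the relations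
  have r5 : v C.l = 1 + v C.w + 2 * v C.θ ∧ v C.θ' = v C.θ ∧
      v C.θ = 1 + v C.a + v C.b - v C.p + v C.q := by
    have h1 := C.rel5 t hreg
    obtain ⟨h2, h3⟩ := C.rel11 t hreg
    simp only [hv] at h1 h2 h3
    refine ⟨?_, by exact_mod_cast h2, by exact_mod_cast h3⟩
    rw [h2] at h1
    have : v C.l = 1 + v C.w + v C.θ + v C.θ := by exact_mod_cast h1
    omega
  obtain ⟨r5, eθ, r11⟩ := r5
  have hFsum : ∀ f : Cfsg.IrrCharacter G → ℂ, ∑ χ ∈ C.F, f χ = (L.map f).sum := fun f => by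
    rw [← Finset.sum_map_toList, (hperm.map f).sum_eq]
  have hy'v : v C.y' = v C.y := by
    have := (C.rel23 t hreg).1
    simp only [hv] at this
    exact_mod_cast this
  have r23 : sgn23 (dg C.y) * v C.y + (1 - v C.a - v C.b - 2 * v C.θ + v C.w) + sumT Lp = 0 := by
    have h := (C.rel23 t hreg).2
    simp only [hv, eθ] at h
    rw [hFsum] at h
    rw [← Int.cast_inj (α := ℂ)]
    have e : ((sumT Lp : ℤ) : ℂ) =
        (L.map fun χ => (sgn23 (dg χ) : ℂ) * (v χ : ℂ)).sum := by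
      simp only [sumT, Lp, List.map_map, Int.cast_list_sum, Function.comp_def, Int.cast_mul]
    push_cast
    rw [e]
    linear_combination h
  have hwt : ∀ d : ℕ, d ∣ 10200960 → d ≠ 0 → (wt d : ℂ) = 10200960 / (d : ℂ) := fun d hd h0 => by
    rw [wt, Int.cast_natCast, Nat.cast_div hd (Nat.cast_ne_zero.2 h0)]
    norm_num
  have hwd : ∀ χ : Cfsg.IrrCharacter G, (wt (dg χ) : ℂ) = 10200960 / (dg χ : ℂ) := fun χ =>
    hwt _ (deg_dvd hG χ) (dg_pos χ).ne'
  have f11 : 10200960 + wt 45 * (v C.a * v C.a + v C.b * v C.b) - wt (dg C.p) * (v C.p * v C.p) +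
      wt (dg C.q) * (v C.q * v C.q) - wt 896 * (v C.θ * v C.θ) = 0 := by
    have h := C.form11 t ht v hv
    rw [← Int.cast_inj (α := ℂ)]
    push_cast
    rw [hwd, hwd, hwt 45 (by norm_num) (by norm_num), hwt 896 (by norm_num) (by norm_num)]
    push_cast
    linear_combination (10200960 : ℂ) * h
  have f23 : 10200960 - wt 45 * (v C.a * v C.a + v C.b * v C.b) - 2 * wt 896 * (v C.θ * v C.θ) +
      wt 231 * (v C.w * v C.w) + sumQ Lp +
      sgn23 (dg C.y) * (v C.y * v C.y) * wt (dg C.y) = 0 := by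
    have h := C.form23 t ht v hv
    rw [hFsum, eθ] at h
    have e : ((sumQ Lp : ℤ) : ℂ) =
        (10200960 : ℂ) * (L.map fun χ => (sgn23 (dg χ) : ℂ) * (v χ : ℂ) ^ 2 / (dg χ : ℂ)).sum := by
      rw [← List.sum_map_mul_left]
      simp only [sumQ, Lp, List.map_map, Int.cast_list_sum, Function.comp_def, Int.cast_mul]
      refine congrArg List.sum (List.map_congr_left fun χ _ => ?_)
      rw [hwd]
      ring
    rw [← Int.cast_inj (α := ℂ)]
    push_cast
    rw [e, hwd, hwt 45 (by norm_num) (by norm_num), hwt 896 (by norm_num) (by norm_num),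
      hwt 231 (by norm_num) (by norm_num)]
    push_cast
    linear_combination (10200960 : ℂ) * h
  have hsq : 1 + v C.a * v C.a + v C.b * v C.b + v C.p * v C.p + v C.q * v C.q +
      2 * (v C.θ * v C.θ) + v C.w * v C.w + v C.l * v C.l + 2 * (v C.y * v C.y) + sumS Lp ≤ (c : ℤ) := by
    have h := Finset.sum_le_univ_sum_of_nonneg (s := (coreList C).toFinset)
      (f := fun χ : Cfsg.IrrCharacter G => v χ * v χ) fun _ => mul_self_nonneg _
    rw [coreList, hsum, List.sum_toFinset _ C.nodup] at h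
    simp only [List.map_append, List.sum_append, List.map_cons, List.map_nil,
      List.sum_cons, List.sum_nil, hv1, eθ, hy'v] at h
    rw [← (hperm.map fun χ => v χ * v χ).sum_eq] at h
    have e : sumS Lp = (L.map fun χ => v χ * v χ).sum := by
      simp [sumS, Lp, Function.comp_def]
    rw [e]
    linarith
  have oa := hokm C.a (by simp)
  have ob := hokm C.b (by simp)
  have op := hokm C.p (by simp)
  have oq := hokm C.q (by simp)
  have ou := hokm C.θ (by simp)
  have ow := hokm C.w (by simp)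
  have ol := hokm C.l (by simp)
  have oz := hokm C.y (by simp)
  rw [ha] at oa
  rw [hb] at ob
  rw [hθ] at ou
  rw [hw] at ow
  rw [hl] at ol
  rw [← hfst] at hcore
  obtain ⟨e1, e2, e3, e4, e5, e6, hab⟩ : c = 2688 ∧ dg C.p = 230 ∧
      Lp.map Prod.fst = [22, 231, 231, 990, 990] ∧ dg C.y = 770 ∧
      [v C.p, v C.q, v C.θ, v C.w, v C.l, v C.y] = [22, 27, 0, 7, 8, -14] ∧
      Lp.map Prod.snd = [6, 7, 7, -18, -18] ∧ v C.a = -3 ∧ v C.b = -3 := by
    rcases le_total (v C.a) (v C.b) with h | h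
    · obtain ⟨e1, e2, e3, e4, e5, e6⟩ := search_spec hc h2 C.pq hcore h hpw oa ob op oq ou ow ol oz
        oL r5 r11 r23 f11 f23 hsq
      simp only [List.cons.injEq, and_true] at e5 ⊢
      exact ⟨e1, e2, e3, e4, e5.2.2, e6, e5.1, e5.2.1⟩
    · obtain ⟨e1, e2, e3, e4, e5, e6⟩ := search_spec (va := v C.b) (vb := v C.a) hc h2 C.pq hcore h
        hpw ob oa op oq ou ow ol oz oL r5 (by omega) (by linarith) (by linarith) (by linarith)
        (by linarith)
      simp only [List.cons.injEq, and_true] at e5 ⊢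
      exact ⟨e1, e2, e3, e4, e5.2.2, e6, e5.2.1, e5.1⟩
  simp only [List.cons.injEq, and_true] at e5
  obtain ⟨hp', hq', hθv, hwv, hlv, hyv⟩ := e5
  refine ⟨e1, ⟨e2, ?_⟩, e4, ?_, ?_, fun χ hχ => ?_⟩
  · rcases C.pq with ⟨-, h⟩ | ⟨h, -⟩
    · exact h
    · omega
  · rw [← e3, hfst]; exact hL₀
  · simp only [hv, hab.1, hab.2, hp', hq', hθv, eθ.trans hθv, hwv, hlv, hyv, hy'v.trans hyv]
    norm_num
  · have hz : Lp = [(22, 6), (231, 7), (231, 7), (990, -18), (990, -18)] := by
      conv_lhs => rw [← List.zip_unzip Lp, List.unzip_eq_map, e3, e6]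
      rfl
    have hm : (dg χ, v χ) ∈ Lp := List.mem_map.2 ⟨χ, (hmemF χ).2 hχ, rfl⟩
    rw [hz] at hm
    simp only [List.mem_cons, Prod.mk.injEq, List.not_mem_nil, or_false] at hm
    rw [hv]
    rcases hm with ⟨h, h'⟩ | ⟨h, h'⟩ | ⟨h, h'⟩ | ⟨h, h'⟩ | ⟨h, h'⟩ <;> rw [h, h'] <;> norm_num

/-- All involutions are conjugate. -/
theorem isConj_of_two (C : Core G) {s t : G} (hs : orderOf s = 2) (ht : orderOf t = 2) :
    IsConj s t := by
  classical
  by_contra hne
  obtain ⟨u, hu, hsu, -⟩ := exists_values hG hs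
  obtain ⟨v, hv, hsv, -⟩ := exists_values hG ht
  have hS := isCol hG C hs
  have hT := isCol hG C ht
  rw [hS.card] at hsu
  rw [hT.card] at hsv
  have h0 := Char.second_orthogonality s t
  rw [if_neg hne] at h0
  simp only [hu, hv, map_intCast] at h0
  have h0' : ∑ χ, u χ * v χ = 0 := by exact_mod_cast h0
  set S := (coreList C).toFinset with hSdef
  have heq : ∀ χ ∈ S, u χ = v χ := by
    intro χ hχ
    have key : (χ : G → ℂ) s = (χ : G → ℂ) t := by
      rw [hSdef, List.mem_toFinset, coreList, List.mem_append, Finset.mem_toList] at hχ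
      obtain ⟨a1, a2, a3, a4, a5, a6, a7, a8, a9, a10⟩ := hS.vals
      obtain ⟨b1, b2, b3, b4, b5, b6, b7, b8, b9, b10⟩ := hT.vals
      rcases hχ with hχ | hχ
      · simp only [List.mem_cons, List.not_mem_nil, or_false] at hχ
        rcases hχ with e | e | e | e | e | e | e | e | e | e | e <;> subst e
        · rfl
        · rw [a1, b1]
        · rw [a2, b2]
        · rw [a3, b3]
        · rw [a4, b4]
        · rw [a5, b5]
        · rw [a6, b6]
        · rw [a7, b7]
        · rw [a8, b8]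
        · rw [a9, b9]
        · rw [a10, b10]
      · rw [hS.valF χ hχ, hT.valF χ hχ]
    rw [hu, hv] at key
    exact_mod_cast key
  have hcoreS : ∑ χ ∈ S, v χ * v χ = 2519 := by
    rw [hSdef, coreList, List.sum_toFinset _ C.nodup, List.map_append, List.sum_append]
    obtain ⟨b1, b2, b3, b4, b5, b6, b7, b8, b9, b10⟩ := hT.vals
    simp only [hv] at b1 b2 b3 b4 b5 b6 b7 b8 b9 b10
    have b0 : v (triv G) = 1 := by have := hv (triv G); rw [triv_apply] at this; exact_mod_cast this.symm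
    norm_cast at b1 b2 b3 b4 b5 b6 b7 b8 b9 b10
    have hF : (C.F.toList.map fun χ => v χ * v χ).sum = 36 + 49 + 49 + 324 + 324 := by
      rw [List.map_congr_left (g := fun χ => (if dg χ = 22 then 36 else if dg χ = 231 then 49
          else 324 : ℤ)) fun χ hχ => by
        have h := hT.valF χ (Finset.mem_toList.1 hχ)
        rw [hv] at h
        split_ifs at h ⊢ <;> norm_cast at h <;> rw [h] <;> decide]
      rw [show (fun χ : Cfsg.IrrCharacter G => (if dg χ = 22 then 36 else if dg χ = 231 then 49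
          else 324 : ℤ)) = (fun d : ℕ => (if d = 22 then 36 else if d = 231 then 49
          else 324 : ℤ)) ∘ dg from rfl, ← List.map_map, (hT.degF.map _).sum_eq]
      norm_num
    simp only [List.map_cons, List.map_nil, List.sum_cons, List.sum_nil, b0, b1, b2, b3, b4, b5,
      b6, b7, b8, b9, b10, hF]
    decide
  have hsplit : ∀ f : Cfsg.IrrCharacter G → ℤ,
      ∑ χ, f χ = ∑ χ ∈ S, f χ + ∑ χ ∈ Sᶜ, f χ := fun f => (Finset.sum_add_sum_compl S f).symm
  rw [hsplit, Finset.sum_congr rfl fun χ hχ => by rw [heq χ hχ], hcoreS] at h0'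
  rw [hsplit, Finset.sum_congr rfl (g := fun χ => v χ * v χ) fun χ hχ => by rw [heq χ hχ],
    hcoreS] at hsu
  rw [hsplit, hcoreS] at hsv
  have hle : ∑ χ ∈ Sᶜ, (-(2 : ℤ) * (u χ * v χ)) ≤ ∑ χ ∈ Sᶜ, (u χ * u χ + v χ * v χ) :=
    Finset.sum_le_sum fun χ _ => by nlinarith [mul_self_nonneg (u χ + v χ)]
  rw [← Finset.mul_sum, Finset.sum_add_distrib] at hle
  push_cast at hsu hsv
  linarith

end Cfsg.Agent.Fg24.M23
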