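import Cfsg.Agent.Fg24.M23.ColumnArith

/-!
# The search for the column of an involution, part A
-/

set_option autoImplicit false
set_option maxRecDepth 20000

namespace Cfsg.Agent.Fg24.M23

/-- Orders of centralizers with the square root. -/
def ordListA : List (ℕ × ℕ) := [(2, 1), (4, 2), (6, 2), (8, 2), (10, 3), (12, 3), (14, 3), (16, 4), (18, 4), (20, 4), (24, 4), (28, 5), (30, 5), (32, 5), (36, 6), (40, 6), (42, 6), (48, 6), (56, 7), (60, 7), (64, 8), (70, 8), (72, 8), (80, 8), (84, 9), (90, 9), (96, 9), (112, 10), (120, 10), (126, 11), (128, 11), (140, 11), (144, 12), (160, 12), (168, 12), (180, 13), (192, 13), (210, 14), (224, 14), (240, 15), (252, 15), (280, 16), (288, 16), (320, 17), (336, 18), (360, 18), (384, 19), (420, 20), (448, 21), (480, 21), (504, 22), (560, 23), (576, 24), (630, 25), (640, 25), (672, 25), (720, 26), (840, 28)]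

theorem searchA : ordListA.all search = true := by decide +kernel

end Cfsg.Agent.Fg24.M23
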