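import Cfsg.Agent.Fg24.M23.DegreesArith

/-!
# The search for the column of an involution
-/

set_option autoImplicit false
set_option maxRecDepth 20000

namespace Cfsg.Agent.Fg24.M23

/-- Candidate values at an involution with centralizer order `c < (r + 1) ^ 2`. -/
def cands (c r d : ℕ) : List ℤ :=
  let m := if d - 1 ≤ r then d - 1 else r
  ((List.range (2 * m + 1)).map fun j : ℕ => (j : ℤ) - (m : ℤ)).filter fun v =>
    ((d : ℤ) - v) % 4 == 0 && decide (v * v ≤ (c : ℤ)) && ((10200960 / c : ℕ) : ℤ) * v % (d : ℤ) == 0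

/-- The conditions on a single value. -/
def okv (c d : ℕ) (v : ℤ) : Bool :=
  ((d : ℤ) - v) % 4 == 0 && decide (v * v ≤ (c : ℤ)) && decide (v.natAbs < d) &&
    ((10200960 / c : ℕ) : ℤ) * v % (d : ℤ) == 0

/-- The scale of the forms. -/
def wt (d : ℕ) : ℤ := ((10200960 / d : ℕ) : ℤ)

/-- The further members of the 23-block, equal degrees in increasing order of values. -/
def recF (c r : ℕ) (fin : List ℤ → ℤ → ℤ → ℤ → Bool) :
    List ℕ → ℕ → ℤ → List ℤ → ℤ → ℤ → ℤ → Bool
  | [], _, _, acc, T, Q, S => fin acc T Q S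
  | d :: L, pd, pv, acc, T, Q, S => (cands c r d).all fun v =>
      (d == pd && decide (v < pv)) || !decide (S + v * v ≤ (c : ℤ)) ||
        recF c r fin L d v (acc ++ [v]) (T + sgn23 d * v) (Q + sgn23 d * (v * v) * wt d) (S + v * v)

/-- The expected values. -/
def expect (c p : ℕ) (core : List ℕ × ℕ) (vs : List ℤ) : Bool :=
  c == 2688 && p == 230 && core == ([22, 231, 231, 990, 990], 770) &&
    vs == [-3, -3, 22, 27, 0, 7, 8, -14, 6, 7, 7, -18, -18]

/-- The second phase. -/
def phase2 (c r p : ℕ) (va vb vp vq u S : ℤ) : Bool :=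
  (cands c r 231).all fun w =>
    let l := 1 + w + 2 * u
    !(okv c 2024 l && decide (S + w * w + l * l ≤ (c : ℤ))) ||
      (cores.filter fun k => k.1 == p).all fun k =>
        let y := k.2.2
        recF c r
          (fun acc T Q S' =>
            let z := -(sgn23 y * T)
            !(okv c y z && decide (S' + 2 * (z * z) ≤ (c : ℤ)) &&
              (Q + sgn23 y * (z * z) * wt y == 0)) ||
              expect c p (k.2.1, y) ([va, vb, vp, vq, u, w, l, z] ++ acc))
          k.2.1 0 0 [] (1 - va - vb - 2 * u + w)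
          (10200960 - wt 45 * (va * va + vb * vb) - 2 * wt 896 * (u * u) + wt 231 * (w * w))
          (S + w * w + l * l)

/-- The first phase. -/
def phase1 (c r p q : ℕ) : Bool :=
  (cands c r 45).all fun va => (cands c r 45).all fun vb =>
    decide (vb < va) || !decide (1 + va * va + vb * vb ≤ (c : ℤ)) ||
      (cands c r p).all fun vp => !decide (1 + va * va + vb * vb + vp * vp ≤ (c : ℤ)) ||
        (cands c r q).all fun vq =>
          let u := 1 + va + vb - vp + vq
          let S := 1 + va * va + vb * vb + vp * vp + vq * vq + 2 * (u * u)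
          !(decide (S ≤ (c : ℤ)) &&
            (10200960 + wt 45 * (va * va + vb * vb) - wt p * (vp * vp) + wt q * (vq * vq) -
              wt 896 * (u * u) == 0) && okv c 896 u) ||
            phase2 c r p va vb vp vq u S

/-- The search for one order of the centralizer. -/
def search (cr : ℕ × ℕ) : Bool :=
  phase1 cr.1 cr.2 230 1035 && phase1 cr.1 cr.2 483 1288

end Cfsg.Agent.Fg24.M23
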