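import Cfsg.Agent.Fg24.M23.NormE

/-!
# The subgroup of order sixteen with its normalizer
-/

set_option autoImplicit false
set_option linter.unusedSectionVars false

namespace Cfsg.Agent.Fg24.M23

open Cfsg.Agent Subgroup

universe u

variable {G : Type u} [Group G]

/-- An elementary abelian subgroup of order sixteen with transitive normalizer. -/
structure NData (G : Type u) [Group G] where
  E : Subgroup G
  card : Nat.card E = 16
  sq : ∀ x ∈ E, x * x = 1
  comm : ∀ x ∈ E, ∀ y ∈ E, Commute x y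
  cent : ∀ h : G, (∀ x ∈ E, Commute h x) → h ∈ E
  card_normalizer : Nat.card (normalizer (E : Set G)) = 40320
  centralizer_le : ∀ x ∈ E, x ≠ 1 → centralizer ({x} : Set G) ≤ normalizer (E : Set G)
  trans : ∀ x ∈ E, x ≠ 1 → ∀ y ∈ E, y ≠ 1 → ∃ n ∈ normalizer (E : Set G), n * x * n⁻¹ = y

/-- The normalizer. -/
abbrev NData.N (D : NData G) : Subgroup G := normalizer (D.E : Set G)

theorem NData.le_N (D : NData G) : D.E ≤ D.N := le_normalizer

theorem NData.orderOf_eq (D : NData G) {x : G} (hx : x ∈ D.E) (h1 : x ≠ 1) : orderOf x = 2 :=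
  orderOf_eq_prime (by rw [pow_two, D.sq x hx]) h1

variable [Fintype G] [IsSimpleGroup G] (hG : Nat.card G = ord)
variable [Fact (Nat.Prime 11)] [Fact (Nat.Prime 23)] [Fact (Nat.Prime 5)] [Fact (Nat.Prime 7)]
variable (T : Table G)
include hG T

theorem exists_nData : Nonempty (NData G) := by
  classical
  obtain ⟨t, ht⟩ := exists_prime_orderOf_dvd_card' (G := G) 2 (hp := ⟨Nat.prime_two⟩)
    (by rw [hG]; norm_num [ord])
  have hE := eSub_spec hG T ht
  set E := eSub hG T t ht with hEdef
  have hsame : ∀ x ∈ E, ∀ (hx : orderOf x = 2), eSub hG T x hx = E := fun x hx hxo =>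
    (eSub_eq_of_mem hG T ht hx hxo).1
  have hmapN : ∀ g : G, E.map (MulAut.conj g).toMonoidHom = E → g ∈ normalizer (E : Set G) :=
    fun g hg => mem_normalizer_iff.2 fun x => ⟨fun hx => hg.le ⟨x, hx, rfl⟩, fun hx => by
      obtain ⟨z, hz, hzx⟩ := hg.ge hx
      exact (MulAut.conj g).injective hzx ▸ hz⟩
  have hord : ∀ x ∈ E, x ≠ 1 → orderOf x = 2 := fun x hx h1 =>
    orderOf_eq_prime (by rw [sq, hE.sq x hx]) h1
  have hmove : ∀ x y g : G, x ∈ E → y ∈ E → x ≠ 1 → y ≠ 1 → g * x * g⁻¹ = y →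
      g ∈ normalizer (E : Set G) := by
    intro x y g hx hy h1 h1' he
    refine hmapN g ?_
    have hgo : orderOf (g * x * g⁻¹) = 2 := by rw [he]; exact hord y hy h1'
    rw [← hsame x hx (hord x hx h1), eSub_conj hG T (hord x hx h1) g hgo,
      eSub_congr hG T he hgo (hord y hy h1'), hsame y hy (hord y hy h1'),
      hsame x hx (hord x hx h1)]
  refine ⟨⟨E, hE.card, hE.sq, hE.comm, hE.cent, (eSub_eq_of_mem hG T ht hE.mem ht).2, ?_, ?_⟩⟩
  · intro x hx h1 g hg
    exact hmove x x g hx hx h1 h1 (by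
      rw [mem_centralizer_singleton_iff.1 hg, mul_inv_cancel_right])
  · intro x hx h1 y hy h1'
    obtain ⟨g, hg⟩ := isConj_iff.1 (T.conj_two x y (hord x hx h1) (hord y hy h1'))
    exact ⟨g, hmove x y g hx hy h1 h1' hg, hg⟩

omit [IsSimpleGroup G] hG T in
/-- An element of order `p` of the normalizer moving no or one element of the subgroup. -/
theorem exists_fixed (D : NData G) {p : ℕ} [Fact p.Prime] {x : G} (hx : orderOf x = p)
    (hxN : x ∈ D.N) (hp : ¬ p ∣ 15) : ∃ s ∈ D.E, s ≠ 1 ∧ Commute x s := by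
  classical
  have hP : IsPGroup p (zpowers x) := IsPGroup.of_card (n := 1) (by
    rw [Nat.card_zpowers, hx, pow_one])
  let X := {s : G // s ∈ D.E ∧ s ≠ 1}
  have hle : zpowers x ≤ D.N := zpowers_le.2 hxN
  letI : MulAction (zpowers x) X :=
    { smul := fun g s => ⟨(g : G) * (s : G) * (g : G)⁻¹, (mem_normalizer_iff.1 (hle g.2) _).1 s.2.1,
        fun e => s.2.2 (conj_eq_one_iff.1 e)⟩
      one_smul := fun s => Subtype.ext (by show ((1 : G)) * (s : G) * 1⁻¹ = s; simp)
      mul_smul := fun g h s => Subtype.ext (by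
        show ((g : G) * (h : G)) * (s : G) * ((g : G) * (h : G))⁻¹ =
          (g : G) * ((h : G) * (s : G) * (h : G)⁻¹) * (g : G)⁻¹
        group) }
  have hX : Nat.card X = 15 := by
    rw [Nat.card_eq_fintype_card, Fintype.card_subtype,
      show (Finset.univ.filter fun s : G => s ∈ D.E ∧ s ≠ 1) =
        (Finset.univ.filter (· ∈ D.E)).erase 1 by ext; simp [and_comm],
      Finset.card_erase_of_mem (by simp [one_mem]), ← Fintype.card_subtype,
      ← Nat.card_eq_fintype_card, show Nat.card {x : G // x ∈ D.E} = 16 from D.card]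
  have h := hP.card_modEq_card_fixedPoints X
  rw [hX] at h
  have hne : Nonempty (MulAction.fixedPoints (zpowers x) X) := by
    rw [← Finite.card_pos_iff]
    by_contra h0
    rw [show Nat.card (MulAction.fixedPoints (zpowers x) X) = 0 by omega] at h
    exact hp (Nat.modEq_zero_iff_dvd.1 h)
  obtain ⟨s, hs⟩ := hne
  refine ⟨s.1, s.2.1, s.2.2, ?_⟩
  have h1 : x * (s : G) * x⁻¹ = (s : G) := congrArg Subtype.val (hs ⟨x, mem_zpowers x⟩)
  exact mul_inv_eq_iff_eq_mul.1 h1

/-- The normalizer of a subgroup of order seven inside the normalizer stays inside. -/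
theorem normalizer_seven_le (D : NData G) {x g : G} (hx : orderOf x = 7) (hxN : x ∈ D.N)
    (hg : g * x * g⁻¹ ∈ zpowers x) : g ∈ D.N := by
  obtain ⟨s, hs, h1, hc⟩ := exists_fixed D hx hxN (by norm_num)
  exact D.centralizer_le s hs h1 (mem_centralizer_singleton_iff.2
    (commute_of_normalizes hG T hx (D.orderOf_eq hs h1) hc.symm hg).eq)

/-- An element of order five fixes no element of the subgroup. -/
theorem five_free (D : NData G) {x s : G} (hx : orderOf x = 5) (hs : s ∈ D.E) (h1 : s ≠ 1) :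
    ¬ Commute x s := fun h => by
  have := orderOf_dvd_natCard (centralizer ({s} : Set G)) (x := x)
    (mem_centralizer_singleton_iff.2 h.eq)
  rw [hx, T.card_two s (D.orderOf_eq hs h1)] at this
  norm_num at this

end Cfsg.Agent.Fg24.M23
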