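import Cfsg.Agent.Fg24.M23.Degrees

/-!
# The characters of the principal 11- and 23-blocks
-/

set_option autoImplicit false
set_option linter.unusedSectionVars false

namespace Cfsg.Agent.Fg24.M23

open Cfsg.Agent Cfsg.Agent.Blocks

universe u

variable {G : Type u} [Group G] [Fintype G]

/-- The members of the principal blocks at five, eleven and twenty-three that are needed. -/
structure Core (G : Type u) [Group G] [Fintype G] where
  a : Cfsg.IrrCharacter G
  b : Cfsg.IrrCharacter G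
  p : Cfsg.IrrCharacter G
  q : Cfsg.IrrCharacter G
  θ : Cfsg.IrrCharacter G
  θ' : Cfsg.IrrCharacter G
  w : Cfsg.IrrCharacter G
  l : Cfsg.IrrCharacter G
  y : Cfsg.IrrCharacter G
  y' : Cfsg.IrrCharacter G
  F : Finset (Cfsg.IrrCharacter G)
  nodup : ([triv G, a, b, p, q, θ, θ', w, l, y, y'] ++ F.toList).Nodup
  degs : dg a = 45 ∧ dg b = 45 ∧ dg θ = 896 ∧ dg θ' = 896 ∧ dg w = 231 ∧ dg l = 2024 ∧
    dg y' = dg y
  pq : (dg p = 230 ∧ dg q = 1035) ∨ (dg p = 483 ∧ dg q = 1288)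
  complete11 : ∀ χ : Cfsg.IrrCharacter G, ¬ 11 ∣ dg χ →
    χ = triv G ∨ χ = a ∨ χ = b ∨ χ = p ∨ χ = q ∨ χ = θ ∨ χ = θ'
  complete23 : ∀ χ : Cfsg.IrrCharacter G, dg χ % 23 = 1 ∨ dg χ % 23 = 22 →
    χ ∈ [triv G, a, b, θ, θ', w] ∨ χ ∈ F
  completeY : ∀ χ : Cfsg.IrrCharacter G, dg χ % 23 = 11 ∨ dg χ % 23 = 12 → χ = y ∨ χ = y'
  core : ∃ L : List ℕ, (F.toList.map dg).Perm L ∧ (dg p, L, dg y) ∈ cores
  rel5 : ∀ g : G, Reg g → (l : G → ℂ) g = 1 + (w : G → ℂ) g + (θ : G → ℂ) g + (θ' : G → ℂ) g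
  rel11 : ∀ g : G, Reg g → (θ' : G → ℂ) g = (θ : G → ℂ) g ∧ (θ : G → ℂ) g =
    1 + (a : G → ℂ) g + (b : G → ℂ) g - (p : G → ℂ) g + (q : G → ℂ) g
  rel23 : ∀ g : G, Reg g → (y' : G → ℂ) g = (y : G → ℂ) g ∧
    (sgn23 (dg y) : ℂ) * (y : G → ℂ) g + (1 - (a : G → ℂ) g - (b : G → ℂ) g - (θ : G → ℂ) g -
      (θ' : G → ℂ) g + (w : G → ℂ) g + ∑ χ ∈ F, (sgn23 (dg χ) : ℂ) * (χ : G → ℂ) g) = 0
  form11 : ∀ t : G, orderOf t = 2 → ∀ v : Cfsg.IrrCharacter G → ℤ,
    (∀ χ : Cfsg.IrrCharacter G, (χ : G → ℂ) t = v χ) →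
    (1 : ℂ) + (v a : ℂ) ^ 2 / 45 + (v b : ℂ) ^ 2 / 45 - (v p : ℂ) ^ 2 / dg p +
      (v q : ℂ) ^ 2 / dg q - (v θ : ℂ) ^ 2 / 896 = 0
  form23 : ∀ t : G, orderOf t = 2 → ∀ v : Cfsg.IrrCharacter G → ℤ,
    (∀ χ : Cfsg.IrrCharacter G, (χ : G → ℂ) t = v χ) →
    (sgn23 (dg y) : ℂ) * (v y : ℂ) ^ 2 / dg y + (1 - (v a : ℂ) ^ 2 / 45 - (v b : ℂ) ^ 2 / 45 -
      (v θ : ℂ) ^ 2 / 896 - (v θ' : ℂ) ^ 2 / 896 + (v w : ℂ) ^ 2 / 231 +
      ∑ χ ∈ F, (sgn23 (dg χ) : ℂ) * (v χ : ℂ) ^ 2 / dg χ) = 0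

/-- The block relation at an element and the form at an involution. -/
theorem Blk.forms {p : ℕ} [Fact p.Prime] {P : Sylow p G} {e : ℕ} (B : Blk P e) (hp : p ≠ 2)
    (he : Odd e) {t : G} (ht : orderOf t = 2) {v : Cfsg.IrrCharacter G → ℤ}
    (hv : ∀ χ : Cfsg.IrrCharacter G, (χ : G → ℂ) t = v χ) {θ : Cfsg.IrrCharacter G} (hθ : θ ∈ B.Y) :
    (B.s : ℂ) * (v θ : ℂ) ^ 2 / dg θ + ∑ χ ∈ B.X, (B.a χ : ℂ) * (v χ : ℂ) ^ 2 / dg χ = 0 := by
  obtain ⟨z, hz, hz1, hzo⟩ := B.setup.exists_gen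
  have htp : ¬ p ∣ orderOf t := by
    rw [ht]; exact fun h => hp ((Nat.prime_dvd_prime_iff_eq (Fact.out : p.Prime) Nat.prime_two).1 h)
  have h := B.pairs_formula hz hz1 htp (fun χ _ => hv χ) hθ
  rw [no_pairs B.setup hp he hz hz1 ht, Nat.cast_zero, zero_mul] at h
  have h' := (mul_eq_zero.1 h.symm).resolve_left (mul_ne_zero
    (pow_ne_zero 2 (Nat.cast_ne_zero.2 Subgroup.index_ne_zero_of_finite))
    (Nat.cast_ne_zero.2 (Finset.card_ne_zero.2 ⟨z, BlockThms.OrderP.self_mem_fiber hz⟩)))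
  rw [add_comm]
  exact h'

variable [IsSimpleGroup G] (hG : Nat.card G = ord)
variable [Fact (Nat.Prime 11)] [Fact (Nat.Prime 23)]
include hG

set_option maxHeartbeats 2000000 in
theorem exists_core [Fact (Nat.Prime 5)] : Nonempty (Core G) := by
  classical
  obtain ⟨-, w, θ, θ', l, hne, hw, hθ, hθ', hl, h5⟩ := five hG (default : Sylow 5 G)
  -- the block at eleven
  obtain ⟨B⟩ := eleven_block hG (default : Sylow 11 G)
  have hθY : θ ∈ B.Y := (Y_eleven hG B).2 (by rw [hθ]; norm_num)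
  have hθ'Y : θ' ∈ B.Y := (Y_eleven hG B).2 (by rw [hθ']; norm_num)
  have hY : B.Y = {θ, θ'} := (Finset.eq_of_subset_of_card_le
    (Finset.insert_subset hθY (Finset.singleton_subset_iff.2 hθ'Y))
    (by rw [B.cardY, Finset.card_pair hne])).symm
  have hs : B.s = -1 := by
    have h4 := Int.ModEq.eq (B.modY θ hθY)
    rw [hθ] at h4
    rcases B.hs with e | e <;> rw [e] at h4 ⊢
    norm_num at h4
  have htX : triv G ∈ B.X := (X_eleven hG B).2 (by rw [dg_triv]; norm_num)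
  have hta := B.a_triv (by norm_num) htX
  obtain ⟨a, b, p, q, hmem, hnd, hab, hbp, hpq, hsum⟩ := exists_four (B.X.erase (triv G))
    (by rw [Finset.card_erase_of_mem htX, B.cardX])
  have hx : ∀ ψ ∈ [a, b, p, q], dg ψ ∈ 12 :: xList ∧
      B.a ψ = if dg ψ % 11 = 1 then 1 else -1 := by
    intro ψ hψ
    obtain ⟨hne, hX⟩ := Finset.mem_erase.1 ((hmem ψ).2 hψ)
    have hmod := (X_eleven hG B).1 hX
    refine ⟨?_, ?_⟩
    · have h := deg_eleven_X hG B (Or.inl hX) hmod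
      have h1 : dg ψ ≠ 1 := fun e => hne (dg_one hG e)
      simp only [xList, List.mem_cons, List.not_mem_nil, or_false] at h ⊢
      omega
    · have h4 := Int.ModEq.eq (B.modX ψ hX)
      rcases B.ha ψ hX with e | e <;> rw [e] at h4 ⊢ <;> norm_num at h4
      · rw [if_pos (by omega)]
      · rw [if_neg (by omega)]
  have hpat : [dg a, dg b, dg p, dg q] = [45, 45, 230, 1035] ∨
      [dg a, dg b, dg p, dg q] = [45, 45, 483, 1288] := by
    have h3 := congrArg (fun n : ℤ => (n : ℂ)) (B.rel_one hθY)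
    push_cast at h3
    rw [← Finset.add_sum_erase _ _ htX, hsum, hs, hta, dg_triv, hθ, (hx a (by simp)).2,
      (hx b (by simp)).2, (hx p (by simp)).2, (hx q (by simp)).2] at h3
    have h6 : elevenSum (dg a) (dg b) (dg p) (dg q) = 895 := by
      rw [← Int.cast_inj (α := ℂ)]
      simp only [elevenSum]
      push_cast at h3 ⊢
      split_ifs at h3 ⊢ <;> linear_combination h3
    have := List.all_eq_true.1 (List.all_eq_true.1 (List.all_eq_true.1 (List.all_eq_true.1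
      pattern_896 _ (hx a (by simp)).1) _ (hx b (by simp)).1) _ (hx p (by simp)).1) _
      (hx q (by simp)).1
    simpa [hab, hbp, hpq, h6] using this
  have hdab : dg a = 45 ∧ dg b = 45 ∧ ((dg p = 230 ∧ dg q = 1035) ∨ (dg p = 483 ∧ dg q = 1288)) := by
    simp only [List.cons.injEq, and_true] at hpat
    omega
  obtain ⟨ha, hb, hpq'⟩ := hdab
  have hsa : B.a a = 1 ∧ B.a b = 1 ∧ B.a p = -1 ∧ B.a q = 1 := by
    rw [(hx a (by simp)).2, (hx b (by simp)).2, (hx p (by simp)).2, (hx q (by simp)).2, ha, hb]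
    rcases hpq' with ⟨e, e'⟩ | ⟨e, e'⟩ <;> rw [e, e'] <;> norm_num
  -- the block at twenty-three
  obtain ⟨C⟩ := twentythree_block hG (default : Sylow 23 G)
  have hC1 : triv G ∈ C.X := (X_twentythree hG C).2 (by rw [dg_triv]; norm_num)
  let six : Finset (Cfsg.IrrCharacter G) := {triv G, a, b, θ, θ', w}
  have hab' : a ≠ b := by rintro rfl; simp at hnd
  have hsix : six.card = 6 := by
    have hne' : ∀ {χ ψ : Cfsg.IrrCharacter G}, dg χ ≠ dg ψ → χ ≠ ψ := fun h e => h (e ▸ rfl)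
    have h1 := fun χ h => (hne' (χ := triv G) (ψ := χ) h)
    simp only [six]
    rw [Finset.card_insert_of_notMem, Finset.card_insert_of_notMem, Finset.card_insert_of_notMem,
      Finset.card_insert_of_notMem, Finset.card_pair (hne' (by rw [hθ', hw]; norm_num))] <;>
      simp only [Finset.mem_insert, Finset.mem_singleton, not_or]
    · exact ⟨hne, hne' (by rw [hθ, hw]; norm_num)⟩
    · exact ⟨hne' (by rw [hb, hθ]; norm_num), hne' (by rw [hb, hθ']; norm_num),
        hne' (by rw [hb, hw]; norm_num)⟩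
    · exact ⟨hab', hne' (by rw [ha, hθ]; norm_num), hne' (by rw [ha, hθ']; norm_num),
        hne' (by rw [ha, hw]; norm_num)⟩
    · exact ⟨h1 _ (by rw [dg_triv, ha]; norm_num), h1 _ (by rw [dg_triv, hb]; norm_num),
        h1 _ (by rw [dg_triv, hθ]; norm_num), h1 _ (by rw [dg_triv, hθ']; norm_num),
        h1 _ (by rw [dg_triv, hw]; norm_num)⟩
  have hsixX : six ⊆ C.X := by
    intro χ hχ
    simp only [six, Finset.mem_insert, Finset.mem_singleton] at hχ
    refine (X_twentythree hG C).2 ?_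
    rcases hχ with e | e | e | e | e | e <;> subst e <;>
      first
      | (rw [dg_triv]; norm_num; done)
      | (rw [ha]; norm_num; done)
      | (rw [hb]; norm_num; done)
      | (rw [hθ]; norm_num; done)
      | (rw [hθ']; norm_num; done)
      | (rw [hw]; norm_num; done)
  let F := C.X \ six
  have hFc : F.card = 5 := by
    rw [Finset.card_sdiff_of_subset hsixX, C.cardX, hsix]
  have hCa : ∀ χ ∈ C.X, C.a χ = sgn23 (dg χ) := fun χ h => by
    have h4 := Int.ModEq.eq (C.modX χ h)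
    rcases C.ha χ h with e | e <;> rw [e] at h4 ⊢ <;> norm_num at h4
    · rw [sgn23, if_pos (by omega)]
    · rw [sgn23, if_neg (by omega)]
  -- the remaining members are divisible by eleven
  have hsplit : ∀ f : Cfsg.IrrCharacter G → ℂ, ∑ χ ∈ C.X, f χ =
      f (triv G) + f a + f b + f θ + f θ' + f w + ∑ χ ∈ F, f χ := fun f => by
    rw [← Finset.sum_sdiff hsixX, add_comm]
    congr 1
    simp only [six]
    have hne' : ∀ {χ ψ : Cfsg.IrrCharacter G}, dg χ ≠ dg ψ → χ ≠ ψ := fun h e => h (e ▸ rfl)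
    rw [Finset.sum_insert, Finset.sum_insert, Finset.sum_insert, Finset.sum_insert,
      Finset.sum_pair (hne' (by rw [hθ', hw]; norm_num))]
    · ring
    all_goals simp only [Finset.mem_insert, Finset.mem_singleton, not_or]
    · exact ⟨hne, hne' (by rw [hθ, hw]; norm_num)⟩
    · exact ⟨hne' (by rw [hb, hθ]; norm_num), hne' (by rw [hb, hθ']; norm_num),
        hne' (by rw [hb, hw]; norm_num)⟩
    · exact ⟨hab', hne' (by rw [ha, hθ]; norm_num), hne' (by rw [ha, hθ']; norm_num),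
        hne' (by rw [ha, hw]; norm_num)⟩
    · exact ⟨hne' (by rw [dg_triv, ha]; norm_num), hne' (by rw [dg_triv, hb]; norm_num),
        hne' (by rw [dg_triv, hθ]; norm_num), hne' (by rw [dg_triv, hθ']; norm_num),
        hne' (by rw [dg_triv, hw]; norm_num)⟩
  have h11 : ∀ χ : Cfsg.IrrCharacter G, ¬ 11 ∣ dg χ →
      χ = triv G ∨ χ = a ∨ χ = b ∨ χ = p ∨ χ = q ∨ χ = θ ∨ χ = θ' := by
    intro χ h
    rcases mem_eleven hG B h with h | h
    · by_cases e : χ = triv G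
      · exact Or.inl e
      · have := (hmem χ).1 (Finset.mem_erase.2 ⟨e, h⟩)
        simp only [List.mem_cons, List.not_mem_nil, or_false] at this
        rcases this with rfl | rfl | rfl | rfl <;> simp
    · rw [hY, Finset.mem_insert, Finset.mem_singleton] at h
      rcases h with rfl | rfl <;> simp
  have hFd : ∀ χ ∈ F, dg χ % 11 = 0 ∧ (dg χ % 23 = 1 ∨ dg χ % 23 = 22) ∧ dg χ ∈ mList := by
    intro χ hχ
    obtain ⟨hX, hsix'⟩ := Finset.mem_sdiff.1 hχ
    have h23 := (X_twentythree hG C).1 hX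
    have h0 : dg χ % 11 = 0 := by
      refine Nat.mod_eq_zero_of_dvd (by_contra fun h => ?_)
      simp only [six, Finset.mem_insert, Finset.mem_singleton, not_or] at hsix'
      rcases h11 χ h with e | e | e | e | e | e | e
      · exact hsix'.1 e
      · exact hsix'.2.1 e
      · exact hsix'.2.2.1 e
      · rw [e] at h23; omega
      · rw [e] at h23; omega
      · exact hsix'.2.2.2.1 e
      · exact hsix'.2.2.2.2.1 e
    refine ⟨h0, h23, ?_⟩
    have := List.all_eq_true.1 mList_complete _ (mem_degList hG χ)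
    rcases h23 with h | h <;> simpa [h0, h, List.contains_iff_mem] using this
  obtain ⟨y, hy⟩ := C.Y_nonempty
  obtain ⟨y', hy'⟩ := Finset.card_eq_one.1 (show (C.Y.erase y).card = 1 by
    rw [Finset.card_erase_of_mem hy, C.cardY])
  obtain ⟨hyne, hy'Y⟩ := Finset.mem_erase.1 (hy'.symm ▸ Finset.mem_singleton_self y' :
    y' ∈ C.Y.erase y)
  have hyd : dg y % 11 = 0 ∧ (dg y % 23 = 11 ∨ dg y % 23 = 12) ∧ dg y ∈ yList := by
    have h23 := (Y_twentythree hG C).1 hy
    have h0 : dg y % 11 = 0 := by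
      refine Nat.mod_eq_zero_of_dvd (by_contra fun h => ?_)
      rcases h11 y h with e | e | e | e | e | e | e <;> rw [e] at h23
      · rw [dg_triv] at h23; omega
      all_goals omega
    refine ⟨h0, h23, ?_⟩
    have := List.all_eq_true.1 yList_complete _ (mem_degList hG y)
    have h11' : 11 < dg y := by
      have := ne_eleven hG y; have := dg_pos y; omega
    rcases h23 with h | h <;> simpa [h0, h, h11', List.contains_iff_mem] using this
  have hsy : C.s = sgn23 (dg y) := by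
    have h4 := Int.ModEq.eq (C.modY y hy)
    rcases C.hs with e | e <;> rw [e] at h4 ⊢ <;> norm_num at h4
    · rw [sgn23, if_pos (by omega)]
    · rw [sgn23, if_neg (by omega)]
  have hCa6 : C.a (triv G) = 1 ∧ C.a a = -1 ∧ C.a b = -1 ∧ C.a θ = -1 ∧ C.a θ' = -1 ∧ C.a w = 1 := by
    have := fun χ (h : χ ∈ six) => hCa χ (hsixX h)
    refine ⟨?_, ?_, ?_, ?_, ?_, ?_⟩ <;> rw [this _ (by simp [six])]
    · rw [dg_triv]; rfl
    · rw [ha]; rfl
    · rw [hb]; rfl
    · rw [hθ]; rfl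
    · rw [hθ']; rfl
    · rw [hw]; rfl
  -- all distinct
  have hnodup : ([triv G, a, b, p, q, θ, θ', w, l, y, y'] ++ F.toList).Nodup := by
    rw [List.nodup_append]
    refine ⟨?_, F.nodup_toList, ?_⟩
    · have hd1 : dg (triv G : Cfsg.IrrCharacter G) = 1 := dg_triv
      have hyy := C.dg_Y hy'Y hy
      have h1 : [dg (triv G : Cfsg.IrrCharacter G), dg a, dg p, dg q, dg θ, dg w, dg l, dg y].Nodup := by
        rw [hd1, ha, hθ, hw, hl]
        have hym := hyd.2.2
        simp only [yList, List.mem_cons, List.not_mem_nil, or_false] at hym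
        rcases hpq' with ⟨e, e'⟩ | ⟨e, e'⟩ <;> rw [e, e'] <;>
          rcases hym with e | e | e | e | e <;> rw [e] <;> decide
      have key : ∀ {χ ψ : Cfsg.IrrCharacter G}, χ = ψ → dg χ = dg ψ := fun h => h ▸ rfl
      simp only [List.nodup_cons, List.mem_cons, List.not_mem_nil, or_false, not_or,
        List.nodup_nil, and_true, not_false_eq_true] at h1 ⊢
      obtain ⟨⟨n1, n2, n3, n4, n5, n6, n7⟩, ⟨n8, n9, n10, n11, n12, n13⟩,
        ⟨n14, n15, n16, n17, n18⟩, ⟨n19, n20, n21, n22⟩, ⟨n23, n24, n25⟩, ⟨n26, n27⟩, n28⟩ := h1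
      refine ⟨⟨?_, ?_, ?_, ?_, ?_, ?_, ?_, ?_, ?_, ?_⟩, ⟨hab', ?_, ?_, ?_, ?_, ?_, ?_, ?_, ?_⟩,
        ⟨?_, ?_, ?_, ?_, ?_, ?_, ?_, ?_⟩, ⟨?_, ?_, ?_, ?_, ?_, ?_, ?_⟩, ⟨?_, ?_, ?_, ?_, ?_, ?_⟩,
        ⟨hne, ?_, ?_, ?_, ?_⟩, ⟨?_, ?_, ?_, ?_⟩, ⟨?_, ?_, ?_⟩, ⟨?_, ?_⟩, hyne.symm⟩
      all_goals (intro h; have h := key h; omega)
    · intro χ hχ ψ hψ e
      subst e
      rw [Finset.mem_toList] at hψ
      obtain ⟨h0, h23, hm⟩ := hFd χ hψ
      have hsix' := (Finset.mem_sdiff.1 hψ).2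
      simp only [six, Finset.mem_insert, Finset.mem_singleton, not_or] at hsix'
      simp only [List.mem_cons, List.not_mem_nil, or_false] at hχ
      obtain ⟨n1, n2, n3, n4, n5, n6⟩ := hsix'
      rcases hχ with e | e | e | e | e | e | e | e | e | e | e <;> subst e
      · exact n1 rfl
      · exact n2 rfl
      · exact n3 rfl
      · omega
      · omega
      · exact n4 rfl
      · exact n5 rfl
      · exact n6 rfl
      · omega
      · omega
      · have := (Y_twentythree hG C).1 hy'Y; omega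
  -- the fourteen possibilities
  have hcore : ∃ L : List ℕ, (F.toList.map dg).Perm L ∧ (dg p, L, dg y) ∈ cores := by
    obtain ⟨L, hL, hsort⟩ := exists_sorted F
    have hlen : L.length = 5 := by rw [hL.length_eq, Finset.length_toList, hFc]
    match L, hlen with
    | [f₁, f₂, f₃, f₄, f₅], _ =>
      refine ⟨[dg f₁, dg f₂, dg f₃, dg f₄, dg f₅], (hL.map dg).symm, ?_⟩
      simp only [List.pairwise_cons, List.mem_cons, List.not_mem_nil, or_false, forall_eq_or_imp,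
        forall_eq] at hsort
      have hf : ∀ χ ∈ [f₁, f₂, f₃, f₄, f₅], χ ∈ F := fun χ h =>
        Finset.mem_toList.1 (hL.mem_iff.1 h)
      have hFsum : ∀ f : Cfsg.IrrCharacter G → ℂ,
          ∑ χ ∈ F, f χ = f f₁ + f f₂ + f f₃ + f f₄ + f f₅ := fun f => by
        rw [← Finset.sum_map_toList, ← (hL.map f).sum_eq]
        simp [add_assoc]
      have h3 := congrArg (fun n : ℤ => (n : ℂ)) (C.rel_one hy)
      push_cast at h3
      rw [hsplit, hCa6.1, hCa6.2.1, hCa6.2.2.1, hCa6.2.2.2.1, hCa6.2.2.2.2.1, hCa6.2.2.2.2.2,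
        dg_triv, ha, hb, hθ, hθ', hw, hsy, Finset.sum_congr rfl (g := fun χ =>
          (sgn23 (dg χ) : ℂ) * (dg χ : ℂ)) fun χ hχ => by
            rw [hCa χ (Finset.mem_sdiff.1 hχ).1], hFsum] at h3
      have e1 : (1 - 45 - 45 - 896 - 896 + 231 + sgn23 (dg f₁) * (dg f₁ : ℤ) +
          sgn23 (dg f₂) * (dg f₂ : ℤ) + sgn23 (dg f₃) * (dg f₃ : ℤ) +
          sgn23 (dg f₄) * (dg f₄ : ℤ) + sgn23 (dg f₅) * (dg f₅ : ℤ) +
          sgn23 (dg y) * (dg y : ℤ) : ℤ) = 0 := by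
        rw [← Int.cast_inj (α := ℂ)]
        push_cast at h3 ⊢
        linear_combination h3
      have e2 : 1 + 2 * 45 * 45 + dg p * dg p + dg q * dg q + 2 * 896 * 896 + 231 * 231 +
          dg f₁ * dg f₁ + dg f₂ * dg f₂ + dg f₃ * dg f₃ + dg f₄ * dg f₄ + dg f₅ * dg f₅ +
          2 * dg y * dg y + 2024 * 2024 ≤ 10200960 := by
        have h := Finset.sum_le_univ_sum_of_nonneg
          (s := ([triv G, a, b, p, q, θ, θ', w, l, y, y'] ++ F.toList).toFinset)
          (f := fun χ : Cfsg.IrrCharacter G => dg χ * dg χ) fun _ => Nat.zero_le _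
        rw [sum_sq hG, List.sum_toFinset _ hnodup, List.map_append, List.sum_append,
          ← (hL.map fun χ => dg χ * dg χ).sum_eq] at h
        simp only [List.map_cons, List.map_nil, List.sum_cons, List.sum_nil, dg_triv, ha, hb, hθ,
          hθ', hw, hl, C.dg_Y hy'Y hy, ord] at h
        linarith
      have hpm : (dg p, dg q) ∈ ([(230, 1035), (483, 1288)] : List (ℕ × ℕ)) := by
        rcases hpq' with ⟨e, e'⟩ | ⟨e, e'⟩ <;> rw [e, e'] <;> simp
      have := List.all_eq_true.1 (List.all_eq_true.1 (List.all_eq_true.1 (List.all_eq_true.1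
        (List.all_eq_true.1 (List.all_eq_true.1 (List.all_eq_true.1 cores_complete _ hpm) _
        (hFd _ (hf f₁ (by simp))).2.2) _ (hFd _ (hf f₂ (by simp))).2.2) _
        (hFd _ (hf f₃ (by simp))).2.2) _ (hFd _ (hf f₄ (by simp))).2.2) _
        (hFd _ (hf f₅ (by simp))).2.2) _ hyd.2.2
      simp only [hsort.1.1, hsort.2.1.1, hsort.2.2.1.1, hsort.2.2.2.1, e1, e2, decide_true,
        Bool.and_self, beq_self_eq_true, Bool.not_true, Bool.false_or] at this
      exact List.contains_iff_mem.1 this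
  refine ⟨⟨a, b, p, q, θ, θ', w, l, y, y', F, hnodup,
    ⟨ha, hb, hθ, hθ', hw, hl, C.dg_Y hy'Y hy⟩, hpq', h11, fun χ hχ => ?_, fun χ hχ => ?_, hcore,
    fun g hg => h5 g hg.1,
    fun g hg => ?_, fun g hg => ?_, fun t ht v hv => ?_, fun t ht v hv => ?_⟩⟩
  · by_cases h : χ ∈ six
    · exact Or.inl (by simpa [six] using h)
    · exact Or.inr (Finset.mem_sdiff.2 ⟨(X_twentythree hG C).2 hχ, h⟩)
  · by_cases h : χ = y
    · exact Or.inl h
    · exact Or.inr (Finset.mem_singleton.1 (hy' ▸ Finset.mem_erase.2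
        ⟨h, (Y_twentythree hG C).2 hχ⟩))
  · refine ⟨B.eqY θ' hθ'Y θ hθY g hg.2.1, ?_⟩
    have h := B.rel θ hθY g hg.2.1
    rw [← Finset.add_sum_erase _ _ htX, hsum, hs, hta, triv_apply, hsa.1, hsa.2.1, hsa.2.2.1,
      hsa.2.2.2] at h
    push_cast at h
    linear_combination -h
  · refine ⟨C.eqY y' hy'Y y hy g hg.2.2, ?_⟩
    have h := C.rel y hy g hg.2.2
    rw [hsplit, hCa6.1, hCa6.2.1, hCa6.2.2.1, hCa6.2.2.2.1, hCa6.2.2.2.2.1, hCa6.2.2.2.2.2, hsy,
      triv_apply, Finset.sum_congr rfl (g := fun χ =>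
        (sgn23 (dg χ) : ℂ) * (χ : G → ℂ) g) fun χ hχ => by
          rw [hCa χ (Finset.mem_sdiff.1 hχ).1]] at h
    push_cast at h
    linear_combination h
  · have h := B.forms (by norm_num) (by decide) ht hv hθY
    have hv1 : v (triv G) = 1 := by have := hv (triv G); rw [triv_apply] at this; exact_mod_cast this.symm
    rw [← Finset.add_sum_erase _ _ htX, hsum, hs, hta, hsa.1, hsa.2.1, hsa.2.2.1, hsa.2.2.2,
      hθ, ha, hb, dg_triv, hv1] at h
    push_cast at h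
    linear_combination h
  · have h := C.forms (by norm_num) (by decide) ht hv hy
    have hv1 : v (triv G) = 1 := by have := hv (triv G); rw [triv_apply] at this; exact_mod_cast this.symm
    rw [hsplit, hCa6.1, hCa6.2.1, hCa6.2.2.1, hCa6.2.2.2.1, hCa6.2.2.2.2.1, hCa6.2.2.2.2.2, hsy,
      dg_triv, ha, hb, hθ, hθ', hw, hv1, Finset.sum_congr rfl (g := fun χ =>
        (sgn23 (dg χ) : ℂ) * (v χ : ℂ) ^ 2 / (dg χ : ℂ)) fun χ hχ => by
          rw [hCa χ (Finset.mem_sdiff.1 hχ).1]] at h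
    push_cast at h
    linear_combination h

end Cfsg.Agent.Fg24.M23
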