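import Mathlib

/-!
# The arithmetic of the degrees in a simple group of order 10200960
-/

set_option autoImplicit false
set_option maxRecDepth 20000

namespace Cfsg.Agent.Fg24.M23

/-- The candidates for the degrees. -/
def degList : List ℕ := [1, 11, 12, 22, 23, 45, 115, 126, 138, 160, 230, 231, 252, 253, 264, 276,
  368, 483, 495, 506, 528, 644, 736, 759, 770, 896, 990, 1012, 1035, 1265, 1288, 1380, 1518, 1540,
  1656, 1760, 1771, 1920, 2024, 2277, 2415, 2530, 2760, 2772, 2898, 3036]

theorem degList_complete : ((List.range 3194).all fun d =>
    !(d != 0 && 10200960 % d == 0 &&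
      ([0, 1, 22, 11, 12] : List ℕ).contains (d % 23) &&
      ([0, 1, 10, 5, 6] : List ℕ).contains (d % 11)) || degList.contains d) = true := by
  decide +kernel

/-- The sign of a degree modulo five. -/
def sgn5 (d : ℕ) : ℤ := if d % 5 = 1 then 1 else -1

/-- The sign of a degree modulo twenty-three. -/
def sgn23 (d : ℕ) : ℤ := if d % 23 = 1 ∨ d % 23 = 12 then 1 else -1

/-- The degrees prime to five and different from eleven. -/
def fiveList : List ℕ := (degList.filter fun d => (d % 5 == 1 || d % 5 == 4) && 11 < d)

theorem five_pattern : (fiveList.all fun a => fiveList.all fun b => fiveList.all fun c =>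
    fiveList.all fun d =>
      !(decide (a ≤ b) && decide (b ≤ c) && decide (c ≤ d) &&
        (1 + sgn5 a * a + sgn5 b * b + sgn5 c * c + sgn5 d * d == 0)) ||
      ([a, b, c, d].contains 126 || ([a, b, c, d].contains 644 && [a, b, c, d].contains 896) ||
        [a, b, c, d] == [231, 896, 896, 2024])) = true := by
  decide +kernel

theorem five_two : ((degList.filter fun d => (d % 5 == 1 || d % 5 == 4) && 11 < d).all fun d =>
    !(degList.contains (d + 1) && ((d + 1) % 5 == 2 || (d + 1) % 5 == 3)) &&
      !(degList.contains (d - 1) && ((d - 1) % 5 == 2 || (d - 1) % 5 == 3))) = true := by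
  decide +kernel

/-- The possible nonexceptional degrees of the 11-block other than twelve. -/
def xList : List ℕ := [23, 45, 230, 252, 276, 483, 736, 1035, 1288, 2760]

/-- Sums of signed degrees. -/
def elevenSum (a b c d : ℕ) : ℤ :=
  (if a % 11 = 1 then (a : ℤ) else -a) + (if b % 11 = 1 then (b : ℤ) else -b) +
    (if c % 11 = 1 then (c : ℤ) else -c) + (if d % 11 = 1 then (d : ℤ) else -d)

theorem no_pattern_126 : (xList.all fun a => xList.all fun b => xList.all fun c => xList.all fun d =>
    !(decide (a ≤ b) && decide (b ≤ c) && decide (c ≤ d)) ||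
      elevenSum a b c d != 125) = true := by
  decide +kernel

theorem pattern_896 : ((12 :: xList).all fun a => (12 :: xList).all fun b =>
    (12 :: xList).all fun c => (12 :: xList).all fun d =>
    !(decide (a ≤ b) && decide (b ≤ c) && decide (c ≤ d) && elevenSum a b c d == 895) ||
      ([a, b, c, d] == [45, 45, 230, 1035] || [a, b, c, d] == [45, 45, 483, 1288])) = true := by
  decide +kernel

/-- The degrees of the 23-block that are divisible by eleven. -/
def mList : List ℕ := [22, 231, 528, 990, 1540]

/-- The exceptional degrees of the 23-block. -/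
def yList : List ℕ := [264, 495, 770, 1760, 2772]

theorem mList_complete : (degList.all fun d =>
    !(d % 11 == 0 && (d % 23 == 1 || d % 23 == 22)) || mList.contains d) = true := by
  decide +kernel

theorem yList_complete : (degList.all fun d =>
    !(d % 11 == 0 && (d % 23 == 11 || d % 23 == 12) && 11 < d) || yList.contains d) = true := by
  decide +kernel

/-- The fourteen possibilities: the second pair of the 11-block, the five further members of the
23-block and the exceptional degree. -/
def cores : List (ℕ × List ℕ × ℕ) :=
  [(230, [22, 22, 22, 231, 990], 495), (483, [22, 22, 22, 231, 990], 495),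
   (230, [22, 22, 22, 990, 990], 264), (483, [22, 22, 22, 990, 990], 264),
   (230, [22, 231, 231, 990, 990], 770), (230, [231, 231, 231, 231, 231], 495),
   (483, [231, 231, 231, 231, 231], 495), (230, [231, 231, 231, 231, 990], 264),
   (483, [231, 231, 231, 231, 990], 264), (230, [231, 231, 231, 528, 990], 495),
   (483, [231, 231, 231, 528, 990], 495), (230, [231, 231, 528, 990, 990], 264),
   (483, [231, 231, 528, 990, 990], 264), (230, [231, 528, 528, 990, 990], 495)]

theorem cores_complete : (([(230, 1035), (483, 1288)] : List (ℕ × ℕ)).all fun pq =>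
    mList.all fun a => mList.all fun b => mList.all fun c => mList.all fun d => mList.all fun e =>
    yList.all fun y =>
      !(decide (a ≤ b) && decide (b ≤ c) && decide (c ≤ d) && decide (d ≤ e) &&
        (1 - 45 - 45 - 896 - 896 + 231 + sgn23 a * a + sgn23 b * b + sgn23 c * c + sgn23 d * d +
          sgn23 e * e + sgn23 y * y == 0) &&
        decide (1 + 2 * 45 * 45 + pq.1 * pq.1 + pq.2 * pq.2 + 2 * 896 * 896 + 231 * 231 +
          a * a + b * b + c * c + d * d + e * e + 2 * y * y + 2024 * 2024 ≤ 10200960)) ||
      cores.contains (pq.1, [a, b, c, d, e], y)) = true := by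
  decide +kernel

end Cfsg.Agent.Fg24.M23
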