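import Cfsg.Agent.Fg24.M23.Eleven
import Cfsg.Agent.Fg24.M23.DegreesArith

/-!
# The degrees of the principal blocks at five, eleven and twenty-three
-/

set_option autoImplicit false
set_option linter.unusedSectionVars false

namespace Cfsg.Agent.Fg24.M23

open scoped ComplexConjugate
open Cfsg.Agent Cfsg.Agent.Blocks

universe u

section Group

variable {G : Type u} [Group G] [Fintype G]

/-- An element of order prime to 5, 11 and 23. -/
def Reg (g : G) : Prop := ¬ 5 ∣ orderOf g ∧ ¬ 11 ∣ orderOf g ∧ ¬ 23 ∣ orderOf g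

theorem exists_sorted (S : Finset (Cfsg.IrrCharacter G)) :
    ∃ L : List (Cfsg.IrrCharacter G), L.Perm S.toList ∧ L.Pairwise fun χ ψ => dg χ ≤ dg ψ := by
  classical
  haveI : Std.Total fun χ ψ : Cfsg.IrrCharacter G => dg χ ≤ dg ψ := ⟨fun _ _ => le_total _ _⟩
  haveI : IsTrans (Cfsg.IrrCharacter G) fun χ ψ => dg χ ≤ dg ψ := ⟨fun _ _ _ => le_trans⟩
  exact ⟨S.toList.insertionSort fun χ ψ => dg χ ≤ dg ψ, List.perm_insertionSort _ _,
    List.pairwise_insertionSort _ _⟩

theorem exists_four (S : Finset (Cfsg.IrrCharacter G)) (h : S.card = 4) :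
    ∃ a b c d : Cfsg.IrrCharacter G, (∀ χ, χ ∈ S ↔ χ ∈ [a, b, c, d]) ∧ [a, b, c, d].Nodup ∧
      dg a ≤ dg b ∧ dg b ≤ dg c ∧ dg c ≤ dg d ∧
      ∀ f : Cfsg.IrrCharacter G → ℂ, ∑ χ ∈ S, f χ = f a + f b + f c + f d := by
  classical
  obtain ⟨L, hL, hs⟩ := exists_sorted S
  have hlen : L.length = 4 := by rw [hL.length_eq, Finset.length_toList, h]
  match L, hlen with
  | [a, b, c, d], _ =>
    simp only [List.pairwise_cons, List.mem_cons, List.not_mem_nil, or_false, forall_eq_or_imp,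
      forall_eq] at hs
    refine ⟨a, b, c, d, fun χ => by rw [hL.mem_iff, Finset.mem_toList],
      hL.nodup_iff.2 S.nodup_toList, hs.1.1, hs.2.1.1, hs.2.2.1, fun f => ?_⟩
    rw [← Finset.sum_map_toList, ← (hL.map f).sum_eq]
    simp [add_assoc]

variable [IsSimpleGroup G] (hG : Nat.card G = ord)
variable [Fact (Nat.Prime 11)] [Fact (Nat.Prime 23)]
include hG

theorem eleven_block (P : Sylow 11 G) : Nonempty (Blk P 5) := exists_blk (eleven hG P).1

theorem twentythree_block (P : Sylow 23 G) : Nonempty (Blk P 11) := exists_blk (twentythree hG P).1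

/-- Membership of the blocks is decided by the degree. -/
theorem mem_eleven {P : Sylow 11 G} (B : Blk P 5) {χ : Cfsg.IrrCharacter G}
    (h : ¬ 11 ∣ dg χ) : B.Mem χ :=
  (B.mem χ).1 (by_contra fun hout => h (S4429.dvd_outside (eleven hG P).1 (eleven hG P).2 B.hM hout))

theorem mem_twentythree {P : Sylow 23 G} (B : Blk P 11) {χ : Cfsg.IrrCharacter G}
    (h : ¬ 23 ∣ dg χ) : B.Mem χ :=
  (B.mem χ).1 (by_contra fun hout =>
    h (S4429.dvd_outside (twentythree hG P).1 (twentythree hG P).2 B.hM hout))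

theorem X_eleven {P : Sylow 11 G} (B : Blk P 5) {χ : Cfsg.IrrCharacter G} :
    χ ∈ B.X ↔ dg χ % 11 = 1 ∨ dg χ % 11 = 10 := by
  constructor
  · intro h
    have h4 := Int.ModEq.eq (B.modX χ h)
    rcases B.ha χ h with e | e <;> rw [e] at h4 <;> norm_num at h4 <;> omega
  · intro h
    refine (mem_eleven hG B (by omega)).resolve_right fun hY => ?_
    have h4 := Int.ModEq.eq (B.modY χ hY)
    rcases B.hs with e | e <;> rw [e] at h4 <;> norm_num at h4 <;> omega

theorem Y_eleven {P : Sylow 11 G} (B : Blk P 5) {χ : Cfsg.IrrCharacter G} :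
    χ ∈ B.Y ↔ dg χ % 11 = 5 ∨ dg χ % 11 = 6 := by
  constructor
  · intro h
    have h4 := Int.ModEq.eq (B.modY χ h)
    rcases B.hs with e | e <;> rw [e] at h4 <;> norm_num at h4 <;> omega
  · intro h
    refine (mem_eleven hG B (by omega)).resolve_left fun hX => ?_
    have := (X_eleven hG B).1 hX
    omega

theorem X_twentythree {P : Sylow 23 G} (B : Blk P 11) {χ : Cfsg.IrrCharacter G} :
    χ ∈ B.X ↔ dg χ % 23 = 1 ∨ dg χ % 23 = 22 := by
  constructor
  · intro h
    have h4 := Int.ModEq.eq (B.modX χ h)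
    rcases B.ha χ h with e | e <;> rw [e] at h4 <;> norm_num at h4 <;> omega
  · intro h
    refine (mem_twentythree hG B (by omega)).resolve_right fun hY => ?_
    have h4 := Int.ModEq.eq (B.modY χ hY)
    rcases B.hs with e | e <;> rw [e] at h4 <;> norm_num at h4 <;> omega

theorem Y_twentythree {P : Sylow 23 G} (B : Blk P 11) {χ : Cfsg.IrrCharacter G} :
    χ ∈ B.Y ↔ dg χ % 23 = 11 ∨ dg χ % 23 = 12 := by
  constructor
  · intro h
    have h4 := Int.ModEq.eq (B.modY χ h)
    rcases B.hs with e | e <;> rw [e] at h4 <;> norm_num at h4 <;> omega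
  · intro h
    refine (mem_twentythree hG B (by omega)).resolve_left fun hX => ?_
    have := (X_twentythree hG B).1 hX
    omega

theorem mem_degList (χ : Cfsg.IrrCharacter G) : dg χ ∈ degList := by
  obtain ⟨B⟩ := eleven_block hG (default : Sylow 11 G)
  have h11 : ([0, 1, 10, 5, 6] : List ℕ).contains (dg χ % 11) = true := by
    simp only [List.contains_iff_mem, List.mem_cons, List.not_mem_nil, or_false]
    by_cases h : 11 ∣ dg χ
    · omega
    rcases mem_eleven hG B h with h | h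
    · have := (X_eleven hG B).1 h; omega
    · have := (Y_eleven hG B).1 h; omega
  have h23 : ([0, 1, 22, 11, 12] : List ℕ).contains (dg χ % 23) = true :=
    List.contains_iff_mem.2 (res_twentythree hG χ)
  have hd : 10200960 % dg χ = 0 := Nat.mod_eq_zero_of_dvd (deg_dvd hG χ)
  have := List.all_eq_true.1 degList_complete _ (List.mem_range.2 (Nat.lt_succ_of_le (deg_le hG χ)))
  have hne : (dg χ != 0) = true := bne_iff_ne.2 (dg_pos χ).ne'
  have hd' : (10200960 % dg χ == 0) = true := beq_iff_eq.2 hd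
  simp only [hne, hd', h11, h23, Bool.and_self, Bool.not_true, Bool.false_or] at this
  exact List.contains_iff_mem.1 this

/-- There is one exceptional degree at eleven and one at twenty-three. -/
theorem clash_eleven {χ ψ : Cfsg.IrrCharacter G} (h : dg χ % 11 = 5 ∨ dg χ % 11 = 6)
    (h' : dg ψ % 11 = 5 ∨ dg ψ % 11 = 6) : dg χ = dg ψ := by
  obtain ⟨B⟩ := eleven_block hG (default : Sylow 11 G)
  exact B.dg_Y ((Y_eleven hG B).2 h) ((Y_eleven hG B).2 h')

theorem clash_twentythree {χ ψ : Cfsg.IrrCharacter G} (h : dg χ % 23 = 11 ∨ dg χ % 23 = 12)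
    (h' : dg ψ % 23 = 11 ∨ dg ψ % 23 = 12) : dg χ = dg ψ := by
  obtain ⟨B⟩ := twentythree_block hG (default : Sylow 23 G)
  exact B.dg_Y ((Y_twentythree hG B).2 h) ((Y_twentythree hG B).2 h')

/-- No character has degree eleven. -/
theorem ne_eleven (χ : Cfsg.IrrCharacter G) : dg χ ≠ 11 := by
  classical
  intro hd
  obtain ⟨hS, hC⟩ := eleven hG (default : Sylow 11 G)
  obtain ⟨B⟩ := exists_blk hS
  obtain ⟨z, hz, hz1, hzo⟩ := hS.exists_gen
  have hfib : BlockThms.OrderP.fiber 11 z = {z} := by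
    have h1 := hS.card_fiber hz hz1
    rw [hS.centralizer_eq hz hz1, hC] at h1
    obtain ⟨y, hy⟩ := Finset.card_eq_one.1 (show (BlockThms.OrderP.fiber 11 z).card = 1 by omega)
    have h4 := BlockThms.OrderP.self_mem_fiber (p := 11) (P := (default : Sylow 11 G)) hz
    rw [hy, Finset.mem_singleton] at h4
    rw [hy, h4]
  have h0 : ∀ ψ : Cfsg.IrrCharacter G, 11 ∣ dg ψ → (ψ : G → ℂ) z = 0 := fun ψ h => by
    have := B.sum_fiber_out (χ := ψ) (fun hm => B.not_dvd hm h) hz hz1
    rwa [hfib, Finset.sum_singleton] at this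
  have h1 : ∀ ψ : Cfsg.IrrCharacter G, dg ψ % 11 = 1 → (ψ : G → ℂ) z = 1 := fun ψ h => by
    have hX := (X_eleven hG B).2 (Or.inl h)
    have := B.valX ψ hX z hz hz1 1 (one_mem _) (by rw [orderOf_one]; norm_num)
    rw [mul_one, B.a_eq (by norm_num) hX (Or.inl rfl) (by
      show (dg ψ : ℤ) % 11 = 1 % 11
      omega)] at this
    exact_mod_cast this
  set f : G → ℂ := (χ : G → ℂ) * fun g => conj ((χ : G → ℂ) g) with hf
  have hfc : Cfsg.IsCharacter G f :=
    Char.isCharacter_mul (Char.IsIrr.isCharacter χ.2) (Char.isCharacter_conj (Char.IsIrr.isCharacter χ.2))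
  choose m hm using fun ψ : Cfsg.IrrCharacter G =>
    Char.classInner_isCharacter_eq_natCast hfc (Char.IsIrr.isCharacter ψ.2)
  have hm1 : m (triv G) = 1 := by
    have h := Char.classInner_irr_self χ.2
    have e : Cfsg.classInner f ((triv G : Cfsg.IrrCharacter G) : G → ℂ) =
        Cfsg.classInner (χ : G → ℂ) (χ : G → ℂ) := by
      simp [Cfsg.classInner, hf, triv_apply]
    rw [hm, h] at e
    exact_mod_cast e
  have hexp : ∀ g, f g = ∑ ψ : Cfsg.IrrCharacter G, (m ψ : ℂ) * (ψ : G → ℂ) g := fun g => by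
    conv_lhs => rw [Char.classFun_expansion (Char.isClassFunction_of_isCharacter hfc)]
    simp only [Finset.sum_apply, Pi.smul_apply, smul_eq_mul, hm]
  have hsum : ∑ ψ ∈ Finset.univ.erase (triv G), m ψ * dg ψ = 120 := by
    have h := hexp 1
    rw [← Finset.add_sum_erase _ _ (Finset.mem_univ (triv G))] at h
    simp only [hf, Pi.mul_apply, value_one, hd, Complex.conj_natCast, hm1, dg_triv] at h
    have h' : 11 * 11 = 1 * 1 + ∑ ψ ∈ Finset.univ.erase (triv G), m ψ * dg ψ := by exact_mod_cast h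
    omega
  have hge : ∀ ψ ∈ Finset.univ.erase (triv G), 11 ≤ dg ψ := fun ψ hψ => by
    have h := mem_degList hG ψ
    have hne : dg ψ ≠ 1 := fun e => (Finset.mem_erase.1 hψ).1 (dg_one hG e)
    simp only [degList, List.mem_cons, List.not_mem_nil, or_false] at h
    omega
  have hdeg : ∀ ψ ∈ Finset.univ.erase (triv G), m ψ ≠ 0 → dg ψ % 11 = 0 ∨ dg ψ % 11 = 1 := by
    intro ψ hψ hm0
    have hle : m ψ * dg ψ ≤ 120 :=
      hsum ▸ Finset.single_le_sum (f := fun ψ => m ψ * dg ψ) (fun _ _ => Nat.zero_le _) hψ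
    have hdle : dg ψ ≤ 120 := (Nat.le_mul_of_pos_left _ (Nat.pos_of_ne_zero hm0)).trans hle
    have h := mem_degList hG ψ
    simp only [degList, List.mem_cons, List.not_mem_nil, or_false] at h
    by_cases h115 : dg ψ = 115
    · exfalso
      rw [h115] at hle
      have hm1' : m ψ = 1 := by omega
      have hrest : ∑ φ ∈ (Finset.univ.erase (triv G)).erase ψ, m φ * dg φ = 5 := by
        rw [← Finset.add_sum_erase _ _ hψ, hm1', h115] at hsum
        omega
      obtain ⟨φ, hφ, hne⟩ := Finset.exists_ne_zero_of_sum_ne_zero (hrest.symm ▸ (by norm_num : 5 ≠ 0))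
      have h1 := Finset.single_le_sum (f := fun φ => m φ * dg φ) (fun _ _ => Nat.zero_le _) hφ
      rw [hrest] at h1
      have h2 := hge φ (Finset.mem_of_mem_erase hφ)
      have h3 : dg φ ≤ m φ * dg φ :=
        Nat.le_mul_of_pos_left _ (Nat.pos_of_ne_zero fun e => hne (by rw [e, zero_mul]))
      omega
    · omega
  have hz0 := hexp z
  rw [← Finset.add_sum_erase _ _ (Finset.mem_univ (triv G)), hf, Pi.mul_apply,
    h0 χ (by rw [hd]), zero_mul, hm1, triv_apply, Nat.cast_one, one_mul,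
    Finset.sum_congr rfl (g := fun ψ : Cfsg.IrrCharacter G =>
      ((if dg ψ % 11 = 1 then m ψ else 0 : ℕ) : ℂ)) fun ψ hψ => by
      by_cases hm0 : m ψ = 0
      · simp [hm0]
      rcases hdeg ψ hψ hm0 with h | h
      · rw [h0 ψ (Nat.dvd_of_mod_eq_zero h), mul_zero, if_neg (by omega), Nat.cast_zero]
      · rw [h1 ψ h, mul_one, if_pos h],
    ← Nat.cast_sum] at hz0
  have : (0 : ℕ) = 1 + ∑ ψ ∈ Finset.univ.erase (triv G), if dg ψ % 11 = 1 then m ψ else 0 := by
    exact_mod_cast hz0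
  omega

theorem four_le {d : ℕ} (h : d ∈ degList) (h1 : d ≠ 1) : 11 ≤ d := by
  simp only [degList, List.mem_cons, List.not_mem_nil, or_false] at h
  omega

/-- No character has degree 126. -/
theorem ne_126 (χ : Cfsg.IrrCharacter G) : dg χ ≠ 126 := by
  classical
  intro hd
  obtain ⟨B⟩ := eleven_block hG (default : Sylow 11 G)
  have hY : χ ∈ B.Y := (Y_eleven hG B).2 (by rw [hd]; norm_num)
  have hs : B.s = -1 := by
    have h4 := Int.ModEq.eq (B.modY χ hY)
    rw [hd] at h4
    rcases B.hs with e | e <;> rw [e] at h4 ⊢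
    norm_num at h4
  have htX : triv G ∈ B.X := (X_eleven hG B).2 (by rw [dg_triv]; norm_num)
  obtain ⟨a, b, c, d, hmem, -, hab, hbc, hcd, hsum⟩ := exists_four (B.X.erase (triv G))
    (by rw [Finset.card_erase_of_mem htX, B.cardX])
  have hx : ∀ ψ ∈ [a, b, c, d], dg ψ ∈ xList ∧
      ((B.a ψ : ℤ) * dg ψ = if dg ψ % 11 = 1 then (dg ψ : ℤ) else -dg ψ) := by
    intro ψ hψ
    obtain ⟨hne, hX⟩ := Finset.mem_erase.1 ((hmem ψ).2 hψ)
    have hmod := (X_eleven hG B).1 hX
    refine ⟨?_, ?_⟩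
    · have h := deg_eleven_X hG B (Or.inl hX) hmod
      have h12 : dg ψ ≠ 12 := fun e => by
        have := clash_twentythree hG (χ := ψ) (ψ := χ) (by rw [e]; norm_num) (by rw [hd]; norm_num)
        omega
      have h1 : dg ψ ≠ 1 := fun e => hne (dg_one hG e)
      simp only [xList, List.mem_cons, List.not_mem_nil, or_false] at h ⊢
      omega
    · have h4 := Int.ModEq.eq (B.modX ψ hX)
      rcases B.ha ψ hX with e | e <;> rw [e] at h4 ⊢ <;> norm_num at h4
      · rw [if_pos (by omega), one_mul]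
      · rw [if_neg (by omega), neg_one_mul]
  have h3 := congrArg (fun n : ℤ => (n : ℂ)) (B.rel_one hY)
  push_cast at h3
  rw [← Finset.add_sum_erase _ _ htX, hsum, hs, B.a_triv (by norm_num) htX, dg_triv, hd] at h3
  have h5 : (-1 : ℤ) * 126 + (1 * 1 + (B.a a * dg a + B.a b * dg b + B.a c * dg c + B.a d * dg d)) =
      0 := by
    rw [← Int.cast_inj (α := ℂ)]
    push_cast at h3 ⊢
    linear_combination h3
  rw [(hx a (by simp)).2, (hx b (by simp)).2, (hx c (by simp)).2, (hx d (by simp)).2] at h5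
  have h6 : elevenSum (dg a) (dg b) (dg c) (dg d) = 125 := by simp only [elevenSum]; omega
  have := List.all_eq_true.1 (List.all_eq_true.1 (List.all_eq_true.1 (List.all_eq_true.1
    no_pattern_126 _ (hx a (by simp)).1) _ (hx b (by simp)).1) _ (hx c (by simp)).1) _
    (hx d (by simp)).1
  simp [hab, hbc, hcd, h6] at this

/-- The principal block at five. -/
theorem five [Fact (Nat.Prime 5)] (P : Sylow 5 G) :
    BlockThms.OrderP.Setup P 4 ∧ ∃ w θ θ' l : Cfsg.IrrCharacter G, θ ≠ θ' ∧ dg w = 231 ∧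
      dg θ = 896 ∧ dg θ' = 896 ∧ dg l = 2024 ∧
      ∀ g : G, ¬ 5 ∣ orderOf g → (l : G → ℂ) g =
        1 + (w : G → ℂ) g + (θ : G → ℂ) g + (θ' : G → ℂ) g := by
  classical
  obtain ⟨e, hS⟩ := exists_setup hG (Or.inl rfl) P
  have he : e = 2 ∨ e = 4 := by
    have h4 : e ∣ 4 := hS.exists_y.1
    have hne : e ≠ 1 := S4429.e_ne_one hS (by rw [hG]; norm_num [ord])
    have := hS.e_pos
    have := Nat.le_of_dvd (by norm_num) h4
    interval_cases e <;> omega
  obtain ⟨B⟩ := exists_blk hS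
  have hgt : ∀ χ, χ ≠ triv G → 11 < dg χ := fun χ hne => by
    have := four_le hG (mem_degList hG χ) (fun e => hne (dg_one hG e))
    have := ne_eleven hG χ
    omega
  rcases he with rfl | rfl
  · exfalso
    have htX : triv G ∈ B.X := B.triv_mem_X fun s hs => by rcases hs with rfl | rfl <;> decide
    obtain ⟨θ, hθ⟩ := B.Y_nonempty
    obtain ⟨χ, hχ⟩ := Finset.card_eq_one.1 (show (B.X.erase (triv G)).card = 1 by
      rw [Finset.card_erase_of_mem htX, B.cardX])
    obtain ⟨hχne, hχX⟩ := Finset.mem_erase.1 (hχ.symm ▸ Finset.mem_singleton_self χ :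
      χ ∈ B.X.erase (triv G))
    have h3 := B.rel_one hθ
    rw [← Finset.add_sum_erase _ _ htX, hχ, Finset.sum_singleton, B.a_triv (by norm_num) htX,
      dg_triv] at h3
    have h4 := Int.ModEq.eq (B.modX χ hχX)
    have h5 := Int.ModEq.eq (B.modY θ hθ)
    have hm : dg χ % 5 = 1 ∨ dg χ % 5 = 4 := by
      rcases B.ha χ hχX with e | e <;> rw [e] at h4 <;> norm_num at h4 <;> omega
    have hm' : dg θ % 5 = 2 ∨ dg θ % 5 = 3 := by
      rcases B.hs with e | e <;> rw [e] at h5 <;> norm_num at h5 <;> omega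
    have hlt := hgt χ hχne
    have hmem : dg χ ∈ degList.filter fun d => (d % 5 == 1 || d % 5 == 4) && 11 < d :=
      List.mem_filter.2 ⟨mem_degList hG χ, by simp [hlt]; omega⟩
    have h6 := List.all_eq_true.1 five_two _ hmem
    have h7 := mem_degList hG θ
    have ht : dg θ = dg χ - 1 ∨ dg θ = dg χ + 1 := by
      rcases B.ha χ hχX with e1 | e1 <;> rcases B.hs with e2 | e2 <;> rw [e1, e2] at h3 <;> omega
    rcases ht with ht | ht <;> rw [← ht] at h6 <;> rcases hm' with hm' | hm' <;>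
      simp [h7, hm'] at h6
  refine ⟨hS, ?_⟩
  let M := B.X ∪ B.Y
  have htM : triv G ∈ M := by
    rcases B.triv_mem with h | h
    · exact Finset.mem_union_left _ h
    · exact Finset.mem_union_right _ h
  have hmod : ∀ χ ∈ M, dg χ % 5 = 1 ∨ dg χ % 5 = 4 := by
    intro χ hχ
    rcases Finset.mem_union.1 hχ with h | h
    · have h4 := Int.ModEq.eq (B.modX χ h)
      rcases B.ha χ h with e | e <;> rw [e] at h4 <;> norm_num at h4 <;> omega
    · have h4 := Int.ModEq.eq (B.modY χ h)
      rcases B.hs with e | e <;> rw [e] at h4 <;> norm_num at h4 <;> omega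
  have hrel : ∀ g : G, ¬ 5 ∣ orderOf g → ∑ χ ∈ M, (sgn5 (dg χ) : ℂ) * (χ : G → ℂ) g = 0 := by
    intro g hg
    obtain ⟨θ, hθ⟩ := B.Y_nonempty
    have hYs : B.Y = {θ} := by
      obtain ⟨θ', hθ'⟩ := Finset.card_eq_one.1 (show B.Y.card = 1 by rw [B.cardY])
      rw [hθ'] at hθ
      rw [hθ', Finset.mem_singleton.1 hθ]
    show ∑ χ ∈ B.X ∪ B.Y, _ = _
    rw [Finset.sum_union B.disj, hYs, Finset.sum_singleton,
      Finset.sum_congr rfl (g := fun χ => (B.a χ : ℂ) * (χ : G → ℂ) g) fun χ h => by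
        have h4 := Int.ModEq.eq (B.modX χ h)
        rcases B.ha χ h with e | e <;> rw [e] at h4 ⊢ <;> norm_num at h4
        · rw [sgn5, if_pos (by omega)]
        · rw [sgn5, if_neg (by omega)],
      show sgn5 (dg θ) = B.s by
        have h4 := Int.ModEq.eq (B.modY θ hθ)
        rcases B.hs with e | e <;> rw [e] at h4 ⊢ <;> norm_num at h4
        · rw [sgn5, if_pos (by omega)]
        · rw [sgn5, if_neg (by omega)],
      add_comm]
    exact B.rel θ hθ g hg
  obtain ⟨a, b, c, d, hmem, hnd, hab, hbc, hcd, hsum⟩ := exists_four (M.erase (triv G))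
    (by rw [Finset.card_erase_of_mem htM, Finset.card_union_of_disjoint B.disj, B.cardX, B.cardY])
  have hd : ∀ χ ∈ [a, b, c, d], dg χ ∈ fiveList := fun χ hχ => by
    obtain ⟨hne, hM⟩ := Finset.mem_erase.1 ((hmem χ).2 hχ)
    have := hgt χ hne
    exact List.mem_filter.2 ⟨mem_degList hG χ, by simp [this]; exact hmod χ hM⟩
  have hrel' : ∀ g : G, ¬ 5 ∣ orderOf g → (1 : ℂ) + (sgn5 (dg a) : ℂ) * (a : G → ℂ) g +
      (sgn5 (dg b) : ℂ) * (b : G → ℂ) g + (sgn5 (dg c) : ℂ) * (c : G → ℂ) g +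
      (sgn5 (dg d) : ℂ) * (d : G → ℂ) g = 0 := fun g hg => by
    have h := hrel g hg
    rw [← Finset.add_sum_erase _ _ htM, hsum, dg_triv, triv_apply] at h
    rw [show sgn5 1 = 1 from rfl, Int.cast_one] at h
    linear_combination h
  have hpat : [dg a, dg b, dg c, dg d].contains 126 = true ∨
      ([dg a, dg b, dg c, dg d].contains 644 = true ∧
        [dg a, dg b, dg c, dg d].contains 896 = true) ∨
      [dg a, dg b, dg c, dg d] = [231, 896, 896, 2024] := by
    have h1 := hrel' 1 (by rw [orderOf_one]; norm_num)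
    simp only [value_one] at h1
    have h2 : 1 + sgn5 (dg a) * (dg a : ℤ) + sgn5 (dg b) * (dg b : ℤ) + sgn5 (dg c) * (dg c : ℤ) +
        sgn5 (dg d) * (dg d : ℤ) = 0 := by exact_mod_cast h1
    have := List.all_eq_true.1 (List.all_eq_true.1 (List.all_eq_true.1 (List.all_eq_true.1
      five_pattern _ (hd a (by simp))) _ (hd b (by simp))) _ (hd c (by simp))) _ (hd d (by simp))
    simp only [hab, hbc, hcd, h2, decide_true, Bool.and_self, beq_self_eq_true, Bool.not_true,
      Bool.false_or, Bool.or_eq_true, Bool.and_eq_true, beq_iff_eq, or_assoc] at this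
    exact this
  have hin : ∀ n, [dg a, dg b, dg c, dg d].contains n = true → ∃ χ : Cfsg.IrrCharacter G, dg χ = n := by
    intro n hn
    obtain ⟨χ, -, h⟩ := List.mem_map.1
      (show n ∈ [a, b, c, d].map dg from List.contains_iff_mem.1 hn)
    exact ⟨χ, h⟩
  rcases hpat with h | ⟨h, h'⟩ | h
  · obtain ⟨χ, hχ⟩ := hin _ h
    exact absurd hχ (ne_126 hG χ)
  · obtain ⟨χ, hχ⟩ := hin _ h
    obtain ⟨ψ, hψ⟩ := hin _ h'
    have := clash_eleven hG (χ := χ) (ψ := ψ) (by rw [hχ]; norm_num) (by rw [hψ]; norm_num)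
    omega
  · simp only [List.cons.injEq, and_true] at h
    obtain ⟨ha, hb, hc, hd'⟩ := h
    refine ⟨a, b, c, d, fun e => ?_, ha, hb, hc, hd', fun g hg => ?_⟩
    · subst e
      simp at hnd
    · have h1 := hrel' g hg
      rw [ha, hb, hc, hd', show sgn5 231 = 1 from rfl, show sgn5 896 = 1 from rfl,
        show sgn5 2024 = -1 from rfl] at h1
      push_cast at h1
      linear_combination -h1

end Group

end Cfsg.Agent.Fg24.M23
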