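import Cfsg.Agent.Fg24.M23.ElevenArith

/-!
# No column at an involution centralizing the Sylow 11-subgroup
-/

set_option autoImplicit false
set_option maxRecDepth 20000

namespace Cfsg.Agent.Fg24.M23

theorem kill_three : killAll false listThree = true := by decide +kernel

theorem kill_seven : killAll true listSeven = true := by decide +kernel

end Cfsg.Agent.Fg24.M23
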