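import Cfsg.Agent.Fg24.M23.TwentyThree
import Cfsg.Agent.Fg24.M23.BlockMore
import Cfsg.Agent.Fg24.M23.ElevenKill

/-!
# The Sylow 11-subgroup is self-centralizing with automizer of order five
-/

set_option autoImplicit false
set_option linter.unusedSectionVars false

namespace Cfsg.Agent.Fg24.M23

open Cfsg.Agent Cfsg.Agent.Blocks

universe u

section Group

variable {G : Type u} [Group G] [Fintype G]

/-- The nontrivial member of a block with two nonexceptional members is fixed by the Galois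
conjugations. -/
theorem Blk.galois_fixed {p : ℕ} [Fact p.Prime] {P : Sylow p G} (B : Blk P 2)
    (htX : triv G ∈ B.X) {χ θ : Cfsg.IrrCharacter G} (hχ : χ ∈ B.X) (hne : dg χ ≠ 1)
    (hθ : θ ∈ B.Y) (hd : dg χ ≠ dg θ) {j : ℕ} (hj : j.Coprime (Nat.card G)) (g : G) :
    (χ : G → ℂ) (g ^ j) = (χ : G → ℂ) g := by
  classical
  have hp : p.Prime := Fact.out
  let ψ : Cfsg.IrrCharacter G := ⟨fun g => (χ : G → ℂ) (g ^ j), Char.isIrr_comp_pow j hj χ.2⟩
  have hψd : dg ψ = dg χ := charDegree_eq (by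
    show (χ : G → ℂ) (1 ^ j) = _
    rw [one_pow]; exact value_one χ)
  obtain ⟨z, hz, hz1, hzo⟩ := B.setup.exists_gen
  have hψm : B.Mem ψ := by
    by_contra hout
    have h0 := B.sum_fiber_out hout hz hz1
    have hval : ∀ u ∈ BlockThms.OrderP.fiber p z, (ψ : G → ℂ) u = (B.a χ : ℂ) := fun u hu => by
      obtain ⟨y, hy, hyp, rfl⟩ := B.mem_fiber_eq hz hz1 hu
      show (χ : G → ℂ) ((z * y) ^ j) = _
      rw [(show Commute z y from Subgroup.mem_centralizer_iff.1 hy z hz).mul_pow]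
      refine B.valX χ hχ _ (pow_mem hz j) (fun h => ?_) _ (pow_mem hy j)
        fun h => hyp (h.trans (orderOf_pow_dvd j))
      have h1 := orderOf_dvd_of_pow_eq_one h
      rw [hzo] at h1
      exact hp.one_lt.ne' (Nat.eq_one_of_dvd_coprimes hj h1
        (hzo ▸ orderOf_dvd_natCard z))
    rw [Finset.sum_congr rfl hval, Finset.sum_const, nsmul_eq_mul, mul_eq_zero] at h0
    rcases h0 with h0 | h0
    · exact Finset.card_ne_zero.2 ⟨z, BlockThms.OrderP.self_mem_fiber hz⟩ (Nat.cast_eq_zero.1 h0)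
    · rcases B.ha χ hχ with h | h <;> rw [h] at h0 <;> norm_num at h0
  rcases hψm with h | h
  · obtain ⟨χ', hχ'⟩ := Finset.card_eq_one.1 (show (B.X.erase (triv G)).card = 1 by
      rw [Finset.card_erase_of_mem htX, B.cardX])
    have h1 : ψ = χ' := Finset.mem_singleton.1 (hχ' ▸ Finset.mem_erase.2 ⟨fun e => hne (by
      rw [← hψd, e, dg_triv]), h⟩)
    have h2 : χ = χ' := Finset.mem_singleton.1 (hχ' ▸ Finset.mem_erase.2 ⟨fun e => hne (by
      rw [e, dg_triv]), hχ⟩)
    exact congrFun (congrArg Subtype.val (h1.trans h2.symm)) g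
  · exact absurd ((hψd.symm.trans (B.dg_Y h hθ))) hd

/-- Not all nontrivial members have degree divisible by an odd prime. -/
theorem Blk.exists_not_dvd {p : ℕ} [Fact p.Prime] {P : Sylow p G} {e : ℕ} (B : Blk P e) {r : ℕ}
    (hr : r.Prime) : ∃ ψ, B.Mem ψ ∧ ψ ≠ triv G ∧ ¬ r ∣ dg ψ := by
  classical
  haveI := Fact.mk hr
  by_contra hcon
  push Not at hcon
  have hz : ∀ ψ, B.Mem ψ → ψ ≠ triv G → (dg ψ : ZMod r) = 0 := fun ψ hψ hne =>
    (ZMod.natCast_eq_zero_iff _ _).2 (hcon ψ hψ hne)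
  obtain ⟨θ, hθ, hθ'⟩ : ∃ θ, θ ∈ B.Y ∧ (triv G ∈ B.Y → θ = triv G) := by
    by_cases h : triv G ∈ B.Y
    · exact ⟨_, h, fun _ => rfl⟩
    · obtain ⟨θ, hθ⟩ := B.Y_nonempty
      exact ⟨θ, hθ, fun h' => absurd h' h⟩
  have h2 := congrArg (fun z : ℤ => (z : ZMod r)) (B.rel_one hθ)
  push_cast at h2
  rcases B.triv_mem with ht | ht
  · rw [Finset.sum_eq_single_of_mem _ ht fun χ hχ hne => by rw [hz χ (Or.inl hχ) hne, mul_zero],
      hz θ (Or.inr hθ) (fun e => Finset.disjoint_left.1 B.disj ht (e ▸ hθ)), dg_triv, mul_zero,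
      zero_add, Nat.cast_one, mul_one] at h2
    rcases B.ha _ ht with h | h <;> rw [h] at h2 <;> simp at h2
  · rw [Finset.sum_eq_zero fun χ hχ => by
        rw [hz χ (Or.inl hχ) (fun e => Finset.disjoint_left.1 B.disj (e ▸ hχ) ht), mul_zero],
      hθ' ht, dg_triv, add_zero, Nat.cast_one, mul_one] at h2
    rcases B.hs with h | h <;> rw [h] at h2 <;> simp at h2

variable [IsSimpleGroup G] (hG : Nat.card G = ord)
include hG

theorem five_dvd_value {d : ℕ} {w : G} {v : ℤ}
    (hc : 5 ∣ Nat.card (Subgroup.centralizer ({w} : Set G))) (hd : 5 ∣ d)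
    (hdv : (d : ℤ) ∣ ((ord / Nat.card (Subgroup.centralizer ({w} : Set G)) : ℕ) : ℤ) * v) :
    (5 : ℤ) ∣ v := by
  refine (Int.Prime.dvd_mul' (p := 5) (by norm_num)
    ((Int.natCast_dvd_natCast.2 hd).trans hdv)).resolve_left fun h' => ?_
  obtain ⟨j, hj⟩ := card_dvd hG w
  rw [hj, Nat.mul_div_cancel_left _ Nat.card_pos] at h'
  have h25 : 5 * 5 ∣ ord := hj ▸ mul_dvd_mul hc (Int.natCast_dvd_natCast.1 h')
  norm_num [ord] at h25

theorem res_twentythree [Fact (Nat.Prime 23)] (χ : Cfsg.IrrCharacter G) :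
    dg χ % 23 ∈ res23 := by
  obtain ⟨hS, hC⟩ := twentythree hG (default : Sylow 23 G)
  obtain ⟨B⟩ := exists_blk hS
  by_cases h : χ ∈ Cfsg.principalBlock B.M G
  · simp only [res23, List.mem_cons, List.not_mem_nil, or_false]
    rcases (B.mem χ).1 h with h | h
    · have h4 := Int.ModEq.eq (B.modX χ h)
      rcases B.ha χ h with e | e <;> rw [e] at h4 <;> norm_num at h4 <;> omega
    · have h4 := Int.ModEq.eq (B.modY χ h)
      rcases B.hs with e | e <;> rw [e] at h4 <;> norm_num at h4 <;> omega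
  · have := Nat.mod_eq_zero_of_dvd (S4429.dvd_outside hS hC B.hM h)
    simp only [res23, List.mem_cons]
    exact Or.inl this

variable [Fact (Nat.Prime 11)] [Fact (Nat.Prime 23)]

theorem deg_eleven {P : Sylow 11 G} {e : ℕ} (B : Blk P e) {χ : Cfsg.IrrCharacter G}
    (h : B.Mem χ) : dg χ < 3194 ∧ dg χ ≠ 0 ∧ 927360 % dg χ = 0 ∧ dg χ % 23 ∈ res23 := by
  refine ⟨Nat.lt_succ_of_le (deg_le hG χ), (dg_pos χ).ne', ?_, res_twentythree hG χ⟩
  exact Nat.mod_eq_zero_of_dvd
    ((((Fact.out : Nat.Prime 11).coprime_iff_not_dvd.2 (B.not_dvd h)).symm).dvd_of_dvd_mul_left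
      (show _ ∣ 11 * 927360 from deg_dvd hG χ))

theorem deg_eleven_X {P : Sylow 11 G} {e : ℕ} (B : Blk P e) {χ : Cfsg.IrrCharacter G}
    (h : B.Mem χ) (hmod : dg χ % 11 = 1 ∨ dg χ % 11 = 10) :
    dg χ ∈ [1, 12, 23, 45, 230, 252, 276, 483, 736, 1035, 1288, 2760] := by
  obtain ⟨h1, h2, h3, h4⟩ := deg_eleven hG B h
  have := List.all_eq_true.1 deg_X _ (List.mem_range.2 h1)
  rcases hmod with hm | hm <;> simpa [h2, h3, h4, hm] using this

theorem deg_eleven_Y {P : Sylow 11 G} {e : ℕ} (B : Blk P e) {χ : Cfsg.IrrCharacter G}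
    (h : B.Mem χ) (hmod : dg χ % 11 = 5 ∨ dg χ % 11 = 6) :
    23 ∣ dg χ ∨ dg χ ∈ [126, 160, 896, 1920] := by
  obtain ⟨h1, h2, h3, h4⟩ := deg_eleven hG B h
  have := List.all_eq_true.1 deg_Y _ (List.mem_range.2 h1)
  rcases hmod with hm | hm <;> simpa [h2, h3, h4, hm, Nat.dvd_iff_mod_eq_zero] using this

/-- The automizer does not have order two. -/
theorem not_two_eleven {P : Sylow 11 G} (hS : BlockThms.OrderP.Setup P 2) : False := by
  classical
  obtain ⟨B⟩ := exists_blk hS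
  have htX : triv G ∈ B.X := B.triv_mem_X fun s hs => by rcases hs with rfl | rfl <;> decide
  obtain ⟨θ, hθ⟩ := B.Y_nonempty
  obtain ⟨χ, hχ⟩ := Finset.card_eq_one.1 (show (B.X.erase (triv G)).card = 1 by
    rw [Finset.card_erase_of_mem htX, B.cardX])
  obtain ⟨hχne, hχX⟩ := Finset.mem_erase.1 (hχ.symm ▸ Finset.mem_singleton_self χ :
    χ ∈ B.X.erase (triv G))
  have hsum : ∀ f : Cfsg.IrrCharacter G → ℂ, ∑ φ ∈ B.X, f φ = f (triv G) + f χ := fun f => by
    rw [← Finset.add_sum_erase _ _ htX, hχ, Finset.sum_singleton]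
  have h3 := B.rel_one hθ
  rw [← Finset.add_sum_erase _ _ htX, hχ, Finset.sum_singleton, B.a_triv (by norm_num) htX,
    dg_triv] at h3
  have hd1 : dg χ ≠ 1 := fun h => hχne (dg_one hG h)
  obtain ⟨hχ1, hχ0, hχ2, hχ3⟩ := deg_eleven hG B (Or.inl hχX)
  obtain ⟨hθ1, hθ0, hθ2, hθ3⟩ := deg_eleven hG B (Or.inr hθ)
  have hpair : (dg χ = 23 ∧ dg θ = 24) ∨ (dg χ = 45 ∧ dg θ = 46) := by
    have hm1 : dg χ % 11 = 1 ∨ dg χ % 11 = 10 := by
      have h4 := Int.ModEq.eq (B.modX χ hχX)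
      rcases B.ha χ hχX with e | e <;> rw [e] at h4 <;> norm_num at h4 <;> omega
    have hm2 : dg θ % 11 = 2 ∨ dg θ % 11 = 9 := by
      have h4 := Int.ModEq.eq (B.modY θ hθ)
      rcases B.hs with e | e <;> rw [e] at h4 <;> norm_num at h4 <;> omega
    have ht : dg θ = dg χ - 1 ∨ dg θ = dg χ + 1 := by
      rcases B.ha χ hχX with e1 | e1 <;> rcases B.hs with e2 | e2 <;> rw [e1, e2] at h3 <;> omega
    have := List.all_eq_true.1 deg_two _ (List.mem_range.2 hχ1)
    have hlt : 1 < dg χ := by omega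
    have h5 : (res23.contains (dg χ % 23)) = true := List.contains_iff_mem.2 hχ3
    have h6 : (res23.contains (dg θ % 23)) = true := List.contains_iff_mem.2 hθ3
    rcases hm1 with hm1 | hm1 <;>
      simp only [hlt, hχ2, hm1, h5, decide_true, beq_self_eq_true, Bool.or_true, Bool.true_or,
        Bool.and_self, Bool.not_true, Bool.false_or] at this <;>
      (have h7 := List.all_eq_true.1 this (dg θ) (by simp only [List.mem_cons, List.not_mem_nil, or_false]; omega)
       rcases hm2 with hm2 | hm2 <;>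
        simpa [hθ0, hθ1, hθ2, hθ3, h6, hm2] using h7)
  have hsgn : B.a χ = 1 ∧ B.s = -1 := by
    rcases hpair with ⟨e, e'⟩ | ⟨e, e'⟩ <;> rw [e, e'] at h3 <;>
      rcases B.ha χ hχX with e1 | e1 <;> rcases B.hs with e2 | e2 <;> rw [e1, e2] at h3 <;>
      first
      | exact ⟨e1, e2⟩
      | omega
  have hdθ : dg θ = dg χ + 1 := by omega
  obtain ⟨w, hw⟩ := exists_prime_orderOf_dvd_card' (G := G) 2 (hp := ⟨Nat.prime_two⟩)
    (by rw [hG]; norm_num [ord])
  obtain ⟨v, hv, -, hvlt, -⟩ := inv_value hG (fun e => hχne e) hw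
  obtain ⟨z, hz, hz1, hzo⟩ := hS.exists_gen
  obtain ⟨K, hKC, -, -, -, hCK, -⟩ := hS.exists_complement
  have hw11 : ¬ 11 ∣ orderOf w := by rw [hw]; norm_num
  let val : Cfsg.IrrCharacter G → ℤ := fun φ => if φ = χ then v else if φ = triv G then 1 else 1 + v
  have hne : ∀ η ∈ B.Y, η ≠ χ ∧ η ≠ triv G := fun η hη =>
    ⟨fun (e : η = χ) => Finset.disjoint_left.1 B.disj hχX (e ▸ hη),
      fun (e : η = triv G) => Finset.disjoint_left.1 B.disj htX (e ▸ hη)⟩
  have hvalθ : val θ = 1 + v := (if_neg (hne θ hθ).1).trans (if_neg (hne θ hθ).2)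
  have hY : ∀ η ∈ B.Y, (η : G → ℂ) w = ((1 + v : ℤ) : ℂ) := fun η hη => by
    have h := B.rel η hη w hw11
    rw [hsum, B.a_triv (by norm_num) htX, hsgn.1, hsgn.2, triv_apply, hv] at h
    push_cast at h ⊢
    linear_combination -h
  have hval : ∀ φ, B.Mem φ → (φ : G → ℂ) w = val φ := by
    rintro φ (h | h)
    · by_cases e : φ = χ
      · rw [show val φ = _ from if_pos e, e, hv]
      · have : φ = triv G := by
          by_contra e'
          exact e (Finset.mem_singleton.1 (hχ ▸ Finset.mem_erase.2 ⟨e', h⟩))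
        rw [show val φ = _ from if_neg e, if_pos this, this, triv_apply, Int.cast_one]
    · rw [hY φ h, show val φ = 1 + v from (if_neg (hne φ h).1).trans (if_neg (hne φ h).2)]
  have hf := B.pairs_formula hz hz1 hw11 hval hθ
  obtain ⟨n, hn⟩ := card_pairs hS (by norm_num) hz hz1 hw
  have hfib : (BlockThms.OrderP.fiber 11 z).card = Nat.card K := by
    have h1 := hS.card_fiber hz hz1
    rw [hS.centralizer_eq hz hz1] at h1
    rw [hCK] at h1
    omega
  rw [hsum, B.a_triv (by norm_num) htX, hsgn.1, hsgn.2, hfib, hvalθ,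
    show val χ = v from if_pos rfl,
    show val (triv G) = 1 from (if_neg (Ne.symm hχne)).trans (if_pos rfl), dg_triv, hdθ, hG] at hf
  set cl := (Subgroup.centralizer ({w} : Set G)).index with hcl
  set d := dg χ with hd
  have hd0 : (d : ℂ) ≠ 0 := Nat.cast_ne_zero.2 hχ0
  have hd10 : (d : ℂ) + 1 ≠ 0 := by exact_mod_cast (Nat.succ_ne_zero d)
  have hn' : (n : ℂ) * n = 11 * (Nat.card (Pairs 11 w z) : ℂ) := by exact_mod_cast hn
  have hmain : (n : ℂ) * n * (927360 * (d * (d + 1))) =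
      (Nat.card K : ℂ) * ((cl : ℂ) * (d - v)) * ((cl : ℂ) * (d - v)) := by
    rw [hn']
    simp only [ord] at hf
    push_cast at hf
    field_simp at hf
    linear_combination hf
  have hmainN : n * n * (927360 * (d * (d + 1))) =
      Nat.card K * ((cl * ((d : ℤ) - v).natAbs) * (cl * ((d : ℤ) - v).natAbs)) := by
    have h1 : ((n * n * (927360 * (d * (d + 1))) : ℕ) : ℤ) =
        (Nat.card K : ℤ) * (((cl : ℤ) * ((d : ℤ) - v)) * ((cl : ℤ) * ((d : ℤ) - v))) := by
      rw [← Int.cast_inj (α := ℂ)]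
      push_cast
      linear_combination hmain
    have h2 := congrArg Int.natAbs h1
    simpa [Int.natAbs_mul, show ((d : ℤ) + 1).natAbs = d + 1 by omega] using h2
  have hX0 : cl * ((d : ℤ) - v).natAbs ≠ 0 :=
    Nat.mul_ne_zero Subgroup.index_ne_zero_of_finite (by omega)
  -- a prime dividing the complement
  have key : ∀ r : ℕ, r.Prime → r ≠ 11 → r ∣ Nat.card K →
      ∃ (u : ℤ) (m : ℕ), (11 : ℤ) ∣ u - 1 ∧ -(d : ℤ) ≤ u ∧ u < d ∧
        (r : ℤ) * m = d + ((r : ℤ) - 1) * u := by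
    intro r hr hr11 hrK
    haveI := Fact.mk hr
    obtain ⟨c, hc⟩ := exists_prime_orderOf_dvd_card' (G := K) r hrK
    have hco : orderOf (c : G) = r := by rw [Subgroup.orderOf_coe]; exact hc
    have hc11 : ¬ 11 ∣ orderOf (c : G) := by
      rw [hco]; exact fun h => hr11 ((Nat.prime_dvd_prime_iff_eq (by norm_num) hr).1 h).symm
    obtain ⟨q, hq⟩ := Char.IsChar.exists_rat (Char.IsIrr.isCharacter χ.2) (c : G) fun j hj =>
      B.galois_fixed htX hχX hd1 hθ (by rw [hdθ]; omega) hj (c : G)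
    obtain ⟨u, hu⟩ := Char.exists_int_of_isIntegral_rat (q := q)
      (hq ▸ Char.IsChar.isIntegral (Char.IsIrr.isCharacter χ.2) _)
    have hval : (χ : G → ℂ) (c : G) = u := by rw [hq, ← hu]; norm_cast
    obtain ⟨m, hm⟩ := prime_value (Char.IsIrr.isCharacter χ.2) (value_one χ) hco hval
    have hcong := B.congr_X hχX (hKC c.2) hc11
    rw [hval, hsgn.1, ← Int.cast_sub, memLocalIdeal_intCast_iff B.hM] at hcong
    have hle := Char.IsChar.norm_le (Char.IsIrr.isCharacter χ.2) (c : G)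
    rw [hval, value_one, Complex.natCast_re, Complex.norm_intCast] at hle
    have habs : |u| ≤ (d : ℤ) := by exact_mod_cast hle
    have hne : u ≠ d := fun e => by
      have := S4429.faithful (not_comm hG) χ.2 (fun h => hχne (Subtype.ext h)) (value_one χ)
        (g := (c : G)) (by rw [hval, e, Complex.norm_intCast]; simp [hd])
      rw [this, orderOf_one] at hco
      exact hr.one_lt.ne hco
    exact ⟨u, m, hcong, (abs_le.1 habs).1, lt_of_le_of_ne (abs_le.1 habs).2 hne, hm⟩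
  rcases hpair with ⟨e, -⟩ | ⟨e, -⟩
  · by_cases h5 : 5 ∣ Nat.card K
    · obtain ⟨u, m, h11, hlo, hhi, hm⟩ := key 5 (by norm_num) (by norm_num) h5
      rw [show (d : ℤ) = 23 by exact_mod_cast e] at hlo hhi hm
      omega
    · refine hX0 (not_square_eq (q := 5) (m := 185472 * 552) (n := n) (by norm_num) (by norm_num)
        h5 ?_)
      rw [← hmainN, e]
  · by_cases h7 : 7 ∣ Nat.card K
    · obtain ⟨u, m, h11, hlo, hhi, hm⟩ := key 7 (by norm_num) (by norm_num) h7
      rw [show (d : ℤ) = 45 by exact_mod_cast e] at hlo hhi hm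
      omega
    · refine hX0 (not_square_eq (q := 7) (m := 132480 * 2070) (n := n) (by norm_num) (by norm_num)
        h7 ?_)
      rw [← hmainN, e]

theorem not_twentythree_dvd {P : Sylow 11 G} {e : ℕ} (hS : BlockThms.OrderP.Setup P e)
    {c : G} (hc : c ∈ Subgroup.centralizer (P : Set G)) : orderOf c ≠ 23 := by
  intro hco
  obtain ⟨Q, hQ⟩ := (IsPGroup.of_card (p := 23) (n := 1) (by
    rw [Nat.card_zpowers, hco, pow_one]) : IsPGroup 23 (Subgroup.zpowers c)).exists_le_sylow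
  obtain ⟨hS', hC'⟩ := twentythree hG Q
  obtain ⟨z, hz, hz1, hzo⟩ := hS.exists_gen
  have hcQ : c ∈ (Q : Subgroup G) := hQ (Subgroup.mem_zpowers c)
  have hc1 : c ≠ 1 := fun h => by rw [h, orderOf_one] at hco; norm_num at hco
  have hzC : z ∈ Subgroup.centralizer (Q : Set G) := by
    rw [← hS'.centralizer_eq hcQ hc1, Subgroup.mem_centralizer_singleton_iff]
    exact Subgroup.mem_centralizer_iff.1 hc z hz
  have := Subgroup.orderOf_dvd_natCard _ hzC
  rw [hC', hzo] at this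
  norm_num at this

set_option maxHeartbeats 2000000 in
/-- The Sylow 11-subgroup. -/
theorem eleven (P : Sylow 11 G) :
    BlockThms.OrderP.Setup P 5 ∧ Nat.card (Subgroup.centralizer (P : Set G)) = 11 := by
  classical
  obtain ⟨e, hS⟩ := exists_setup hG (Or.inr (Or.inr (Or.inl rfl))) P
  obtain ⟨K, hKC, hpK, hKn, hCK, hcnt, hmod, -⟩ := sylow_count hG hS
  have hnd : Nat.card (Sylow 11 G) * (e * Nat.card K) = 927360 :=
    Nat.eq_of_mul_eq_mul_left (show 0 < 11 by norm_num) (by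
      rw [← mul_assoc, mul_comm 11, mul_assoc, hcnt])
  have he : e = 2 ∨ e = 5 ∨ e = 10 := by
    have h10 : e ∣ 10 := hS.exists_y.1
    have hne : e ≠ 1 := S4429.e_ne_one hS (by rw [hG]; norm_num [ord])
    have := hS.e_pos
    have := Nat.le_of_dvd (by norm_num) h10
    interval_cases e <;> omega
  have h23 : ¬ 23 ∣ Nat.card K := fun h => by
    obtain ⟨c, hc⟩ := exists_prime_orderOf_dvd_card' (G := K) 23 h
    exact not_twentythree_dvd hG hS (hKC _ c.2) (by rw [Subgroup.orderOf_coe]; exact hc)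
  have h40 : e * Nat.card K ∣ 40320 := by
    refine Nat.Coprime.dvd_of_dvd_mul_left ?_ (show _ ∣ 23 * 40320 from Dvd.intro_left _ hnd)
    refine ((Fact.out : Nat.Prime 23).coprime_iff_not_dvd.2 fun h => ?_).symm
    rcases (Fact.out : Nat.Prime 23).dvd_mul.1 h with h | h
    · rcases he with rfl | rfl | rfl <;> norm_num at h
    · exact h23 h
  obtain ⟨hk5, hk10⟩ := count_eleven he h40 (by
    rw [← hnd, Nat.mul_div_left _ (Nat.mul_pos hS.e_pos Nat.card_pos)]; exact hmod)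
  rcases he with rfl | he
  · exact (not_two_eleven hG hS).elim
  by_cases hdone : e = 5 ∧ Nat.card K = 1
  · obtain ⟨rfl, h1⟩ := hdone
    exact ⟨hS, by rw [hCK, h1]⟩
  exfalso
  obtain ⟨h2, h3⟩ : 2 ∣ Nat.card K ∧ (3 ∣ Nat.card K ∨ Nat.card K = 56 ∨ Nat.card K = 28) := by
    rcases he with rfl | rfl
    · rcases hk5 rfl with h | ⟨h, h' | h'⟩
      · exact absurd ⟨rfl, h⟩ hdone
      · exact ⟨h, Or.inl h'⟩
      · exact ⟨h, Or.inr (Or.inl h')⟩
    · rcases hk10 rfl with ⟨h, h' | h'⟩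
      · exact ⟨h, Or.inl h'⟩
      · exact ⟨h, Or.inr (Or.inr h')⟩
  obtain ⟨w, hwC, hw2, hw5⟩ : ∃ w ∈ Subgroup.centralizer (P : Set G), orderOf w = 2 ∧
      (¬ 3 ∣ Nat.card K → 5 ∣ Nat.card (Subgroup.centralizer ({w} : Set G))) := by
    by_cases h : 3 ∣ Nat.card K
    · obtain ⟨c, hc⟩ := exists_prime_orderOf_dvd_card' (G := K) 2 (hp := ⟨Nat.prime_two⟩) h2
      exact ⟨c, hKC _ c.2, by rw [Subgroup.orderOf_coe]; exact hc, fun h' => absurd h h'⟩
    haveI : Fact (Nat.Prime 5) := ⟨Nat.prime_five⟩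
    have hk := h3.resolve_left h
    have hfac : (Nat.card K).factorization 2 ≤ 3 := by
      by_contra hlt
      push Not at hlt
      have := (Nat.prime_two.pow_dvd_iff_le_factorization Nat.card_pos.ne').2 hlt
      rcases hk with hk | hk <;> rw [hk] at this <;> norm_num at this
    obtain ⟨y, hy⟩ := exists_prime_orderOf_dvd_card'
      (G := (Subgroup.normalizer (P : Set G) : Subgroup G)) 5 (by
        rw [show Nat.card (Subgroup.normalizer (P : Set G) : Subgroup G) = _ from hS.card_normalizer]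
        exact Dvd.dvd.mul_right (by rcases he with rfl | rfl <;> norm_num) _)
    obtain ⟨w, hwK, hw2, hyw⟩ := exists_commuting_inv (K := K) h2 (q := 5)
      (by rcases hk with hk | hk <;> rw [hk] <;> norm_num)
      (fun i hi => (show ∀ i ∈ Finset.Icc 1 3, ¬ 5 ∣ 2 ^ i - 1 by decide) i
        (Finset.Icc_subset_Icc_right hfac hi))
      (y := (y : G)) (by rw [Subgroup.orderOf_coe]; exact hy) (hKn _ y.2)
    refine ⟨w, hKC _ hwK, hw2, fun _ => ?_⟩
    rw [← hy, ← Subgroup.orderOf_coe]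
    exact Subgroup.orderOf_dvd_natCard _ (Subgroup.mem_centralizer_singleton_iff.2 hyw.eq)
  obtain ⟨B⟩ := exists_blk hS
  have elt : ∀ {ψ : Cfsg.IrrCharacter G}, B.Mem ψ → ∀ r : ℕ, r.Prime → r ∣ Nat.card K →
      r ∣ ord / dg ψ := by
    intro ψ hψ r hr hrK
    haveI := Fact.mk hr
    obtain ⟨c, hc⟩ := exists_prime_orderOf_dvd_card' (G := K) r hrK
    rw [← hG]
    exact B.dvd_codeg hψ (hKC _ c.2) hr (fun e => hpK (e ▸ hrK))
      (by rw [Subgroup.orderOf_coe]; exact hc)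
  have hval : ∀ ψ, B.Mem ψ → ψ ≠ triv G → ∃ v : ℤ, (ψ : G → ℂ) w = v ∧
      (44 : ℤ) ∣ (dg ψ : ℤ) - v ∧ v.natAbs < dg ψ ∧
      (¬ 3 ∣ Nat.card K → 5 ∣ dg ψ → (5 : ℤ) ∣ v) := by
    intro ψ hψ hne
    obtain ⟨v, hv, h44, hlt, hdv⟩ := B.central_inv hG (by norm_num) hψ hne hwC hw2
    norm_num at h44
    exact ⟨v, hv, h44, hlt, fun h h5 => five_dvd_value hG (hw5 h) h5 hdv⟩
  have hbad : ∀ ψ, B.Mem ψ → ψ ≠ triv G → dg ψ ∉ [1, 12, 45, 252, 126, 896, 1920] ∧
      (3 ∣ Nat.card K → dg ψ ≠ 1035) ∧ (¬ 3 ∣ Nat.card K → dg ψ ≠ 483 ∧ dg ψ ≠ 1288) := by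
    intro ψ hψ hne
    obtain ⟨v, -, h44, hlt, h5⟩ := hval ψ hψ hne
    have e2 := elt hψ 2 Nat.prime_two h2
    have e3 := fun h => elt hψ 3 Nat.prime_three h
    have e7 : ¬ 3 ∣ Nat.card K → 7 ∣ ord / dg ψ := fun h => elt hψ 7 (by norm_num) (by
      rcases h3.resolve_left h with h | h <;> rw [h] <;> norm_num)
    refine ⟨fun hmem => ?_, fun h hd => ?_, fun h => ⟨fun hd => ?_, fun hd => ?_⟩⟩
    · simp only [List.mem_cons, List.not_mem_nil, or_false] at hmem
      rcases hmem with hd | hd | hd | hd | hd | hd | hd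
      · exact hne (dg_one hG hd)
      · omega
      · rw [hd] at e3 h44 hlt h5
        by_cases h : 3 ∣ Nat.card K
        · have := e3 h; norm_num [ord] at this
        · have := h5 h (by norm_num); omega
      all_goals rw [hd] at e2 e3 e7
      all_goals first
        | (norm_num [ord] at e2; done)
        | (by_cases h : 3 ∣ Nat.card K
           · have := e3 h; norm_num [ord] at this
           · have := e7 h; norm_num [ord] at this)
    · have := e3 h; rw [hd] at this; norm_num [ord] at this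
    · have := e7 h; rw [hd] at this; norm_num [ord] at this
    · have := e7 h; rw [hd] at this; norm_num [ord] at this
  rcases he with rfl | rfl
  swap
  · -- all degrees are divisible by twenty-three
    obtain ⟨ψ, hψ, hne, h⟩ := B.exists_not_dvd (r := 23) Fact.out
    have hm : dg ψ % 11 = 1 ∨ dg ψ % 11 = 10 := by
      rcases hψ with hX | hY
      · have h4 := Int.ModEq.eq (B.modX ψ hX)
        rcases B.ha ψ hX with e | e <;> rw [e] at h4 <;> norm_num at h4 <;> omega
      · have h4 := Int.ModEq.eq (B.modY ψ hY)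
        rcases B.hs with e | e <;> rw [e] at h4 <;> norm_num at h4 <;> omega
    have h1 := deg_eleven_X hG B hψ hm
    have h2 := (hbad ψ hψ hne).1
    simp only [List.mem_cons, List.not_mem_nil, or_false, not_or] at h1 h2
    omega
  have htX : triv G ∈ B.X := B.triv_mem_X fun s hs => by rcases hs with rfl | rfl <;> decide
  have hta := B.a_triv (by norm_num) htX
  obtain ⟨L, hLdef⟩ : ∃ L : List ℕ, L = if 3 ∣ Nat.card K then listThree else listSeven := ⟨_, rfl⟩
  have hXdeg : ∀ χ ∈ B.X.erase (triv G), dg χ ∈ L ∧ B.a χ = sgn11 (dg χ) := by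
    intro χ hχ'
    obtain ⟨hne, hχ⟩ := Finset.mem_erase.1 hχ'
    have h4 := Int.ModEq.eq (B.modX χ hχ)
    have hm : (dg χ % 11 = 1 ∧ B.a χ = 1) ∨ (dg χ % 11 = 10 ∧ B.a χ = -1) := by
      rcases B.ha χ hχ with e | e <;> rw [e] at h4 <;> norm_num at h4
      · exact Or.inl ⟨by omega, e⟩
      · exact Or.inr ⟨by omega, e⟩
    refine ⟨?_, ?_⟩
    · have h1 := deg_eleven_X hG B (Or.inl hχ) (hm.imp And.left And.left)
      obtain ⟨h2, hA, hB⟩ := hbad χ (Or.inl hχ) hne
      simp only [List.mem_cons, List.not_mem_nil, or_false, not_or] at h1 h2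
      rw [hLdef]
      split_ifs with h
      · have := hA h
        simp only [listThree, List.mem_cons, List.not_mem_nil, or_false]
        omega
      · have := hB h
        simp only [listSeven, List.mem_cons, List.not_mem_nil, or_false]
        omega
    · rcases hm with ⟨h, h'⟩ | ⟨h, h'⟩ <;> rw [h', sgn11] <;> simp [h]
  have hX23 : ∀ χ ∈ B.X.erase (triv G), 23 ∣ dg χ := fun χ hχ => by
    have h := (hXdeg χ hχ).1
    rw [hLdef] at h
    split_ifs at h <;> simp only [listThree, listSeven, List.mem_cons, List.not_mem_nil, or_false] at h <;>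
      omega
  obtain ⟨θ, hθ⟩ := B.Y_nonempty
  have hθne : θ ≠ triv G := fun (e : θ = triv G) => Finset.disjoint_left.1 B.disj htX (e ▸ hθ)
  obtain ⟨hθd, hs⟩ : dg θ = 160 ∧ B.s = 1 := by
    obtain ⟨ψ, hψ, hne, h⟩ := B.exists_not_dvd (r := 23) Fact.out
    have hY : ψ ∈ B.Y := hψ.resolve_left fun hX => h (hX23 ψ (Finset.mem_erase.2 ⟨hne, hX⟩))
    have h4 := Int.ModEq.eq (B.modY θ hθ)
    have hm : dg θ % 11 = 5 ∨ dg θ % 11 = 6 := by
      rcases B.hs with e | e <;> rw [e] at h4 <;> norm_num at h4 <;> omega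
    rw [B.dg_Y hY hθ] at h
    have h1 := (deg_eleven_Y hG B (Or.inr hθ) hm).resolve_left h
    have h2 := (hbad θ (Or.inr hθ) hθne).1
    simp only [List.mem_cons, List.not_mem_nil, or_false, not_or] at h1 h2
    have hd : dg θ = 160 := by omega
    refine ⟨hd, B.hs.resolve_right fun e => ?_⟩
    rw [e, hd] at h4
    norm_num at h4
  -- the four members by increasing degree
  let Ls := (B.X.erase (triv G)).toList.insertionSort fun χ ψ => dg χ ≤ dg ψ
  haveI : Std.Total fun χ ψ : Cfsg.IrrCharacter G => dg χ ≤ dg ψ := ⟨fun _ _ => le_total _ _⟩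
  haveI : IsTrans (Cfsg.IrrCharacter G) fun χ ψ => dg χ ≤ dg ψ := ⟨fun _ _ _ => le_trans⟩
  have hperm : Ls.Perm (B.X.erase (triv G)).toList := List.perm_insertionSort _ _
  have hsort : Ls.Pairwise fun χ ψ => dg χ ≤ dg ψ := List.pairwise_insertionSort _ _
  have hlen : Ls.length = 4 := by
    rw [hperm.length_eq, Finset.length_toList, Finset.card_erase_of_mem htX, B.cardX]
  match Ls, hlen with
  | [x₁, x₂, x₃, x₄], _ =>
    have hmem : ∀ χ ∈ [x₁, x₂, x₃, x₄], χ ∈ B.X.erase (triv G) := fun χ hχ =>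
      Finset.mem_toList.1 (hperm.mem_iff.1 hχ)
    have hsum : ∀ f : Cfsg.IrrCharacter G → ℂ,
        ∑ χ ∈ B.X, f χ = f (triv G) + (f x₁ + f x₂ + f x₃ + f x₄) := fun f => by
      rw [← Finset.add_sum_erase _ _ htX, ← Finset.sum_map_toList, ← (hperm.map f).sum_eq]
      simp [add_assoc]
    obtain ⟨m₁, m₂, m₃, m₄⟩ : x₁ ∈ B.X.erase (triv G) ∧ x₂ ∈ B.X.erase (triv G) ∧
        x₃ ∈ B.X.erase (triv G) ∧ x₄ ∈ B.X.erase (triv G) :=
      ⟨hmem _ (by simp), hmem _ (by simp), hmem _ (by simp), hmem _ (by simp)⟩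
    simp only [List.pairwise_cons, List.mem_cons, List.not_mem_nil, or_false, forall_eq_or_imp,
      forall_eq] at hsort
    have hw11 : ¬ 11 ∣ orderOf w := by rw [hw2]; norm_num
    choose v hv using fun ψ : Cfsg.IrrCharacter G =>
      SmallOrder.exists_int_apply_involution (Char.IsIrr.isCharacter ψ.2) hw2
    have hv1 : v (triv G) = 1 := by
      have := hv (triv G); rw [triv_apply] at this; exact_mod_cast this.symm
    obtain ⟨five, hfive⟩ : ∃ five : Bool, five = decide (¬ 3 ∣ Nat.card K) := ⟨_, rfl⟩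
    have hkill : killAll five L = true := by
      rw [hfive, hLdef]
      by_cases h : 3 ∣ Nat.card K
      · rw [if_pos h, decide_eq_false (not_not.2 h)]; exact kill_three
      · rw [if_neg h, decide_eq_true h]; exact kill_seven
    have hrange : ∀ ψ, B.Mem ψ → ψ ≠ triv G → v ψ ∈ wVals five (dg ψ) := by
      intro ψ hψ hne
      obtain ⟨u, hu, h44, hlt, h5⟩ := hval ψ hψ hne
      have : v ψ = u := by exact_mod_cast (hv ψ).symm.trans hu
      rw [this]
      exact mem_wVals h44 hlt fun hf => h5 (by simpa [hfive] using hf)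
    have hr : ∀ {x}, x ∈ B.X.erase (triv G) → v x ∈ wVals five (dg x) := fun hx =>
      hrange _ (Or.inl (Finset.mem_erase.1 hx).2) (Finset.mem_erase.1 hx).1
    have hu := hrange θ (Or.inr hθ) hθne
    rw [hθd] at hu
    have e1 : (1 : ℤ) + sgn11 (dg x₁) * dg x₁ + sgn11 (dg x₂) * dg x₂ + sgn11 (dg x₃) * dg x₃ +
        sgn11 (dg x₄) * dg x₄ + 160 = 0 := by
      have h := congrArg (fun n : ℤ => (n : ℂ)) (B.rel_one hθ)
      push_cast at h
      rw [hsum, hta, hs, hθd, dg_triv, (hXdeg _ m₁).2, (hXdeg _ m₂).2, (hXdeg _ m₃).2,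
        (hXdeg _ m₄).2] at h
      push_cast at h
      rw [← Int.cast_inj (α := ℂ)]
      push_cast
      linear_combination h
    have e2 : (1 : ℤ) + v θ + sgn11 (dg x₁) * v x₁ + sgn11 (dg x₂) * v x₂ + sgn11 (dg x₃) * v x₃ +
        sgn11 (dg x₄) * v x₄ = 0 := by
      have h := B.rel θ hθ w hw11
      rw [hsum, hta, hs, triv_apply, hv θ, hv x₁, hv x₂, hv x₃, hv x₄, (hXdeg _ m₁).2,
        (hXdeg _ m₂).2, (hXdeg _ m₃).2, (hXdeg _ m₄).2] at h
      push_cast at h
      rw [← Int.cast_inj (α := ℂ)]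
      push_cast
      linear_combination h
    obtain ⟨z, hz, hz1, hzo⟩ := hS.exists_gen
    have hf := B.pairs_formula hz hz1 hw11 (fun χ _ => hv χ) hθ
    rw [no_pairs hS (by norm_num) (by decide) hz hz1 hw2, Nat.cast_zero, zero_mul] at hf
    have hf0 := ((mul_eq_zero.1 hf.symm).resolve_left (mul_ne_zero
      (pow_ne_zero 2 (Nat.cast_ne_zero.2 Subgroup.index_ne_zero_of_finite))
      (Nat.cast_ne_zero.2 (Finset.card_ne_zero.2 ⟨z, BlockThms.OrderP.self_mem_fiber hz⟩))))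
    rw [hsum, hta, hs, hθd, dg_triv, hv1, (hXdeg _ m₁).2, (hXdeg _ m₂).2, (hXdeg _ m₃).2,
      (hXdeg _ m₄).2] at hf0
    push_cast at hf0
    have hn : ∀ χ : Cfsg.IrrCharacter G, (dg χ : ℂ) ≠ 0 := fun χ => Nat.cast_ne_zero.2 (dg_pos χ).ne'
    have := hn x₁; have := hn x₂; have := hn x₃; have := hn x₄
    field_simp at hf0
    unfold killAll at hkill
    have hk := List.all_eq_true.1 (List.all_eq_true.1 (List.all_eq_true.1 (List.all_eq_true.1 hkill _
      (hXdeg _ m₁).1) _ (hXdeg _ m₂).1) _ (hXdeg _ m₃).1) _ (hXdeg _ m₄).1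
    simp only [hsort.1.1, hsort.2.1.1, hsort.2.2.1, decide_true, Bool.and_self, Bool.true_and,
      e1, beq_self_eq_true, Bool.not_true, Bool.false_or] at hk
    unfold killPat at hk
    have hk' := List.all_eq_true.1 (List.all_eq_true.1 (List.all_eq_true.1 (List.all_eq_true.1 hk _
      hu) _ (hr m₁)) _ (hr m₂)) _ (hr m₃)
    have hw4 : -(1 + v θ + sgn11 (dg x₁) * v x₁ + sgn11 (dg x₂) * v x₂ + sgn11 (dg x₃) * v x₃) *
        sgn11 (dg x₄) = v x₄ := by
      have hsq : sgn11 (dg x₄) * sgn11 (dg x₄) = 1 := by rw [sgn11]; split_ifs <;> norm_num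
      linear_combination (v x₄) * hsq - sgn11 (dg x₄) * e2
    have h4 := (List.mem_filter.1 (hr m₄)).2
    simp only [hw4] at hk'
    rw [h4, Bool.not_true, Bool.false_or, bne_iff_ne] at hk'
    refine hk' ?_
    rw [← Int.cast_inj (α := ℂ)]
    push_cast
    linear_combination hf0

end Group

end Cfsg.Agent.Fg24.M23
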