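import Mathlib

/-!
# The arithmetic of the principal 11-block of a simple group of order 10200960
-/

set_option autoImplicit false
set_option maxRecDepth 20000

namespace Cfsg.Agent.Fg24.M23

/-- The sign of a degree modulo eleven. -/
def sgn11 (d : ℕ) : ℤ := if d % 11 = 1 then 1 else -1

/-- The possible values at an involution centralizing the Sylow 11-subgroup. -/
def wVals (five : Bool) (d : ℕ) : List ℤ :=
  ((List.range (d / 22 + 1)).map fun j : ℕ => (d : ℤ) - 44 * ((j : ℤ) + 1)).filter fun v =>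
    decide (v.natAbs < d) && (!five || d % 5 != 0 || v % 5 == 0)

/-- No column at such an involution. -/
def killPat (five : Bool) (a b c d : ℕ) : Bool :=
  (wVals five 160).all fun u => (wVals five a).all fun x => (wVals five b).all fun y =>
    (wVals five c).all fun z =>
      let w := -(1 + u + sgn11 a * x + sgn11 b * y + sgn11 c * z) * sgn11 d
      !(decide (w.natAbs < d) && (!five || d % 5 != 0 || w % 5 == 0)) ||
        ((a * b * c * d : ℤ) * (160 + u * u) + 160 * (sgn11 a * (x * x) * (b * c * d : ℤ) +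
          sgn11 b * (y * y) * (a * c * d : ℤ) + sgn11 c * (z * z) * (a * b * d : ℤ) +
          sgn11 d * (w * w) * (a * b * c : ℤ)) != 0)

/-- All patterns on a list of degrees are impossible. -/
def killAll (five : Bool) (L : List ℕ) : Bool :=
  L.all fun a => L.all fun b => L.all fun c => L.all fun d =>
    !(decide (a ≤ b) && decide (b ≤ c) && decide (c ≤ d) &&
      (1 + sgn11 a * a + sgn11 b * b + sgn11 c * c + sgn11 d * d + 160 == 0)) ||
        killPat five a b c d

/-- The degrees, for a centralizer of order divisible by three. -/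
def listThree : List ℕ := [23, 230, 276, 483, 736, 1288, 2760]

/-- The degrees, for a complement of order fifty-six. -/
def listSeven : List ℕ := [23, 230, 276, 736, 1035, 2760]

end Cfsg.Agent.Fg24.M23

namespace Cfsg.Agent.Fg24.M23

theorem count_eleven_aux : ∀ e ∈ ([2, 5, 10] : List ℕ), ∀ a ∈ [1, 2, 4, 8, 16, 32, 64, 128],
    ∀ b ∈ Nat.divisors 315, e * (a * b) ∣ 40320 → (927360 / (e * (a * b))) % 11 = 1 →
      (e = 5 → a * b = 1 ∨ 2 ∣ a * b ∧ (3 ∣ a * b ∨ a * b = 56)) ∧
      (e = 10 → 2 ∣ a * b ∧ (3 ∣ a * b ∨ a * b = 28)) := by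
  decide +kernel

theorem count_eleven {e : ℕ} (he : e = 2 ∨ e = 5 ∨ e = 10) {k : ℕ} (hk : e * k ∣ 40320)
    (hmod : (927360 / (e * k)) % 11 = 1) :
    (e = 5 → k = 1 ∨ 2 ∣ k ∧ (3 ∣ k ∨ k = 56)) ∧ (e = 10 → 2 ∣ k ∧ (3 ∣ k ∨ k = 28)) := by
  have h1 : k ∈ Nat.divisors (128 * 315) :=
    Nat.mem_divisors.2 ⟨(dvd_mul_left k e).trans hk, by norm_num⟩
  rw [Nat.divisors_mul] at h1
  obtain ⟨a, ha, b, hb, rfl⟩ := Finset.mem_mul.1 h1
  refine count_eleven_aux e (by simpa using he) a ?_ b hb hk hmod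
  exact (show ∀ x ∈ Nat.divisors 128, x ∈ [1, 2, 4, 8, 16, 32, 64, 128] by decide +kernel) a ha

/-- The residues of the degrees modulo twenty-three. -/
def res23 : List ℕ := [0, 1, 22, 11, 12]

theorem deg_X : ((List.range 3194).all fun d =>
    !(d != 0 && 927360 % d == 0 && (d % 11 == 1 || d % 11 == 10) && res23.contains (d % 23)) ||
      [1, 12, 23, 45, 230, 252, 276, 483, 736, 1035, 1288, 2760].contains d) = true := by
  decide +kernel

theorem deg_Y : ((List.range 3194).all fun d =>
    !(d != 0 && 927360 % d == 0 && (d % 11 == 5 || d % 11 == 6) && res23.contains (d % 23)) ||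
      (d % 23 == 0 || [126, 160, 896, 1920].contains d)) = true := by
  decide +kernel

theorem deg_two : ((List.range 3194).all fun d =>
    !(1 < d && 927360 % d == 0 && (d % 11 == 1 || d % 11 == 10) && res23.contains (d % 23)) ||
      [d - 1, d + 1].all fun t =>
        !(t != 0 && t < 3194 && 927360 % t == 0 && (t % 11 == 2 || t % 11 == 9) &&
          res23.contains (t % 23)) || ((d == 23 && t == 24) || (d == 45 && t == 46))) = true := by
  decide +kernel

theorem mem_wVals {five : Bool} {d : ℕ} {v : ℤ} (h44 : (44 : ℤ) ∣ (d : ℤ) - v)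
    (hlt : v.natAbs < d) (h5 : five = true → 5 ∣ d → (5 : ℤ) ∣ v) : v ∈ wVals five d := by
  obtain ⟨m, hm⟩ := h44
  refine List.mem_filter.2 ⟨List.mem_map.2 ⟨(m - 1).toNat, List.mem_range.2 ?_, ?_⟩, ?_⟩
  · omega
  · omega
  simp only [Bool.and_eq_true, decide_eq_true_eq, Bool.or_eq_true, Bool.not_eq_true',
    bne_iff_ne, ne_eq, beq_iff_eq]
  refine ⟨hlt, ?_⟩
  cases five
  · simp
  · by_cases h : 5 ∣ d
    · exact Or.inr (Int.emod_eq_zero_of_dvd (h5 rfl h))
    · exact Or.inl (Or.inr fun h' => h (Nat.dvd_of_mod_eq_zero h'))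

theorem not_square_eq {q m n k X : ℕ} (hq : q.Prime) (hm : ¬ q ∣ m) (hk : ¬ q ∣ k)
    (h : n * n * (q * m) = k * (X * X)) : X = 0 := by
  by_contra hX
  have hk0 : k ≠ 0 := fun e => hk (e ▸ dvd_zero q)
  have hm0 : m ≠ 0 := fun e => hm (e ▸ dvd_zero q)
  have hn : n ≠ 0 := fun e => by
    rw [e, zero_mul, zero_mul] at h
    exact Nat.mul_ne_zero hk0 (Nat.mul_ne_zero hX hX) h.symm
  have h1 := congrArg (fun x : ℕ => x.factorization q) h
  simp only [Nat.factorization_mul, ne_eq, mul_eq_zero, hn, hm0, hk0, hX, hq.ne_zero, or_self,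
    not_false_eq_true, Finsupp.add_apply, hq.factorization_self,
    Nat.factorization_eq_zero_of_not_dvd hm, Nat.factorization_eq_zero_of_not_dvd hk] at h1
  omega

end Cfsg.Agent.Fg24.M23
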