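import Mathlib

/-!
# Permutations of degree twenty-three

The normal form of the generators: `x ↦ x + 1`, `x ↦ 2 x`, and a map `τ` commuting with the second
up to cubing, which is `x ↦ x³` on the squares and `x ↦ c x³` on the nonsquares.
-/

set_option autoImplicit false

namespace Cfsg.Agent.Fg24.M23

local instance fact_prime_twentythree_arith : Fact (Nat.Prime 23) := ⟨by norm_num⟩

/-- The translation. -/
def sigma23 : Equiv.Perm (ZMod 23) :=
  ⟨fun x => x + 1, fun x => x - 1, fun x => add_sub_cancel_right x 1,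
    fun x => sub_add_cancel x 1⟩

/-- The doubling. -/
def mu23 : Equiv.Perm (ZMod 23) :=
  ⟨fun x => 2 * x, fun x => 12 * x, by unfold Function.LeftInverse; decide +kernel,
    by unfold Function.RightInverse Function.LeftInverse; decide +kernel⟩

/-- The maps commuting with the doubling up to cubing. -/
def tauFun (c x : ZMod 23) : ZMod 23 := if x ^ 11 = 1 then x ^ 3 else c * x ^ 3

/-- The third generator. -/
def tau23 : Equiv.Perm (ZMod 23) :=
  ⟨tauFun 2, fun y => if y ^ 11 = 1 then y ^ 15 else (12 * y) ^ 15,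
    by unfold Function.LeftInverse; decide +kernel,
    by unfold Function.RightInverse Function.LeftInverse; decide +kernel⟩

theorem sigma23_pow (n : ℕ) (x : ZMod 23) : (sigma23 ^ n) x = x + n := by
  induction n with
  | zero => simp
  | succ n ih =>
    rw [pow_succ', Equiv.Perm.mul_apply, ih, Nat.cast_succ, ← add_assoc]
    rfl

theorem mu23_pow (n : ℕ) (x : ZMod 23) : (mu23 ^ n) x = 2 ^ n * x := by
  induction n with
  | zero => simp
  | succ n ih =>
    rw [pow_succ', Equiv.Perm.mul_apply, ih, pow_succ', mul_assoc]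
    rfl

theorem zmod_cases : ∀ x : ZMod 23, x = 0 ∨
    ∃ i : Fin 11, x = 2 ^ (i : ℕ) * 1 ∨ x = 2 ^ (i : ℕ) * (-1) := by decide +kernel

theorem zmod_powers : ∀ i : Fin 11, ((2 : ZMod 23) ^ (i : ℕ) * 1) ^ 11 = 1 ∧
    ((2 : ZMod 23) ^ (i : ℕ) * (-1)) ^ 11 ≠ 1 ∧
    ((2 : ZMod 23) ^ (i : ℕ) * 1) ^ 3 = 8 ^ (i : ℕ) ∧
    ((2 : ZMod 23) ^ (i : ℕ) * (-1)) ^ 3 = -8 ^ (i : ℕ) := by decide +kernel

theorem eleventh : ∀ x : ZMod 23, x = 0 ∨ x ^ 11 = 1 ∨ x ^ 11 = -1 := by decide +kernel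

theorem cube_root : ∀ a : ZMod 23, a ^ 11 = 1 → ∃ x : ZMod 23, x ^ 11 = 1 ∧ x ^ 3 = a := by
  decide +kernel

theorem two_log : ∀ a : ZMod 23, a ^ 11 = 1 → ∃ j : Fin 11, (2 : ZMod 23) ^ (j : ℕ) * a = 1 := by
  decide +kernel

theorem slope_log : ∀ k : ZMod 23, k ^ 11 = 1 → k ≠ 1 →
    ∃ j : Fin 11, k ^ (j : ℕ) = 2 := by decide +kernel

theorem five_log : ∀ k : Fin 11, (k : ℕ) ^ 5 % 11 = 1 → (k : ℕ) ≠ 1 →
    ∃ n : Fin 5, (k : ℕ) ^ (n : ℕ) % 11 = 3 := by decide +kernel

/-- The solutions of the functional equation. -/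
theorem shape {g : ZMod 23 → ZMod 23} (h0 : g 0 = 0) (h : ∀ x, g (2 * x) = 8 * g x) (x : ZMod 23) :
    g x = if x ^ 11 = 1 then g 1 * x ^ 3 else -g (-1) * x ^ 3 := by
  have hpow : ∀ (i : ℕ) (y : ZMod 23), g (2 ^ i * y) = 8 ^ i * g y := by
    intro i y
    induction i with
    | zero => simp
    | succ i ih => rw [pow_succ', mul_assoc, h, ih, pow_succ', mul_assoc]
  rcases zmod_cases x with rfl | ⟨i, rfl | rfl⟩
  · rw [if_neg (by decide), h0]
    simp
  · obtain ⟨h1, -, h3, -⟩ := zmod_powers i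
    rw [if_pos h1, h3, hpow, mul_comm]
  · obtain ⟨-, h2, -, h4⟩ := zmod_powers i
    rw [if_neg h2, h4, hpow]
    ring

/-- A solution of order five preserves the squares. -/
theorem exists_scale {g : ZMod 23 → ZMod 23} (h0 : g 0 = 0) (h : ∀ x, g (2 * x) = 8 * g x)
    (hinj : Function.Injective g) (h5 : g^[5] 1 = 1) : ∃ j : ℕ, (2 : ZMod 23) ^ j * g 1 = 1 := by
  by_cases h1 : g 1 ^ 11 = 1
  · exact ⟨_, (two_log _ h1).choose_spec⟩
  exfalso
  have hne : ∀ y, y ≠ 0 → g y ≠ 0 := fun y hy e => hy (hinj (e.trans h0.symm))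
  have h1' : g 1 ^ 11 = -1 :=
    ((eleventh (g 1)).resolve_left (hne 1 one_ne_zero)).resolve_left h1
  have ha : g (-1) ^ 11 = 1 := by
    rcases ((eleventh (g (-1))).resolve_left (hne _ (by decide))) with e | e
    · exact e
    exfalso
    obtain ⟨y, hy⟩ := (Finite.injective_iff_surjective.1 hinj) 1
    rw [shape h0 h] at hy
    have hy' := congrArg (· ^ 11) hy
    simp only [one_pow] at hy'
    rcases eleventh y with hy0 | hy1 | hy1
    · subst hy0
      simp at hy
    · rw [if_pos hy1, mul_pow, h1', ← pow_mul, mul_comm 3, pow_mul, hy1, one_pow, mul_one] at hy'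
      exact absurd hy' (by decide)
    · rw [if_neg (by rw [hy1]; decide), mul_pow, neg_pow (g (-1)), e, ← pow_mul, mul_comm 3,
        pow_mul, hy1] at hy'
      exact absurd hy' (by decide)
  have hflip : ∀ y, g y ^ 11 = -y ^ 11 := by
    intro y
    rw [shape h0 h]
    rcases eleventh y with hy0 | hy1 | hy1
    · subst hy0
      simp
    · rw [if_pos hy1, mul_pow, h1', ← pow_mul, mul_comm 3, pow_mul, hy1]
      ring
    · rw [if_neg (by rw [hy1]; decide), mul_pow, neg_pow (g (-1)), ha, ← pow_mul, mul_comm 3,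
        pow_mul, hy1]
      ring
  have e5 := congrArg (· ^ 11) h5
  simp only [Function.iterate_succ, Function.iterate_zero, Function.comp_apply, id_eq, hflip,
    neg_neg, one_pow] at e5
  exact absurd e5 (by decide)

/-- A normalised solution. -/
theorem eq_tauFun {g : ZMod 23 → ZMod 23} (h0 : g 0 = 0) (h : ∀ x, g (2 * x) = 8 * g x)
    (hinj : Function.Injective g) (h1 : g 1 = 1) :
    (-g (-1)) ^ 11 = 1 ∧ g = tauFun (-g (-1)) := by
  refine ⟨?_, funext fun x => by rw [shape h0 h x, h1, one_mul]; rfl⟩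
  have hne : g (-1) ≠ 0 := fun e => absurd (hinj (e.trans h0.symm)) (by decide)
  rcases (eleventh (g (-1))).resolve_left hne with e | e
  · exfalso
    obtain ⟨x, hx, hx3⟩ := cube_root _ e
    have hx' : g x = g (-1) := by rw [shape h0 h x, if_pos hx, h1, one_mul, hx3]
    rw [hinj hx'] at hx
    exact absurd hx (by decide)
  · rw [neg_pow, e]
    decide

theorem tau_cases : ∀ c : ZMod 23, c ^ 11 = 1 → c = 1 ∨ c = 2 ∨ c = 4 ∨ c = 8 ∨ c = 16 ∨ c = 9 ∨
    c = 18 ∨ c = 13 ∨ c = 3 ∨ c = 6 ∨ c = 12 := by decide +kernel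

theorem tau_mirror : ∀ x : ZMod 23, 2 * -tauFun 12 (-x) = tauFun 2 x := by decide +kernel

theorem tau23_relation : ∀ x : ZMod 23, tauFun 2 (2 * x) = 2 ^ 3 * tauFun 2 x := by decide +kernel

theorem index_arith {k : ℕ} (hk : k ∣ 8064) (hk' : k ≤ 350) (h23 : 5 * k % 23 = 1)
    (h11 : 23 * k % 11 = 1) : False := by
  have key : ∀ k ∈ List.range 351, 8064 % k = 0 → 5 * k % 23 = 1 → 23 * k % 11 = 1 → False := by
    decide +kernel
  exact key k (List.mem_range.2 (by omega)) (Nat.mod_eq_zero_of_dvd hk) h23 h11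

end Cfsg.Agent.Fg24.M23
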