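import Cfsg.Agent.Fg24.M23.Index
import Cfsg.Agent.Fg24.M23.IdentArith
import Cfsg.Agent.SmallOrder.Basic

/-!
# The simple groups of order 10200960 are isomorphic to each other

The action on the cosets of a subgroup of index twenty-three embeds the group in the symmetric
group on `ZMod 23` so that the normalizers of the Sylow subgroups of orders 23 and 11 are in
standard form; eleven candidates remain for an element of order five, nine of which give elements
of forbidden orders and the other two are mirror images.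
-/

set_option autoImplicit false
set_option linter.unusedSectionVars false

namespace Cfsg.Agent.Fg24.M23

open Cfsg Cfsg.Agent Subgroup

universe u

local instance fact_five_ident : Fact (Nat.Prime 5) := ⟨by norm_num⟩
local instance fact_seven_ident : Fact (Nat.Prime 7) := ⟨by norm_num⟩
local instance fact_eleven_ident : Fact (Nat.Prime 11) := ⟨by norm_num⟩
local instance fact_twentythree_ident : Fact (Nat.Prime 23) := ⟨by norm_num⟩

section NormalizerMem

variable {G : Type u} [Group G]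

theorem mem_normalizer_zpowers [Finite G] {x y : G} {k : ℕ} (h : y * x * y⁻¹ = x ^ k) :
    y ∈ normalizer (zpowers x : Set G) :=
  mem_normalizer_fintype fun n hn => by
    obtain ⟨i, rfl⟩ := hn
    show y * x ^ i * y⁻¹ ∈ zpowers x
    rw [← conj_zpow, h]
    exact zpow_mem (pow_mem (mem_zpowers x) k) i

theorem conj_pow_eq {x y : G} {k : ℕ} (h : y * x * y⁻¹ = x ^ k) :
    ∀ n : ℕ, y ^ n * x * (y ^ n)⁻¹ = x ^ k ^ n := by
  intro n
  induction n with
  | zero => simp
  | succ n ih =>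
    calc y ^ (n + 1) * x * (y ^ (n + 1))⁻¹ = y * (y ^ n * x * (y ^ n)⁻¹) * y⁻¹ := by
          rw [pow_succ']; group
      _ = (y * x * y⁻¹) ^ k ^ n := by rw [ih, conj_pow]
      _ = x ^ k ^ (n + 1) := by rw [h, ← pow_mul, pow_succ']

end NormalizerMem

variable {G : Type u} [Group G] [Fintype G] [IsSimpleGroup G] (hG : Nat.card G = ord)
include hG

/-- An embedding in degree twenty-three. -/
theorem exists_deg : ∃ φ : G →* Equiv.Perm (ZMod 23), Function.Injective φ := by
  classical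
  obtain ⟨T⟩ := exists_table hG
  obtain ⟨X, hX⟩ := exists_index hG T
  let e : G ⧸ X ≃ ZMod 23 := Fintype.equivOfCardEq (by
    rw [ZMod.card, ← Nat.card_eq_fintype_card]; exact hX)
  let φ : G →* Equiv.Perm (ZMod 23) :=
    e.permCongrHom.toMonoidHom.comp (MulAction.toPermHom G (G ⧸ X))
  refine ⟨φ, ?_⟩
  rw [← MonoidHom.ker_eq_bot_iff]
  refine (IsSimpleGroup.eq_bot_or_eq_top_of_normal _ inferInstance).resolve_right fun htop => ?_
  have : X = ⊤ := eq_top_iff.2 fun g _ => by
    have h1 : φ g = 1 := MonoidHom.mem_ker.1 (htop ▸ Subgroup.mem_top g)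
    have h2 : e (g • e.symm (e ((1 : G) : G ⧸ X))) = e ((1 : G) : G ⧸ X) :=
      Equiv.ext_iff.1 h1 (e ((1 : G) : G ⧸ X))
    rw [e.symm_apply_apply, e.apply_eq_iff_eq] at h2
    change ((g * 1 : G) : G ⧸ X) = ((1 : G) : G ⧸ X) at h2
    rw [mul_one, QuotientGroup.eq, mul_one, inv_mem_iff] at h2
    exact h2
  rw [this, Subgroup.index_top] at hX
  omega

/-- The translation is in the image. -/
theorem exists_sigma : ∃ φ : G →* Equiv.Perm (ZMod 23), Function.Injective φ ∧
    ∃ s : G, orderOf s = 23 ∧ φ s = sigma23 := by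
  classical
  obtain ⟨φ₀, hφ₀⟩ := exists_deg hG
  obtain ⟨s, hs⟩ := exists_prime_orderOf_dvd_card' (G := G) 23 (by rw [hG]; norm_num [ord])
  have hcyc : ∀ p : Equiv.Perm (ZMod 23), orderOf p = 23 → p.IsCycle ∧ p.support.card = 23 :=
    fun p hp => by
      have hc : p.IsCycle := Equiv.Perm.isCycle_of_prime_order' (by rw [hp]; norm_num)
        (by rw [hp, ZMod.card]; norm_num)
      exact ⟨hc, hc.orderOf.symm.trans hp⟩
  have hσ : orderOf sigma23 = 23 := orderOf_eq_prime
    (Equiv.ext fun x => by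
      rw [sigma23_pow, ZMod.natCast_self, add_zero]
      rfl)
    fun h => absurd (Equiv.ext_iff.1 h 0) (by decide)
  obtain ⟨hc, hcard⟩ := hcyc (φ₀ s) (by rw [orderOf_injective φ₀ hφ₀, hs])
  obtain ⟨hc', hcard'⟩ := hcyc sigma23 hσ
  obtain ⟨π, hπ⟩ := isConj_iff.1 (hc.isConj hc' (hcard.trans hcard'.symm))
  exact ⟨(MulAut.conj π).toMonoidHom.comp φ₀, (MulAut.conj π).injective.comp hφ₀, s, hs, hπ⟩

/-- The doubling is in the image. -/
theorem exists_mu : ∃ φ : G →* Equiv.Perm (ZMod 23), Function.Injective φ ∧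
    ∃ s m : G, φ s = sigma23 ∧ φ m = mu23 := by
  classical
  obtain ⟨φ, hφ, s, hs, hσ⟩ := exists_sigma hG
  refine ⟨φ, hφ, s, ?_⟩
  have hN := card_normalizer_big hG (p := 23) (Or.inr rfl) hs
  rw [if_neg (by norm_num)] at hN
  obtain ⟨⟨u, hu⟩, hu'⟩ := exists_prime_orderOf_dvd_card'
    (G := normalizer (zpowers s : Set G)) 11 (by rw [hN]; norm_num)
  rw [Subgroup.orderOf_mk] at hu'
  obtain ⟨k, hk⟩ : ∃ k : ℕ, s ^ k = u * s * u⁻¹ := by
    have := (mem_normalizer_iff.1 hu s).1 (mem_zpowers s)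
    exact mem_powers_iff_mem_zpowers.2 this
  have haff : ∀ x : ZMod 23, φ u (x + 1) = φ u x + k := by
    intro x
    have h := congrArg (fun g => φ g x) (show u * s = s ^ k * u by rw [hk]; group)
    simp only [map_mul, map_pow, hσ, Equiv.Perm.mul_apply, sigma23_pow] at h
    exact h
  have hlin : ∀ x : ZMod 23, φ u x = φ u 0 + k * x := by
    have key : ∀ n : ℕ, φ u (n : ZMod 23) = φ u 0 + k * n := fun n => by
      induction n with
      | zero => simp
      | succ n ih => rw [Nat.cast_succ, haff, ih, mul_add, mul_one, add_assoc]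
    intro x
    rw [← ZMod.natCast_zmod_val x]
    exact key _
  have h11 : φ u ^ 11 = 1 := by rw [← map_pow, ← hu', pow_orderOf_eq_one, map_one]
  have hk11 : (k : ZMod 23) ^ 11 = 1 := by
    have key : ∀ (n : ℕ) (x : ZMod 23),
        (φ u ^ n) x = (φ u ^ n) 0 + (k : ZMod 23) ^ n * x := by
      intro n
      induction n with
      | zero => simp
      | succ n ih =>
        intro x
        rw [pow_succ', Equiv.Perm.mul_apply, Equiv.Perm.mul_apply, hlin, ih x,
          hlin ((φ u ^ n) 0), pow_succ']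
        ring
    have := key 11 1
    rw [h11] at this
    simpa using this.symm
  have hk1 : (k : ZMod 23) ≠ 1 := by
    intro hk1
    have key : ∀ n : ℕ, (φ u ^ n) 0 = n * φ u 0 := fun n => by
      induction n with
      | zero => simp
      | succ n ih =>
        rw [pow_succ', Equiv.Perm.mul_apply, hlin, ih, hk1, Nat.cast_succ]
        ring
    have h0 := key 11
    rw [h11, Equiv.Perm.one_apply] at h0
    have ha : φ u 0 = 0 := (mul_eq_zero.1 h0.symm).resolve_left (by decide)
    have : φ u = 1 := Equiv.ext fun x => by rw [hlin, ha, hk1, zero_add, one_mul]; rfl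
    rw [hφ (this.trans (map_one φ).symm), orderOf_one] at hu'
    omega
  obtain ⟨i, hi⟩ : ∃ i : ℕ, (i : ZMod 23) * ((k : ZMod 23) - 1) = φ u 0 :=
    ⟨((φ u 0 / ((k : ZMod 23) - 1))).val, by
      rw [ZMod.natCast_zmod_val, div_mul_cancel₀]
      exact sub_ne_zero.2 hk1⟩
  obtain ⟨v, hv⟩ : ∃ v, v = s ^ i * u * (s ^ i)⁻¹ := ⟨_, rfl⟩
  have hvx : ∀ x, φ v x = k * x := by
    intro x
    have hinv : (φ (s ^ i))⁻¹ x = x - i := by
      rw [Equiv.Perm.inv_eq_iff_eq, map_pow, hσ, sigma23_pow]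
      ring
    rw [hv, map_mul, map_mul, map_inv, Equiv.Perm.mul_apply, Equiv.Perm.mul_apply, hinv, hlin,
      map_pow, hσ, sigma23_pow, ← hi]
    ring
  obtain ⟨j, hj⟩ := slope_log _ hk11 hk1
  refine ⟨v ^ (j : ℕ), hσ, Equiv.ext fun x => ?_⟩
  have key : ∀ n : ℕ, (φ v ^ n) x = (k : ZMod 23) ^ n * x := fun n => by
    induction n with
    | zero => simp
    | succ n ih => rw [pow_succ', Equiv.Perm.mul_apply, ih, hvx, pow_succ', mul_assoc]
  rw [map_pow, key, hj]
  rfl

/-- An element of the third shape is in the image. -/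
theorem exists_tau : ∃ φ : G →* Equiv.Perm (ZMod 23), Function.Injective φ ∧
    ∃ (s m t : G) (c : ZMod 23), φ s = sigma23 ∧ φ m = mu23 ∧ c ^ 11 = 1 ∧
      ⇑(φ t) = tauFun c := by
  classical
  obtain ⟨φ, hφ, s, m, hσ, hμ⟩ := exists_mu hG
  refine ⟨φ, hφ, s, m, ?_⟩
  have hm : orderOf m = 11 := by
    rw [← orderOf_injective φ hφ, hμ]
    exact orderOf_eq_prime (Equiv.ext (by decide +kernel))
      fun h => absurd (Equiv.ext_iff.1 h 1) (by decide)
  have hN := card_normalizer_big hG (p := 11) (Or.inl rfl) hm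
  rw [if_pos rfl] at hN
  obtain ⟨⟨r, hr⟩, hr'⟩ := exists_prime_orderOf_dvd_card'
    (G := normalizer (zpowers m : Set G)) 5 (by rw [hN]; norm_num)
  rw [Subgroup.orderOf_mk] at hr'
  obtain ⟨k, hk⟩ : ∃ k : ℕ, m ^ k = r * m * r⁻¹ := by
    have := (mem_normalizer_iff.1 hr m).1 (mem_zpowers m)
    exact mem_powers_iff_mem_zpowers.2 this
  have hk' : r * m * r⁻¹ = m ^ (k % 11) := by rw [← hk, ← hm, pow_mod_orderOf]
  have hk5 : (k % 11) ^ 5 % 11 = 1 := by
    have h := conj_pow_eq hk' 5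
    rw [← hr', pow_orderOf_eq_one, one_mul, inv_one, mul_one, hr'] at h
    have h' : m ^ 1 = m ^ ((k % 11) ^ 5) := by rw [pow_one]; exact h
    rw [pow_eq_pow_iff_modEq, hm] at h'
    exact h'.symm
  have hk1 : k % 11 ≠ 1 := by
    intro e
    rw [e, pow_one, mul_inv_eq_iff_eq_mul] at hk'
    have hd := Subgroup.orderOf_dvd_natCard (Subgroup.centralizer ({m} : Set G)) (x := r)
      (Subgroup.mem_centralizer_singleton_iff.2 hk')
    rw [cent_eleven hG hm, hr'] at hd
    norm_num at hd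
  obtain ⟨n, hn⟩ := five_log ⟨k % 11, Nat.mod_lt _ (by norm_num)⟩ hk5 hk1
  have hrel : r ^ (n : ℕ) * m = m ^ 3 * r ^ (n : ℕ) := by
    have h := conj_pow_eq hk' (n : ℕ)
    rw [← mul_inv_eq_iff_eq_mul, h, ← pow_mod_orderOf, hm]
    exact congrArg (m ^ ·) hn
  obtain ⟨g, hg⟩ : ∃ g : ZMod 23 → ZMod 23, g = ⇑(φ (r ^ (n : ℕ))) := ⟨_, rfl⟩
  have h8 : ∀ x, g (2 * x) = 8 * g x := fun x => by
    have h := congrArg (fun z => φ z x) hrel
    simp only [map_mul, Equiv.Perm.mul_apply, map_pow, hμ] at h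
    rw [mu23_pow] at h
    rw [hg, map_pow]
    norm_num at h
    exact h
  have hinj : Function.Injective g := by rw [hg]; exact Equiv.injective _
  have h0 : g 0 = 0 := by
    have h := h8 0
    rw [mul_zero] at h
    exact (mul_eq_zero.1 (show (7 : ZMod 23) * g 0 = 0 by linear_combination -h)).resolve_left
      (by decide)
  have h5 : g^[5] 1 = 1 := by
    have hr5 : r ^ 5 = 1 := hr' ▸ pow_orderOf_eq_one r
    rw [hg, ← Equiv.Perm.coe_pow, ← map_pow, ← pow_mul, mul_comm, pow_mul, hr5, one_pow, map_one φ]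
    rfl
  obtain ⟨j, hj⟩ := exists_scale h0 h8 hinj h5
  obtain ⟨g', hg'⟩ : ∃ g' : ZMod 23 → ZMod 23, g' = fun x => 2 ^ j * g x := ⟨_, rfl⟩
  have hne : (2 : ZMod 23) ^ j ≠ 0 := pow_ne_zero _ (by decide)
  obtain ⟨hc, hfun⟩ := eq_tauFun (g := g') (by simp [hg', h0])
    (fun x => by simp only [hg', h8]; ring)
    (fun a b hab => hinj (mul_left_cancel₀ hne (by simpa [hg'] using hab)))
    (by simp [hg', hj])
  refine ⟨m ^ j * r ^ (n : ℕ), _, hσ, hμ, hc, ?_⟩
  rw [← hfun, hg', hg]
  funext x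
  rw [map_mul, Equiv.Perm.mul_apply, map_pow φ m, hμ, mu23_pow]

omit [IsSimpleGroup G] in
/-- The orders of the elements divide the order of the group. -/
theorem kill {φ : G →* Equiv.Perm (ZMod 23)} (hφ : Function.Injective φ) {w : G}
    {f : ZMod 23 → ZMod 23} (hw : ⇑(φ w) = f) (o g : ℕ) (hgcd : Nat.gcd o ord = g)
    (h1 : ∀ x, ∃ d : Fin 24, (d : ℕ) ∣ o ∧ f^[d] x = x) (h2 : ∃ x, f^[g] x ≠ x) : False := by
  have ho : w ^ o = 1 := hφ (Equiv.ext fun x => by
    rw [map_pow, Equiv.Perm.coe_pow, hw, map_one]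
    obtain ⟨d, ⟨k, hk⟩, hd⟩ := h1 x
    rw [hk, Function.iterate_mul, Function.iterate_fixed hd]
    rfl)
  have hdvd : orderOf w ∣ g :=
    hgcd ▸ Nat.dvd_gcd (orderOf_dvd_of_pow_eq_one ho) (hG ▸ orderOf_dvd_natCard w)
  obtain ⟨x, hx⟩ := h2
  refine hx ?_
  rw [← hw, ← Equiv.Perm.coe_pow, ← map_pow, orderOf_dvd_iff_pow_eq_one.1 hdvd, map_one]
  rfl

/-- Two of the candidates remain. -/
theorem exists_two_cases : ∃ φ : G →* Equiv.Perm (ZMod 23), Function.Injective φ ∧
    ∃ (s m t : G), φ s = sigma23 ∧ φ m = mu23 ∧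
      (⇑(φ t) = tauFun 2 ∨ ⇑(φ t) = tauFun 12) := by
  classical
  obtain ⟨φ, hφ, s, m, t, c, hσ, hμ, hc, ht⟩ := exists_tau hG
  refine ⟨φ, hφ, s, m, t, hσ, hμ, ?_⟩
  have hw : ∀ i j : ℕ, ⇑(φ (s ^ i * t ^ j)) =
      fun x => (tauFun c)^[j] x + (i : ZMod 23) := by
    intro i j
    funext x
    rw [map_mul, Equiv.Perm.mul_apply, map_pow φ s, hσ, sigma23_pow, map_pow φ t,
      Equiv.Perm.coe_pow, ht]
  rcases tau_cases c hc with rfl | rfl | rfl | rfl | rfl | rfl | rfl | rfl | rfl | rfl | rfl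
  · exact (kill hG hφ (hw 4 2) 156 12 (by norm_num) (by decide +kernel) (by decide +kernel)).elim
  · exact Or.inl ht
  · exact (kill hG hφ (hw 4 3) 19 1 (by norm_num) (by decide +kernel) (by decide +kernel)).elim
  · exact (kill hG hφ (hw 3 1) 38 2 (by norm_num) (by decide +kernel) (by decide +kernel)).elim
  · exact (kill hG hφ (hw 1 1) 57 3 (by norm_num) (by decide +kernel) (by decide +kernel)).elim
  · exact (kill hG hφ (hw 1 2) 65 5 (by norm_num) (by decide +kernel) (by decide +kernel)).elim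
  · exact (kill hG hφ (hw 3 3) 65 5 (by norm_num) (by decide +kernel) (by decide +kernel)).elim
  · exact (kill hG hφ (hw 4 1) 57 3 (by norm_num) (by decide +kernel) (by decide +kernel)).elim
  · exact (kill hG hφ (hw 4 2) 273 21 (by norm_num) (by decide +kernel) (by decide +kernel)).elim
  · exact (kill hG hφ (hw 3 2) 57 3 (by norm_num) (by decide +kernel) (by decide +kernel)).elim
  · exact Or.inr ht

/-- The three generators are in the image. -/
theorem exists_gens : ∃ φ : G →* Equiv.Perm (ZMod 23), Function.Injective φ ∧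
    ∃ (s m t : G), φ s = sigma23 ∧ φ m = mu23 ∧ φ t = tau23 := by
  classical
  obtain ⟨φ, hφ, s, m, t, hσ, hμ, ht | ht⟩ := exists_two_cases hG
  · exact ⟨φ, hφ, s, m, t, hσ, hμ, DFunLike.coe_injective ht⟩
  refine ⟨(MulAut.conj (Equiv.neg (ZMod 23))).toMonoidHom.comp φ,
    (MulAut.conj _).injective.comp hφ, s⁻¹, m, m * t, ?_, ?_, ?_⟩
  all_goals
    refine Equiv.ext fun x => ?_
    show -(φ _ (-x)) = _
  · rw [map_inv, hσ, Equiv.Perm.inv_def]
    show -(-x - 1) = x + 1
    ring
  · rw [hμ]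
    show -(2 * -x) = 2 * x
    ring
  · rw [map_mul, Equiv.Perm.mul_apply, hμ, ht]
    show -(2 * tauFun 12 (-x)) = tauFun 2 x
    rw [← tau_mirror x]
    ring

/-- A subgroup containing the three generators is everything. -/
theorem top_of_gens {φ : G →* Equiv.Perm (ZMod 23)} (hφ : Function.Injective φ) {s m t : G}
    (hσ : φ s = sigma23) (hμ : φ m = mu23) (hτ : φ t = tau23) (L : Subgroup G)
    (hsL : s ∈ L) (hmL : m ∈ L) (htL : t ∈ L) : L = ⊤ := by
  classical
  have hs : orderOf s = 23 := by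
    rw [← orderOf_injective φ hφ, hσ]
    exact orderOf_eq_prime (Equiv.ext (by decide +kernel))
      fun h => absurd (Equiv.ext_iff.1 h 0) (by decide)
  have hm : orderOf m = 11 := by
    rw [← orderOf_injective φ hφ, hμ]
    exact orderOf_eq_prime (Equiv.ext (by decide +kernel))
      fun h => absurd (Equiv.ext_iff.1 h 1) (by decide)
  have ht : orderOf t = 5 := by
    rw [← orderOf_injective φ hφ, hτ]
    exact orderOf_eq_prime (Equiv.ext (by decide +kernel))
      fun h => absurd (Equiv.ext_iff.1 h (-1)) (by decide +kernel)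
  have hms : m * s * m⁻¹ = s ^ 2 := mul_inv_eq_iff_eq_mul.2 (hφ (Equiv.ext fun x => by
    simp only [map_mul, map_pow, hσ, hμ, Equiv.Perm.mul_apply, sigma23_pow]
    show 2 * (x + 1) = 2 * x + (2 : ℕ)
    push_cast
    ring))
  have htm : t * m * t⁻¹ = m ^ 3 := mul_inv_eq_iff_eq_mul.2 (hφ (Equiv.ext fun x => by
    simp only [map_mul, map_pow, hμ, hτ, Equiv.Perm.mul_apply, mu23_pow]
    exact tau23_relation x))
  have key : ∀ (p q : ℕ) [Fact p.Prime], p = 11 ∨ p = 23 → q.Prime → p ≠ q → ∀ x y : G, orderOf x = p →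
      orderOf y = q → x ∈ L → y ∈ L → (∃ k : ℕ, y * x * y⁻¹ = x ^ k) →
      Nat.card (normalizer (zpowers x : Set G)) = p * q →
      ∃ n, n % p = 1 ∧ n * (p * q) = Nat.card L := by
    intro p q _ hp11 hq hpq x y hx hy hxL hyL ⟨k, hk⟩ hN
    have hle : normalizer (zpowers x : Set G) ≤ L := by
      refine (Subgroup.eq_of_le_of_card_ge (H := normalizer (zpowers x : Set G) ⊓ L) inf_le_left
        ?_).ge.trans inf_le_right
      rw [hN]
      refine Nat.le_of_dvd Nat.card_pos ?_
      refine ((Nat.coprime_primes Fact.out hq).2 hpq).mul_dvd_of_dvd_of_dvd ?_ ?_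
      · exact hx ▸ Subgroup.orderOf_dvd_natCard _ ⟨le_normalizer (mem_zpowers x), hxL⟩
      · exact hy ▸ Subgroup.orderOf_dvd_natCard _ ⟨mem_normalizer_zpowers hk, hyL⟩
    have hxl : (zpowers x).subgroupOf L = zpowers (⟨x, hxL⟩ : L) := by
      have h := Subgroup.comap_map_eq_self_of_injective L.subtype_injective
        (zpowers (⟨x, hxL⟩ : L))
      rw [MonoidHom.map_zpowers] at h
      exact h
    have hcardN : Nat.card (normalizer ((zpowers (⟨x, hxL⟩ : L) : Subgroup L) : Set L)) = p * q := by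
      rw [← hxl, ← Subgroup.subgroupOf_normalizer_eq (zpowers_le.2 hxL),
        Nat.card_congr (Subgroup.subgroupOfEquivOfLe hle).toEquiv, hN]
    have hfac : (Nat.card L).factorization p = 1 := by
      have hp : p.Prime := Fact.out
      refine le_antisymm ?_ ((hp.dvd_iff_one_le_factorization Nat.card_pos.ne').1
        (hx ▸ Subgroup.orderOf_dvd_natCard L hxL))
      by_contra h
      push Not at h
      have h2 : p ^ 2 ∣ Nat.card G := ((hp.pow_dvd_iff_le_factorization Nat.card_pos.ne').2 h).trans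
        (card_subgroup_dvd_card L)
      rcases hp11 with rfl | rfl <;> rw [hG] at h2 <;> norm_num [ord] at h2
    let P : Sylow p L := Sylow.ofCard (zpowers ⟨x, hxL⟩)
      (by rw [Nat.card_zpowers, Subgroup.orderOf_mk, hx, hfac, pow_one])
    refine ⟨Nat.card (Sylow p L), ?_, ?_⟩
    · have := card_sylow_modEq_one p L
      rwa [Nat.ModEq, Nat.mod_eq_of_lt (Fact.out : p.Prime).one_lt] at this
    · rw [Sylow.card_eq_index_normalizer P, mul_comm, ← hcardN]
      exact Subgroup.card_mul_index _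
  obtain ⟨n₁, hn₁, hc₁⟩ := key 23 11 (Or.inr rfl) (by norm_num) (by norm_num) s m hs hm hsL hmL ⟨2, hms⟩
    (by rw [card_normalizer_big hG (Or.inr rfl) hs, if_neg (by norm_num)])
  obtain ⟨n₂, hn₂, hc₂⟩ := key 11 5 (Or.inl rfl) (by norm_num) (by norm_num) m t hm ht hmL htL ⟨3, htm⟩
    (by rw [card_normalizer_big hG (Or.inl rfl) hm, if_pos rfl])
  by_contra hne
  have hL : Nat.card L ∣ 1265 * 8064 := by
    have := card_subgroup_dvd_card L
    rwa [hG] at this
  obtain ⟨k, hk⟩ : 1265 ∣ Nat.card L := by omega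
  have hk8 : k ∣ 8064 := Nat.dvd_of_mul_dvd_mul_left (show 0 < 1265 by norm_num) (hk ▸ hL)
  have hidx : 23 ≤ L.index := (Nat.Prime.dvd_factorial Fact.out).1
    ((show (23 : ℕ) ∣ 2 * Nat.card G by rw [hG]; norm_num [ord]).trans
      (SmallOrder.two_mul_card_dvd (not_comm hG) L hne))
  have hmul := L.card_mul_index
  rw [hk, hG] at hmul
  have h1 : n₁ = 5 * k := by omega
  have h2 : n₂ = 23 * k := by omega
  refine index_arith hk8 ?_ (h1 ▸ hn₁) (h2 ▸ hn₂)
  have := Nat.mul_le_mul_left (1265 * k) hidx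
  rw [hmul] at this
  norm_num [ord] at this
  omega

/-- The image in normal form. -/
theorem normal_form : ∃ φ : G →* Equiv.Perm (ZMod 23), Function.Injective φ ∧
    φ.range = Subgroup.closure {sigma23, mu23, tau23} := by
  obtain ⟨φ, hφ, s, m, t, hσ, hμ, hτ⟩ := exists_gens hG
  refine ⟨φ, hφ, ?_⟩
  have h := top_of_gens hG hφ hσ hμ hτ (Subgroup.closure {s, m, t})
    (Subgroup.subset_closure (by simp)) (Subgroup.subset_closure (by simp))
    (Subgroup.subset_closure (by simp))
  rw [MonoidHom.range_eq_map, ← h, MonoidHom.map_closure, Set.image_insert_eq,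
    Set.image_insert_eq, Set.image_singleton, hσ, hμ, hτ]

omit hG in
/-- Any two simple groups of order 10200960 are isomorphic. -/
theorem unique_ord {K : Type*} [Group K] [Fintype K] [IsSimpleGroup K] (hG : Nat.card G = ord)
    (hK : Nat.card K = ord) : Nonempty (G ≃* K) := by
  obtain ⟨φ, hφ, hφr⟩ := normal_form hG
  obtain ⟨ψ, hψ, hψr⟩ := normal_form hK
  exact ⟨((MonoidHom.ofInjective hφ).trans (MulEquiv.subgroupCongr (hφr.trans hψr.symm))).trans
    (MonoidHom.ofInjective hψ).symm⟩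

end Cfsg.Agent.Fg24.M23
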