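import Cfsg.Agent.Fg24.M23.Point

/-!
# A subgroup of index twenty-three
-/

set_option autoImplicit false
set_option linter.unusedSectionVars false

namespace Cfsg.Agent.Fg24.M23

open Cfsg Cfsg.Agent Subgroup

universe u

variable {G : Type u} [Group G] [Fintype G] [IsSimpleGroup G] (hG : Nat.card G = ord)
variable [Fact (Nat.Prime 11)] [Fact (Nat.Prime 23)] [Fact (Nat.Prime 5)] [Fact (Nat.Prime 7)]
include hG

theorem card_normalizer_big {p : ℕ} [Fact p.Prime] (hp : p = 11 ∨ p = 23) {x : G}
    (hx : orderOf x = p) :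
    Nat.card (normalizer (zpowers x : Set G)) = if p = 11 then 55 else 253 := by
  obtain ⟨P, hP, hne⟩ := exists_sylow_mem hx
  rcases hp with rfl | rfl
  · obtain ⟨hS, hC⟩ := eleven hG P
    have h := hS.card_normalizer
    rw [hC] at h
    rw [if_pos rfl, show ((zpowers x : Subgroup G) : Set G) = (P : Set G) from
      congrArg (fun K : Subgroup G => (K : Set G)) (hS.zpowers_eq hP hne)]
    exact h
  · obtain ⟨hS, hC⟩ := twentythree hG P
    have h := hS.card_normalizer
    rw [hC] at h
    rw [if_neg (by norm_num), show ((zpowers x : Subgroup G) : Set G) = (P : Set G) from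
      congrArg (fun K : Subgroup G => (K : Set G)) (hS.zpowers_eq hP hne)]
    exact h

/-- The number of Sylow subgroups of a subgroup, from an element of large prime order. -/
theorem sylow_in {p : ℕ} [Fact p.Prime] (hp : p = 11 ∨ p = 23) (X : Subgroup G)
    (hpX : p ∣ Nat.card X) :
    ∃ n m : ℕ, n % p = 1 ∧ n * m = Nat.card X ∧ p ∣ m ∧ m ∣ if p = 11 then 55 else 253 := by
  classical
  obtain ⟨x, hx⟩ := exists_prime_orderOf_dvd_card' (G := X) p hpX
  have hp2 : ¬ p * p ∣ Nat.card X := by
    intro h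
    have := h.trans (card_subgroup_dvd_card X)
    rw [hG] at this
    rcases hp with rfl | rfl <;> norm_num [ord] at this
  have hfac : (Nat.card X).factorization p = 1 := by
    have hp' : p.Prime := Fact.out
    refine le_antisymm ?_ ((hp'.dvd_iff_one_le_factorization Nat.card_pos.ne').1 hpX)
    by_contra h
    push Not at h
    exact hp2 (sq p ▸ (hp'.pow_dvd_iff_le_factorization Nat.card_pos.ne').2 h)
  let P : Sylow p X := Sylow.ofCard (zpowers x) (by rw [Nat.card_zpowers, hx, hfac, pow_one])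
  refine ⟨Nat.card (Sylow p X), Nat.card (normalizer ((P : Subgroup X) : Set X)), ?_, ?_, ?_, ?_⟩
  · have := card_sylow_modEq_one p X
    rwa [Nat.ModEq, Nat.mod_eq_of_lt (Fact.out : p.Prime).one_lt] at this
  · rw [Sylow.card_eq_index_normalizer P, mul_comm]
    exact Subgroup.card_mul_index _
  · have := Subgroup.orderOf_dvd_natCard (normalizer ((P : Subgroup X) : Set X))
      (x := x) (le_normalizer (mem_zpowers x))
    rwa [hx] at this
  · rw [← card_normalizer_big hG hp (x := (x : G)) (by rw [Subgroup.orderOf_coe]; exact hx),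
      ← card_map_of_injective X.subtype_injective]
    refine card_dvd_of_le ?_
    rintro _ ⟨c, hc, rfl⟩
    refine mem_normalizer_iff.2 fun v => ?_
    have hmap : ∀ w : X, w ∈ zpowers x ↔ (w : G) ∈ zpowers (x : G) := fun w => by
      simp only [mem_zpowers_iff]
      exact ⟨fun ⟨i, hi⟩ => ⟨i, by rw [← hi]; rfl⟩, fun ⟨i, hi⟩ => ⟨i, Subtype.ext hi⟩⟩
    constructor
    · intro hv
      have hvX : v ∈ X := (zpowers_le.2 x.2) hv
      exact (hmap _).1 ((mem_normalizer_iff.1 hc ⟨v, hvX⟩).1 ((hmap _).2 hv))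
    · intro hv
      have hvX : v ∈ X := by
        have := X.mul_mem (X.mul_mem (X.inv_mem c.2) ((zpowers_le.2 x.2) hv)) c.2
        simpa [mul_assoc] using this
      exact (hmap _).1 ((mem_normalizer_iff.1 hc ⟨v, hvX⟩).2 ((hmap _).2 hv))

variable (T : Table G)
include T

/-- There is a subgroup of index twenty-three. -/
theorem exists_index : ∃ X : Subgroup G, X.index = 23 := by
  classical
  obtain ⟨D⟩ := exists_nData hG T
  obtain ⟨g, X, hgN, hgg, h360, hfix, hXtop, hEX, hJX, hE'X⟩ := exists_big_stab hG T D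
  refine ⟨X, ?_⟩
  set J := D.meet g with hJ
  set H := D.E ⊔ J with hH
  have hJn : J ≤ normalizer (D.E : Set G) := inf_le_left
  have hHc : Nat.card H = 5760 := by
    have hm := S0606.card_sup_mul_card_inf_of_le_normalizer hJn
    have hinf : Nat.card (J ⊓ D.E : Subgroup G) = 1 := by
      refine Nat.eq_one_of_dvd_one (hfix ▸ card_dvd_of_le ?_)
      exact fun z hz => ⟨hz.2, hz.1.2⟩
    rw [hinf, h360, D.card, mul_one, sup_comm] at hm
    rw [hH, hm]
  have hHN : H ≤ D.N := sup_le D.le_N inf_le_left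
  have hHX : H ≤ X := sup_le hEX hJX
  have hE'N : ∀ e ∈ D.E, g * e * g⁻¹ ∈ D.N → e = 1 := by
    intro e he h
    have hm : e ∈ D.fixE g := ⟨he, mem_conj_iff.2 (by
      have := mul_mem (mul_mem (inv_mem hgg) h) hgg
      simpa [mul_assoc] using this)⟩
    rw [eq_bot_of_card_eq _ hfix] at hm
    exact hm
  have hnot : ¬ X ≤ D.N := fun h => by
    have hne : D.E ≠ ⊥ := fun e => by
      have := D.card
      rw [e, card_bot] at this
      omega
    obtain ⟨⟨e, he⟩, he1⟩ := (Subgroup.ne_bot_iff_exists_ne_one (H := D.E)).1 hne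
    exact he1 (Subtype.ext (hE'N e he (h (hE'X ⟨e, he, rfl⟩))))
  obtain ⟨k, hk⟩ := card_dvd_of_le hHX
  rw [hHc] at hk
  have hmul := X.card_mul_index
  rw [hG, hk] at hmul
  have hkd : k * X.index = 1771 := by
    simp only [ord] at hmul
    exact Nat.eq_of_mul_eq_mul_left (show 0 < 5760 by norm_num) (by rw [← mul_assoc, hmul])
  have hk7 : k ≠ 7 := by
    rintro rfl
    apply hnot
    set HX := H.subgroupOf X with hHXdef
    have hidx : HX.index = 7 := by
      have := HX.card_mul_index
      rw [Nat.card_congr (subgroupOfEquivOfLe hHX).toEquiv, hHc, hk] at this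
      omega
    set C := HX.normalCore with hC
    have hC8 : 8 ≤ Nat.card C := by
      have h1 : C.index ∣ Nat.factorial 7 := by
        rw [hC, normalCore_eq_ker, index_ker, ← hidx, Subgroup.index_eq_card, ← Nat.card_perm]
        exact card_subgroup_dvd_card _
      have h2 := C.card_mul_index
      rw [hk] at h2
      have h3 := Nat.le_of_dvd (Nat.factorial_pos 7) h1
      rw [show Nat.factorial 7 = 5040 from rfl] at h3
      nlinarith
    have hCH : ∀ c ∈ C, (c : G) ∈ H := fun c hc => normalCore_le HX hc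
    have hall : ∀ e ∈ D.E, ∀ he : e ∈ X, (⟨e, he⟩ : X) ∈ C := by
      by_cases hex : ∃ e ∈ D.E, e ≠ 1 ∧ ∃ he : e ∈ X, (⟨e, he⟩ : X) ∈ C
      · obtain ⟨e₀, he₀, h1, he₀X, hc₀⟩ := hex
        intro e he heX
        by_cases he1 : e = 1
        · subst he1; exact one_mem C
        obtain ⟨j, hj, hje⟩ := meet_pts hG T D h360 he₀ h1 he he1
        have := (normalCore_normal HX).conj_mem _ hc₀ ⟨j, hJX hj⟩
        convert this using 1
        exact Subtype.ext hje.symm
      · exfalso
        push Not at hex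
        have hCbot : ∀ c ∈ C, c = 1 := by
          intro c hc
          have hcN : (c : G) ∈ D.N := hHN (hCH c hc)
          have hcE : (c : G) ∈ D.E := D.cent _ fun e he => by
            have hcom : (c : G) * e * (c : G)⁻¹ * e⁻¹ ∈ D.E :=
              mul_mem ((mem_normalizer_iff.1 hcN e).1 he) (inv_mem he)
            have hmem : (c * ⟨e, hEX he⟩ * c⁻¹ * ⟨e, hEX he⟩⁻¹ : X) ∈ C := by
              rw [mul_assoc c, mul_assoc c]
              exact mul_mem hc (by
                simpa [mul_assoc] using (normalCore_normal HX).conj_mem _ (inv_mem hc) ⟨e, hEX he⟩)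
            have h1 : (c : G) * e * (c : G)⁻¹ * e⁻¹ = 1 := by
              by_contra hne
              exact hex _ hcom hne (hEX hcom) hmem
            show (c : G) * e = e * c
            exact mul_inv_eq_iff_eq_mul.1 (mul_inv_eq_one.1 h1)
          by_contra hne
          exact hex _ hcE (fun h => hne (Subtype.ext h)) c.2 hc
        have hb : C = ⊥ := eq_bot_iff.2 fun c hc => Subgroup.mem_bot.2 (hCbot c hc)
        rw [hb, card_bot] at hC8
        omega
    intro x hx
    by_contra hxN
    have hle : D.E ≤ D.fixE x⁻¹ := by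
      intro e he
      refine ⟨he, mem_conj_iff.2 ?_⟩
      rw [inv_inv]
      exact hHN (hCH _ ((normalCore_normal HX).conj_mem _ (hall e he (hEX he)) ⟨x, hx⟩))
    have h16 := Nat.le_of_dvd Nat.card_pos (card_dvd_of_le hle)
    rw [D.card] at h16
    rcases meet_cases hG T D (g := x⁻¹) (fun h => hxN (inv_mem_iff.1 h)) with ⟨-, e⟩ | ⟨-, e⟩ <;>
      omega
  have hk1 : k ≠ 1 := by
    rintro rfl
    apply hnot
    rw [← eq_of_le_of_card_ge hHX (by rw [hk, hHc])]
    exact hHN
  have hk11 : k ≠ 11 := by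
    rintro rfl
    obtain ⟨n, m, hn, hnm, hm, hmd⟩ := sylow_in hG (p := 11) (Or.inl rfl) X
      (by rw [hk]; norm_num)
    rw [if_pos rfl] at hmd
    obtain ⟨j, rfl⟩ := hm
    have hj := Nat.le_of_dvd (by norm_num) hmd
    have : j ≤ 5 := by omega
    rw [hk] at hnm
    interval_cases j <;> omega
  have hk23 : k ≠ 23 := by
    rintro rfl
    obtain ⟨n, m, hn, hnm, hm, hmd⟩ := sylow_in hG (p := 23) (Or.inr rfl) X
      (by rw [hk]; norm_num)
    rw [if_neg (by norm_num)] at hmd
    obtain ⟨j, rfl⟩ := hm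
    have hj := Nat.le_of_dvd (by norm_num) hmd
    have : j ≤ 11 := by omega
    have hj' : j ∣ 11 := Nat.dvd_of_mul_dvd_mul_left (by norm_num) hmd
    rw [hk] at hnm
    rcases (Nat.Prime.eq_one_or_self_of_dvd (by norm_num) j hj') with rfl | rfl <;> omega
  have hsmall : 23 ≤ X.index := by
    by_contra hlt
    have hd := SmallOrder.two_mul_card_dvd (not_comm hG) X hXtop
    have h23 : 23 ∣ (X.index).factorial := Dvd.dvd.trans (by rw [hG]; norm_num [ord]) hd
    rw [Nat.Prime.dvd_factorial (by norm_num)] at h23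
    omega
  have hkm : k ∈ Nat.divisors 1771 := Nat.mem_divisors.2 ⟨⟨X.index, hkd.symm⟩, by norm_num⟩
  have hcases : k = 1 ∨ k = 7 ∨ k = 11 ∨ k = 23 ∨ k = 77 ∨ k = 161 ∨ k = 253 ∨ k = 1771 := by
    have key : ∀ z ∈ Nat.divisors 1771,
        z = 1 ∨ z = 7 ∨ z = 11 ∨ z = 23 ∨ z = 77 ∨ z = 161 ∨ z = 253 ∨ z = 1771 := by decide +kernel
    exact key k hkm
  rcases hcases with rfl | rfl | rfl | rfl | rfl | rfl | rfl | rfl <;> omega

end Cfsg.Agent.Fg24.M23
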