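import Cfsg.Agent.Fg24.M23.Centralizer
import Cfsg.Agent.S0606

/-!
# The normalizer of the subgroup of order sixteen
-/

set_option autoImplicit false
set_option linter.unusedSectionVars false

namespace Cfsg.Agent.Fg24.M23

open Cfsg.Agent Subgroup
open scoped Pointwise

universe u

variable {G : Type u} [Group G]

/-- Two elements outside a subgroup of index two multiply into it. -/
theorem mem_of_two_mul [Finite G] {I E : Subgroup G} (hle : I ≤ E)
    (hc : Nat.card E = 2 * Nat.card I) {a b : G} (ha : a ∈ E) (hb : b ∈ E) (ha' : a ∉ I)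
    (hb' : b ∉ I) : a * b ∈ I := by
  have hidx : (I.subgroupOf E).index = 2 := by
    have := (I.subgroupOf E).card_mul_index
    rw [Nat.card_congr (subgroupOfEquivOfLe hle).toEquiv, hc, mul_comm 2] at this
    exact Nat.eq_of_mul_eq_mul_left Nat.card_pos this
  exact (mul_mem_iff_of_index_two hidx (a := ⟨a, ha⟩) (b := ⟨b, hb⟩)).2
    ⟨fun h => absurd h ha', fun h => absurd h hb'⟩

/-- Three cosets generate. -/
theorem le_of_generators [Finite G] {I L E : Subgroup G} (hI : Nat.card I = 4) (hE : Nat.card E = 16)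
    (hIL : I ≤ L) (hLE : L ≤ E) {a b : G} (haa : a * a ∈ I) (ha : a ∈ L) (hb : b ∈ L) (ha' : a ∉ I)
    (hb' : b ∉ I) (hab : a * b ∉ I) : E ≤ L := by
  refine (eq_of_le_of_card_ge hLE ?_).ge
  have h1 := card_dvd_of_le hIL
  have h2 := card_dvd_of_le hLE
  rw [hI] at h1
  rw [hE] at h2 ⊢
  have hne : Nat.card L ≠ 4 := fun h => ha' ((eq_of_le_of_card_ge hIL (by rw [h, hI])) ▸ ha)
  have hne8 : Nat.card L ≠ 8 := fun h => hab (mem_of_two_mul hIL (by rw [h, hI]) ha hb ha' hb')
  have hle := Nat.le_of_dvd (by norm_num) h2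
  obtain ⟨k, hk⟩ := h1
  rw [hk] at h2 hne hne8 hle ⊢
  have hk4 : k ≤ 4 := by omega
  interval_cases k <;> first | omega | norm_num at h2

/-- In a subgroup of order sixteen there is an element outside two cosets of a subgroup of
order four. -/
theorem exists_second [Finite G] {I E : Subgroup G} (hI : Nat.card I = 4) (hE : Nat.card E = 16)
    (hle : I ≤ E) : ∃ a ∈ E, a ∉ I ∧ ∃ b ∈ E, b ∉ I ∧ a * b ∉ I := by
  classical
  have := Fintype.ofFinite G
  have hc : ∀ K : Subgroup G, (Finset.univ.filter (· ∈ K)).card = Nat.card K := fun K => by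
    rw [Nat.card_eq_fintype_card, Fintype.card_subtype]
  obtain ⟨a, ha, ha'⟩ := Finset.exists_mem_notMem_of_card_lt_card
    (s := Finset.univ.filter (· ∈ I)) (t := Finset.univ.filter (· ∈ E))
    (by rw [hc, hc, hI, hE]; norm_num)
  simp only [Finset.mem_filter, Finset.mem_univ, true_and] at ha ha'
  obtain ⟨b, hb, hb'⟩ := Finset.exists_mem_notMem_of_card_lt_card
    (s := Finset.univ.filter (fun x => x ∈ I) ∪ Finset.univ.filter (fun x => a * x ∈ I))
    (t := Finset.univ.filter (· ∈ E)) (by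
      refine lt_of_le_of_lt (Finset.card_union_le _ _) ?_
      have e : (Finset.univ.filter fun x => a * x ∈ I).card = Nat.card I := by
        rw [← hc I]
        exact Finset.card_equiv (Equiv.mulLeft a) (by simp)
      rw [e, hc, hc, hI, hE]; norm_num)
  simp only [Finset.mem_union, Finset.mem_filter, Finset.mem_univ, true_and, not_or] at hb hb'
  exact ⟨a, ha, ha', b, hb, hb'.1, hb'.2⟩

variable [Fintype G] [IsSimpleGroup G] (hG : Nat.card G = ord)
variable [Fact (Nat.Prime 11)] [Fact (Nat.Prime 23)] [Fact (Nat.Prime 5)] [Fact (Nat.Prime 7)]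
variable (T : Table G)
include hG T

theorem eSub_congr {s t : G} (h : s = t) (hs : orderOf s = 2) (ht : orderOf t = 2) :
    eSub hG T s hs = eSub hG T t ht := by subst h; rfl

theorem eSub_conj {t : G} (ht : orderOf t = 2) (g : G) (hgt : orderOf (g * t * g⁻¹) = 2) :
    (eSub hG T t ht).map (MulAut.conj g).toMonoidHom = eSub hG T (g * t * g⁻¹) hgt := by
  have hE := eSub_spec hG T ht
  refine eSub_unique hG T hgt ⟨t, hE.mem, rfl⟩ ?_ (by
    rw [card_map_of_injective (MulAut.conj g).injective, hE.card]) ?_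
  · rintro _ ⟨x, hx, rfl⟩
    rw [mem_centralizer_singleton_iff]
    show g * x * g⁻¹ * (g * t * g⁻¹) = g * t * g⁻¹ * (g * x * g⁻¹)
    calc g * x * g⁻¹ * (g * t * g⁻¹) = g * (x * t) * g⁻¹ := by group
      _ = g * (t * x) * g⁻¹ := by rw [mem_centralizer_singleton_iff.1 (hE.le hx)]
      _ = g * t * g⁻¹ * (g * x * g⁻¹) := by group
  · rintro h hh _ ⟨x, hx, rfl⟩
    refine ⟨(g⁻¹ * h * g) * x * (g⁻¹ * h * g)⁻¹, hE.conj _ ?_ x hx, ?_⟩
    · rw [mem_centralizer_singleton_iff] at hh ⊢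
      calc g⁻¹ * h * g * t = g⁻¹ * (h * (g * t * g⁻¹)) * g := by group
        _ = g⁻¹ * (g * t * g⁻¹ * h) * g := by rw [hh]
        _ = t * (g⁻¹ * h * g) := by group
    · show g * _ * g⁻¹ = h * (g * x * g⁻¹) * h⁻¹
      group

/-- The common centralizer of an involution and a member of its subgroup is large. -/
theorem le_card_inf {u v : G} (hu : orderOf u = 2) (hv : v ∈ eSub hG T u hu) (hv1 : v ≠ 1)
    (hvu : v ≠ u) :
    192 ≤ Nat.card (centralizer ({u} : Set G) ⊓ centralizer ({v} : Set G) : Subgroup G) := by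
  classical
  set H := centralizer ({u} : Set G) with hH
  have hE := eSub_spec hG T hu
  set E := eSub hG T u hu with hEdef
  set D := (centralizer ({v} : Set G)).subgroupOf H with hD
  let f : H ⧸ D → {x : G // x ∈ E ∧ x ≠ 1 ∧ x ≠ u} := Quotient.lift
    (fun h : H => ⟨(h : G) * v * (h : G)⁻¹, hE.conj _ h.2 v hv,
      fun e => hv1 (conj_eq_one_iff.1 e), fun e => hvu (by
        calc v = (h : G)⁻¹ * ((h : G) * v * (h : G)⁻¹) * (h : G) := by group
          _ = (h : G)⁻¹ * (u * (h : G)) := by rw [e]; group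
          _ = u := by rw [← mem_centralizer_singleton_iff.1 h.2, inv_mul_cancel_left])⟩)
    (fun a b hab => Subtype.ext (by
      have h := QuotientGroup.leftRel_apply.1 hab
      rw [hD, mem_subgroupOf, mem_centralizer_singleton_iff] at h
      show (a : G) * v * (a : G)⁻¹ = (b : G) * v * (b : G)⁻¹
      calc (a : G) * v * (a : G)⁻¹
          = (a : G) * (v * ((a⁻¹ * b : H) : G)) * (b : G)⁻¹ := by push_cast; group
        _ = (a : G) * (((a⁻¹ * b : H) : G) * v) * (b : G)⁻¹ := by rw [h]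
        _ = (b : G) * v * (b : G)⁻¹ := by push_cast; group))
  have hf : Function.Injective f := by
    intro q r
    induction q using Quotient.inductionOn with | _ a =>
    induction r using Quotient.inductionOn with | _ b =>
    intro e
    apply Quotient.sound
    refine QuotientGroup.leftRel_apply.2 ?_
    rw [hD, mem_subgroupOf, mem_centralizer_singleton_iff]
    have e' : (a : G) * v * (a : G)⁻¹ = (b : G) * v * (b : G)⁻¹ := congrArg Subtype.val e
    push_cast
    calc (a : G)⁻¹ * (b : G) * v = (a : G)⁻¹ * ((b : G) * v * (b : G)⁻¹) * (b : G) := by group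
      _ = (a : G)⁻¹ * ((a : G) * v * (a : G)⁻¹) * (b : G) := by rw [e']
      _ = v * ((a : G)⁻¹ * (b : G)) := by group
  have h14 : Nat.card {x : G // x ∈ E ∧ x ≠ 1 ∧ x ≠ u} = 14 := by
    rw [Nat.card_eq_fintype_card, Fintype.card_subtype]
    have e : (Finset.univ.filter fun x : G => x ∈ E ∧ x ≠ 1 ∧ x ≠ u) =
        (Finset.univ.filter (· ∈ E)) \ {1, u} := by
      ext x; simp
    rw [e, Finset.card_sdiff_of_subset (fun x hx => by
      simp only [Finset.mem_insert, Finset.mem_singleton] at hx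
      rcases hx with rfl | rfl <;> simp [one_mem, hE.mem]),
      Finset.card_pair (fun e => by rw [← e, orderOf_one] at hu; omega),
      ← Fintype.card_subtype, ← Nat.card_eq_fintype_card,
      show Nat.card {x : G // x ∈ E} = 16 from hE.card]
  have hi : D.index ≤ 14 := h14 ▸ Nat.card_le_card_of_injective f hf
  have hmul := D.card_mul_index
  have hDc : Nat.card D = Nat.card (H ⊓ centralizer ({v} : Set G) : Subgroup G) := by
    rw [← card_map_of_injective H.subtype_injective (K := D), hD, subgroupOf_map_subtype, inf_comm]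
  have hH2 : Nat.card H = 2688 := T.card_two u hu
  rw [hDc, hH2] at hmul
  by_contra hlt
  have := Nat.mul_le_mul (Nat.le_of_lt_succ (lt_of_lt_of_le (not_le.1 hlt) le_rfl : _ < 191 + 1)) hi
  omega

/-- The relation is symmetric. -/
theorem mem_eSub_symm {u v : G} (hu : orderOf u = 2) (hv : orderOf v = 2)
    (h : v ∈ eSub hG T u hu) : u ∈ eSub hG T v hv := by
  by_contra hne
  have hvu : v ≠ u := fun e => hne (by subst e; exact h)
  have h192 := le_card_inf hG T hu h (fun e => by rw [e, orderOf_one] at hv; omega) hvu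
  have hE := eSub_spec hG T hu
  have huu : u * u = 1 := by rw [← sq, ← hu, pow_orderOf_eq_one]
  have := (eSub_spec hG T hv).bound _ inf_le_right u
    (mem_centralizer_singleton_iff.2 (hE.comm u hE.mem v h).eq) hne (by rw [huu]; exact one_mem _)
    fun d hd => by
      rw [mem_centralizer_singleton_iff.1 hd.1, mul_inv_cancel_right, mul_inv_cancel]
      exact one_mem _
  omega

theorem inv_facts {u v : G} (hu : orderOf u = 2) (hv : orderOf v = 2) (huv : u ≠ v)
    (h : v ∈ eSub hG T u hu) (hne : eSub hG T u hu ≠ eSub hG T v hv) :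
    Nat.card (eSub hG T u hu ⊓ eSub hG T v hv : Subgroup G) = 4 ∧
      Nat.card (eSub hG T u hu ⊔ eSub hG T v hv : Subgroup G) = 64 := by
  classical
  set A := eSub hG T u hu
  set B := eSub hG T v hv
  have hA : IsE u A := eSub_spec hG T hu
  have hB : IsE v B := eSub_spec hG T hv
  have h192 := le_card_inf hG T hu h (fun e => by rw [e, orderOf_one] at hv; omega) (Ne.symm huv)
  set D := (centralizer ({u} : Set G) ⊓ centralizer ({v} : Set G) : Subgroup G)
  have huB : u ∈ B := mem_eSub_symm hG T hu hv h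
  have hAD : ∀ x ∈ A, x ∈ centralizer ({v} : Set G) := fun x hx =>
    mem_centralizer_singleton_iff.2 (hA.comm x hx v h).eq
  have hBC : B ≤ centralizer ({u} : Set G) := fun x hx =>
    mem_centralizer_singleton_iff.2 (hB.comm x hx u huB).eq
  have hI : 3 ≤ Nat.card (A ⊓ B : Subgroup G) := by
    have hsub : ({1, u, v} : Finset G) ⊆ Finset.univ.filter (· ∈ A ⊓ B) := by
      intro x hx
      simp only [Finset.mem_insert, Finset.mem_singleton] at hx
      rcases hx with rfl | rfl | rfl <;>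
        simp only [Finset.mem_filter, Finset.mem_univ, true_and]
      exacts [one_mem _, ⟨hA.mem, huB⟩, ⟨h, hB.mem⟩]
    have := Finset.card_le_card hsub
    rw [← Fintype.card_subtype, ← Nat.card_eq_fintype_card] at this
    refine le_trans (le_of_eq ?_) this
    rw [Finset.card_eq_three.2]
    exact ⟨1, u, v, fun e => by rw [← e, orderOf_one] at hu; omega,
      fun e => by rw [← e, orderOf_one] at hv; omega, huv, rfl⟩
  have hd := card_dvd_of_le (inf_le_left : A ⊓ B ≤ A)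
  rw [hA.card] at hd
  have h16 : Nat.card (A ⊓ B : Subgroup G) ≠ 16 := fun e => hne (by
    rw [← eq_of_le_of_card_ge (inf_le_left : A ⊓ B ≤ A) (by rw [e, hA.card]),
      eq_of_le_of_card_ge (inf_le_right : A ⊓ B ≤ B) (by rw [e, hB.card])])
  have h8 : Nat.card (A ⊓ B : Subgroup G) ≠ 8 := by
    intro e
    obtain ⟨x, hx, hx'⟩ : ∃ x ∈ A, x ∉ A ⊓ B := SetLike.exists_of_lt
      (lt_of_le_of_ne inf_le_left fun e' => h16 (by rw [e', hA.card]))
    have := hB.bound D inf_le_right x (hAD x hx) (fun hh => hx' ⟨hx, hh⟩)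
      (by rw [hA.sq x hx]; exact one_mem _) fun d hd => by
      have hdx : d * x * d⁻¹ ∈ A := hA.conj d hd.1 x hx
      refine (mem_of_two_mul inf_le_left (by rw [e, hA.card]) hdx (inv_mem hx) (fun hm => hx' ?_)
        fun hm => hx' (by simpa using inv_mem hm)).2
      have h1 := hA.conj d⁻¹ (inv_mem hd.1) _ hm.1
      have h2 := hB.conj d⁻¹ (inv_mem hd.2) _ hm.2
      rw [show d⁻¹ * (d * x * d⁻¹) * d⁻¹⁻¹ = x by group] at h1 h2
      exact ⟨h1, h2⟩
    omega
  have h4 : Nat.card (A ⊓ B : Subgroup G) = 4 := by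
    have := Nat.le_of_dvd (by norm_num) hd
    interval_cases Nat.card (A ⊓ B : Subgroup G) <;> omega
  refine ⟨h4, ?_⟩
  have hn : A ≤ normalizer (B : Set G) := by
    intro a ha
    refine mem_normalizer_iff.2 fun x => ⟨fun hx => hB.conj a (hAD a ha) x hx, fun hx => ?_⟩
    have := hB.conj a⁻¹ (inv_mem (hAD a ha)) _ hx
    rwa [show a⁻¹ * (a * x * a⁻¹) * a⁻¹⁻¹ = x by group] at this
  have := S0606.card_sup_mul_card_inf_of_le_normalizer hn
  rw [h4, hA.card, hB.card] at this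
  omega

/-- Two involutions have the same subgroup. -/
theorem exists_pair : ∃ (x y : G) (hx : orderOf x = 2) (hy : orderOf y = 2),
    x ≠ y ∧ eSub hG T x hx = eSub hG T y hy := by
  classical
  by_contra hno
  push Not at hno
  obtain ⟨u, hu⟩ := exists_prime_orderOf_dvd_card' (G := G) 2 (hp := ⟨Nat.prime_two⟩)
    (by rw [hG]; norm_num [ord])
  have hA : IsE u (eSub hG T u hu) := eSub_spec hG T hu
  have hu1 : u ≠ 1 := fun e => by rw [e, orderOf_one] at hu; omega
  obtain ⟨v, hvA, hv'⟩ := Finset.exists_mem_notMem_of_card_lt_card (s := ({1, u} : Finset G))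
    (t := Finset.univ.filter (· ∈ eSub hG T u hu)) (by
      rw [← Fintype.card_subtype, ← Nat.card_eq_fintype_card,
        show Nat.card {x : G // x ∈ eSub hG T u hu} = 16 from hA.card]
      exact lt_of_le_of_lt Finset.card_le_two (by norm_num))
  simp only [Finset.mem_insert, Finset.mem_singleton, not_or] at hv'
  replace hvA := (Finset.mem_filter.1 hvA).2
  have hv : orderOf v = 2 := orderOf_eq_prime (by rw [sq, hA.sq v hvA]) hv'.1
  have huv : u ≠ v := Ne.symm hv'.2
  have hw : orderOf (u * v) = 2 := orderOf_eq_prime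
    (by rw [sq, hA.sq _ (mul_mem hA.mem hvA)]) fun e => hv'.2 (by
      rw [mul_eq_one_iff_eq_inv] at e
      rw [e, inv_eq_of_mul_eq_one_right (hA.sq v hvA)])
  have huw : u ≠ u * v := fun e => hv'.1 (mul_eq_left.1 e.symm)
  have hvw : v ≠ u * v := fun e => hu1 (mul_eq_right.1 e.symm)
  set w := u * v with hwdef
  set A := eSub hG T u hu with hAdef
  set B := eSub hG T v hv with hBdef
  set E := eSub hG T w hw with hEdef
  have hB : IsE v B := eSub_spec hG T hv
  have hE : IsE w E := eSub_spec hG T hw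
  have huB : u ∈ B := mem_eSub_symm hG T hu hv hvA
  have hwA : w ∈ A := mul_mem hA.mem hvA
  have hwB : w ∈ B := mul_mem huB hB.mem
  have huE : u ∈ E := mem_eSub_symm hG T hu hw hwA
  have hvE : v ∈ E := mem_eSub_symm hG T hv hw hwB
  obtain ⟨hI4, hJ⟩ := inv_facts hG T hu hv huv hvA (hno u v hu hv huv)
  obtain ⟨hI4', hJ'⟩ := inv_facts hG T hw hv (Ne.symm hvw) hvE (hno w v hw hv (Ne.symm hvw))
  obtain ⟨hI4'', -⟩ := inv_facts hG T hu hw huw hwA (hno u w hu hw huw)
  set D := (centralizer ({u} : Set G) ⊓ centralizer ({v} : Set G) : Subgroup G) with hD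
  have h192 : 192 ≤ Nat.card D := le_card_inf hG T hu hvA hv'.1 hv'.2
  have hDw : ∀ d ∈ D, d ∈ centralizer ({w} : Set G) := fun d hd => by
    have e1 : Commute d u := mem_centralizer_singleton_iff.1 hd.1
    have e2 : Commute d v := mem_centralizer_singleton_iff.1 hd.2
    exact mem_centralizer_singleton_iff.2 (e1.mul_right e2).eq
  have hsubD : ∀ {K : Subgroup G}, u ∈ K → v ∈ K → (∀ x ∈ K, ∀ y ∈ K, Commute x y) → K ≤ D :=
    fun hk hk' hc x hx => ⟨mem_centralizer_singleton_iff.2 (hc x hx u hk).eq,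
      mem_centralizer_singleton_iff.2 (hc x hx v hk').eq⟩
  have hAD : A ≤ D := hsubD hA.mem hvA hA.comm
  have hBD : B ≤ D := hsubD huB hB.mem hB.comm
  have hED : E ≤ D := hsubD huE hvE hE.comm
  have hnorm : ∀ {K : Subgroup G}, (∀ d ∈ D, ∀ x ∈ K, d * x * d⁻¹ ∈ K) →
      D ≤ normalizer (K : Set G) := fun {K} hK d hd => mem_normalizer_iff.2 fun x =>
    ⟨hK d hd x, fun hx => by
      have := hK d⁻¹ (inv_mem hd) _ hx
      rwa [show d⁻¹ * (d * x * d⁻¹) * d⁻¹⁻¹ = x by group] at this⟩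
  have nA : D ≤ normalizer (A : Set G) := hnorm fun d hd => hA.conj d hd.1
  have nB : D ≤ normalizer (B : Set G) := hnorm fun d hd => hB.conj d hd.2
  have nE : D ≤ normalizer (E : Set G) := hnorm fun d hd => hE.conj d (hDw d hd)
  have nsup : ∀ {K L : Subgroup G}, D ≤ normalizer (K : Set G) → D ≤ normalizer (L : Set G) →
      D ≤ normalizer ((K ⊔ L : Subgroup G) : Set G) := fun {K L} hK hL d hd => by
    have hmap : ∀ {M : Subgroup G}, D ≤ normalizer (M : Set G) →
        M.map (MulAut.conj d).toMonoidHom = M := fun {M} hM => by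
      refine eq_of_le_of_card_ge (fun y ⟨z, hz, hzy⟩ => hzy ▸ (mem_normalizer_iff.1 (hM hd) z).1 hz)
        (le_of_eq (card_map_of_injective (MulAut.conj d).injective).symm)
    have h : (K ⊔ L).map (MulAut.conj d).toMonoidHom = K ⊔ L := by
      rw [Subgroup.map_sup, hmap hK, hmap hL]
    refine mem_normalizer_iff.2 fun x => ⟨fun hx => h.le ⟨x, hx, rfl⟩, fun hx => ?_⟩
    obtain ⟨z, hz, hzx⟩ := h.ge hx
    exact (MulAut.conj d).injective hzx ▸ hz
  -- the two subgroups of order 64 coincide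
  have hJeq : E ⊔ B = A ⊔ B := by
    have hle : E ⊔ B ≤ normalizer ((A ⊔ B : Subgroup G) : Set G) :=
      (sup_le hED hBD).trans (nsup nA nB)
    have hm := S0606.card_sup_mul_card_inf_of_le_normalizer hle
    rw [hJ', hJ] at hm
    obtain ⟨k, -, hk⟩ := (Nat.dvd_prime_pow Nat.prime_two).1
      (show Nat.card ((E ⊔ B) ⊓ (A ⊔ B) : Subgroup G) ∣ 2 ^ 12 from Dvd.intro_left _ hm)
    have hk6 : k ≤ 6 := by
      have := card_dvd_of_le (inf_le_left : (E ⊔ B) ⊓ (A ⊔ B) ≤ E ⊔ B)
      rw [hk, hJ', show (64 : ℕ) = 2 ^ 6 by norm_num, Nat.pow_dvd_pow_iff_le_right (by norm_num)] at this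
      exact this
    have hk5 : 5 ≤ k := by
      by_contra hlt
      have h1 := card_subgroup_dvd_card ((E ⊔ B) ⊔ (A ⊔ B))
      rw [hk] at hm
      have h2 : 256 ∣ Nat.card ((E ⊔ B) ⊔ (A ⊔ B) : Subgroup G) := by
        refine ⟨2 ^ (4 - k), Nat.eq_of_mul_eq_mul_right (pow_pos (by norm_num : 0 < 2) k) ?_⟩
        rw [hm, mul_assoc, ← pow_add, Nat.sub_add_cancel (by omega)]
        norm_num
      rw [hG] at h1
      have := h2.trans h1
      norm_num [ord] at this
    interval_cases k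
    · exfalso
      set K := (E ⊔ B) ⊓ (A ⊔ B) with hK
      have hBK : B ≤ K := le_inf le_sup_right le_sup_right
      have hKc : Nat.card K = 2 * Nat.card B := by rw [hk, hB.card]; norm_num
      have hKD : K ≤ D := inf_le_left.trans (sup_le hED hBD)
      obtain ⟨x, hx, hx'⟩ : ∃ x ∈ K, x ∉ B := SetLike.exists_of_lt
        (lt_of_le_of_ne hBK fun e => by rw [← e, hB.card] at hKc; omega)
      have := hB.bound D inf_le_right x (hKD hx).2 hx'
        (mem_of_two_mul hBK hKc hx hx hx' hx') fun d hd => by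
        refine mem_of_two_mul hBK hKc ⟨?_, ?_⟩ (inv_mem hx) (fun hm => hx' ?_)
          fun hm => hx' (by simpa using inv_mem hm)
        · exact (mem_normalizer_iff.1 (nsup nE nB hd) x).1 hx.1
        · exact (mem_normalizer_iff.1 (nsup nA nB hd) x).1 hx.2
        · exact (mem_normalizer_iff.1 (nB hd) x).2 hm
      omega
    · have h1 := eq_of_le_of_card_ge (inf_le_left : (E ⊔ B) ⊓ (A ⊔ B) ≤ E ⊔ B) (by rw [hk, hJ']; norm_num)
      exact eq_of_le_of_card_ge (inf_eq_left.1 h1) (by rw [hJ', hJ])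
  -- the common part
  set I := A ⊓ B with hI
  have hsubI : ∀ {K : Subgroup G}, u ∈ K → v ∈ K → Nat.card K = 4 → K = I := by
    intro K hk hk' hc
    have hin : ∀ {L : Subgroup G}, u ∈ L → v ∈ L → Nat.card L = 4 →
        (Finset.univ.filter (· ∈ L)) = ({1, u, v, w} : Finset G) := by
      intro L hl hl' hcL
      refine (Finset.eq_of_subset_of_card_le (fun x hx => ?_) ?_).symm
      · simp only [Finset.mem_insert, Finset.mem_singleton] at hx
        rcases hx with rfl | rfl | rfl | rfl <;>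
          simp only [Finset.mem_filter, Finset.mem_univ, true_and]
        exacts [one_mem _, hl, hl', mul_mem hl hl']
      · rw [← Fintype.card_subtype, ← Nat.card_eq_fintype_card,
          show Nat.card {x : G // x ∈ L} = 4 from hcL]
        rw [Finset.card_insert_of_notMem, Finset.card_insert_of_notMem, Finset.card_pair hvw]
        · simp [huv, huw]
        · simp only [Finset.mem_insert, Finset.mem_singleton, not_or]
          exact ⟨Ne.symm hu1, Ne.symm hv'.1, fun e => by rw [← e, orderOf_one] at hw; omega⟩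
    ext x
    have h1 := Finset.ext_iff.1 ((hin hk hk' hc).trans (hin (L := I) ⟨hA.mem, huB⟩ ⟨hvA, hB.mem⟩ hI4).symm) x
    simpa using h1
  have hEB : E ⊓ B = I := hsubI (K := E ⊓ B) ⟨huE, huB⟩ ⟨hvE, hB.mem⟩ hI4'
  have hAE : A ⊓ E = I := hsubI (K := A ⊓ E) ⟨hA.mem, huE⟩ ⟨hvA, hvE⟩ hI4''
  have hIE : I ≤ E := hEB ▸ inf_le_left
  -- partners
  have hpart : ∀ a ∈ A, ∃ b ∈ B, a * b ∈ E := by
    intro a ha
    have h : a ∈ ((E ⊔ B : Subgroup G) : Set G) := hJeq ▸ (le_sup_left : A ≤ A ⊔ B) ha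
    rw [coe_mul_of_left_le_normalizer_right E B (hED.trans nB)] at h
    obtain ⟨e, he, b, hb, heb⟩ := h
    refine ⟨b⁻¹, inv_mem hb, ?_⟩
    rw [← heb, mul_inv_cancel_right]
    exact he
  obtain ⟨a₁, ha₁, ha₁', a₂, ha₂, ha₂', ha₁₂⟩ := exists_second hI4 hA.card (inf_le_left : I ≤ A)
  obtain ⟨b₁, hb₁, he₁⟩ := hpart a₁ ha₁
  obtain ⟨b₂, hb₂, he₂⟩ := hpart a₂ ha₂
  have hb₁' : b₁ ∉ I := fun h => ha₁' (hAE.le ⟨ha₁, by
    simpa [mul_assoc] using E.mul_mem he₁ (E.inv_mem (hIE h))⟩)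
  have hb₂' : b₂ ∉ I := fun h => ha₂' (hAE.le ⟨ha₂, by
    simpa [mul_assoc] using E.mul_mem he₂ (E.inv_mem (hIE h))⟩)
  have hab : ∀ a ∈ A, ∀ b ∈ B, a * b ∈ E → Commute a b := fun a ha b hb he => by
    show a * b = b * a
    calc a * b = (a * b)⁻¹ := (inv_eq_of_mul_eq_one_right (hE.sq _ he)).symm
      _ = b * a := by rw [mul_inv_rev, inv_eq_of_mul_eq_one_right (hA.sq a ha),
        inv_eq_of_mul_eq_one_right (hB.sq b hb)]
  set c := b₁ * a₂ * b₁⁻¹ * a₂⁻¹ with hc
  have hcI : c ∈ I := by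
    refine ⟨A.mul_mem ((mem_normalizer_iff.1 (nA (hBD hb₁)) a₂).1 ha₂) (A.inv_mem ha₂), ?_⟩
    rw [hc, show b₁ * a₂ * b₁⁻¹ * a₂⁻¹ = b₁ * (a₂ * b₁⁻¹ * a₂⁻¹) by group]
    exact B.mul_mem hb₁ ((mem_normalizer_iff.1 (nB (hAD ha₂)) _).1 (B.inv_mem hb₁))
  have hcA : ∀ x ∈ A, Commute c x := fun x hx => hA.comm c hcI.1 x hx
  have hcB : ∀ x ∈ B, Commute c x := fun x hx => hB.comm c hcI.2 x hx
  have e11 := hab a₁ ha₁ b₁ hb₁ he₁
  have e22 := hab a₂ ha₂ b₂ hb₂ he₂
  have hconjB : b₁ * a₂ * b₁⁻¹ = a₂ * c := by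
    rw [← (hcA a₂ ha₂).eq, hc, inv_mul_cancel_right]
  have hL : a₁ * b₁ * (a₂ * b₂) = a₁ * a₂ * b₁ * b₂ * c := by
    calc a₁ * b₁ * (a₂ * b₂) = a₁ * (b₁ * a₂ * b₁⁻¹) * b₁ * b₂ := by group
      _ = a₁ * a₂ * (c * (b₁ * b₂)) := by rw [hconjB]; group
      _ = a₁ * a₂ * b₁ * b₂ * c := by rw [(hcB _ (mul_mem hb₁ hb₂)).eq]; group
  have hconjA : a₁ * b₂ * a₁⁻¹ = b₂ * c := by
    have h := (hE.comm _ he₁ _ he₂).eq
    have hR : a₂ * b₂ * (a₁ * b₁) = a₁ * a₂ * (a₁⁻¹ * b₂ * a₁) * b₁ := by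
      rw [(hA.comm a₁ ha₁ a₂ ha₂).eq]; group
    rw [hL, hR] at h
    have h2 : a₁⁻¹ * b₂ * a₁ = b₂ * c := by
      have h3 : b₁ * b₂ * c = a₁⁻¹ * b₂ * a₁ * b₁ := by
        refine mul_left_cancel (a := a₁ * a₂) ?_
        simpa [mul_assoc] using h
      calc a₁⁻¹ * b₂ * a₁ = a₁⁻¹ * b₂ * a₁ * b₁ * b₁⁻¹ := by group
        _ = b₁ * b₂ * c * b₁⁻¹ := by rw [h3]
        _ = b₂ * c * b₁ * b₁⁻¹ := by
          rw [(hB.comm b₁ hb₁ b₂ hb₂).eq, mul_assoc b₂ b₁ c, ← (hcB b₁ hb₁).eq, ← mul_assoc]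
        _ = b₂ * c := by group
    rwa [inv_eq_of_mul_eq_one_right (hA.sq a₁ ha₁),
      show a₁ * b₂ * a₁ = a₁ * b₂ * a₁⁻¹ by rw [inv_eq_of_mul_eq_one_right (hA.sq a₁ ha₁)]] at h2
  have hIc : ∀ x ∈ I, x = 1 ∨ x = u ∨ x = v ∨ x = w := by
    intro x hx
    have hsub : ({1, u, v, w} : Finset G) ⊆ Finset.univ.filter (· ∈ I) := by
      intro z hz
      simp only [Finset.mem_insert, Finset.mem_singleton] at hz
      rcases hz with rfl | rfl | rfl | rfl <;>
        simp only [Finset.mem_filter, Finset.mem_univ, true_and]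
      exacts [one_mem _, ⟨hA.mem, huB⟩, ⟨hvA, hB.mem⟩, ⟨hwA, hwB⟩]
    have heq := Finset.eq_of_subset_of_card_le hsub (by
      rw [← Fintype.card_subtype, ← Nat.card_eq_fintype_card,
        show Nat.card {x : G // x ∈ I} = 4 from hI4, Finset.card_insert_of_notMem,
        Finset.card_insert_of_notMem, Finset.card_pair hvw]
      · simp [huv, huw]
      · simp only [Finset.mem_insert, Finset.mem_singleton, not_or]
        exact ⟨Ne.symm hu1, Ne.symm hv'.1, fun e => by rw [← e, orderOf_one] at hw; omega⟩)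
    have : x ∈ ({1, u, v, w} : Finset G) := by rw [heq]; simpa using hx
    simpa using this
  -- a general form of the contradiction
  have main : ∀ {z : G} {Z : Subgroup G}, IsE z Z → I ≤ Z → z ∈ I → (c = 1 ∨ c = z) →
      ∀ {h p q : G}, h ∈ D → h ∈ centralizer ({z} : Set G) → (∀ x ∈ I, Commute h x) → p ∈ Z →
      q ∈ Z → p ∉ I → q ∉ I → p * q ∉ I → h * p * h⁻¹ = p → h * q * h⁻¹ = q * c → h ∈ Z := by
    intro z Z hZ hIZ hz hcz h p q _ hhz hhI hp hq hp' hq' hpq ep eq'
    refine hZ.faithful h hhz fun x hx => ?_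
    have hzz := hZ.sq z (hIZ hz)
    have hzc : ∀ x ∈ Z, Commute z x := fun x hx => hZ.comm z (hIZ hz) x hx
    let L : Subgroup G :=
      { carrier := {x | x ∈ Z ∧ (h * x * h⁻¹ = x ∨ h * x * h⁻¹ = x * z)}
        one_mem' := ⟨one_mem _, Or.inl (by simp)⟩
        mul_mem' := fun {x y} hx hy => ⟨mul_mem hx.1 hy.1, by
          have e : h * (x * y) * h⁻¹ = h * x * h⁻¹ * (h * y * h⁻¹) := by group
          rw [e]
          rcases hx.2 with e1 | e1 <;> rcases hy.2 with e2 | e2 <;> rw [e1, e2]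
          · exact Or.inl rfl
          · exact Or.inr (mul_assoc _ _ _).symm
          · exact Or.inr (by rw [mul_assoc, (hzc y hy.1).eq, ← mul_assoc])
          · exact Or.inl (by rw [(hzc y hy.1).mul_mul_mul_comm, hzz, mul_one])⟩
        inv_mem' := fun {x} hx => ⟨inv_mem hx.1, by
          rw [inv_eq_of_mul_eq_one_right (hZ.sq x hx.1)]; exact hx.2⟩ }
    have hLI : I ≤ L := fun x hxI => ⟨hIZ hxI, Or.inl (by rw [(hhI x hxI).eq, mul_inv_cancel_right])⟩
    have hqL : q ∈ L := ⟨hq, by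
      rcases hcz with e | e <;> rw [e] at eq'
      · exact Or.inl (by rw [eq', mul_one])
      · exact Or.inr eq'⟩
    exact (le_of_generators (L := L) (E := Z) hI4 hZ.card hLI (fun x hx => hx.1)
      (by rw [hZ.sq p hp]; exact one_mem _) ⟨hp, Or.inl ep⟩ hqL hp' hq' hpq hx).2
  have hfix1 : ∀ x ∈ I, Commute a₁ x := fun x hx => hA.comm a₁ ha₁ x hx.1
  have hb₁₂ : b₁ * b₂ ∉ I := fun h => ha₁₂ (hAE.le ⟨mul_mem ha₁ ha₂, by
    have e : a₁ * b₁ * (a₂ * b₂) * (b₁ * b₂ * c)⁻¹ = a₁ * a₂ := by rw [hL]; group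
    rw [← e]
    exact E.mul_mem (E.mul_mem he₁ he₂) (E.inv_mem (hIE (I.mul_mem h hcI)))⟩)
  rcases hIc c hcI with e | e | e | e
  · exact hb₁' ⟨main hA inf_le_left ⟨hA.mem, huB⟩ (Or.inl e) (hBD hb₁) (hBD hb₁).1
      (fun x hx => hB.comm b₁ hb₁ x hx.2) ha₁ ha₂ ha₁' ha₂' ha₁₂
      (by rw [← e11.eq, mul_inv_cancel_right]) hconjB, hb₁⟩
  · exact hb₁' ⟨main hA inf_le_left ⟨hA.mem, huB⟩ (Or.inr e) (hBD hb₁) (hBD hb₁).1
      (fun x hx => hB.comm b₁ hb₁ x hx.2) ha₁ ha₂ ha₁' ha₂' ha₁₂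
      (by rw [← e11.eq, mul_inv_cancel_right]) hconjB, hb₁⟩
  · exact ha₁' ⟨ha₁, main hB inf_le_right ⟨hvA, hB.mem⟩ (Or.inr e) (hAD ha₁) (hAD ha₁).2 hfix1
      hb₁ hb₂ hb₁' hb₂' hb₁₂ (by rw [e11.eq, mul_inv_cancel_right]) hconjA⟩
  · refine ha₁' (hAE.le ⟨ha₁, main hE hIE ⟨hwA, hwB⟩ (Or.inr e) (hAD ha₁) (hDw _ (hAD ha₁)) hfix1
      he₁ he₂ (fun h => hb₁' ?_) (fun h => hb₂' ?_) ?_ ?_ ?_⟩)
    · exact ⟨by simpa [← mul_assoc] using A.mul_mem (A.inv_mem ha₁) h.1, hb₁⟩
    · exact ⟨by simpa [← mul_assoc] using A.mul_mem (A.inv_mem ha₂) h.1, hb₂⟩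
    · intro h
      refine hb₁₂ ⟨?_, mul_mem hb₁ hb₂⟩
      have e' : b₁ * b₂ = (a₁ * a₂)⁻¹ * (a₁ * b₁ * (a₂ * b₂)) * c⁻¹ := by rw [hL]; group
      rw [e']
      exact A.mul_mem (A.mul_mem (A.inv_mem (A.mul_mem ha₁ ha₂)) h.1) (A.inv_mem hcI.1)
    · calc a₁ * (a₁ * b₁) * a₁⁻¹ = a₁ * (a₁ * b₁ * a₁⁻¹) := by group
        _ = a₁ * b₁ := by rw [show a₁ * b₁ * a₁⁻¹ = b₁ by rw [e11.eq, mul_inv_cancel_right]]
    · calc a₁ * (a₂ * b₂) * a₁⁻¹ = (a₁ * a₂ * a₁⁻¹) * (a₁ * b₂ * a₁⁻¹) := by group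
        _ = a₂ * b₂ * c := by
          rw [(hA.comm a₁ ha₁ a₂ ha₂).eq, mul_inv_cancel_right, hconjA, ← mul_assoc]

/-- The involutions having a given subgroup. -/
theorem eSub_eq_of_mem {t : G} (ht : orderOf t = 2) {y : G} (hy : y ∈ eSub hG T t ht)
    (hyo : orderOf y = 2) :
    eSub hG T y hyo = eSub hG T t ht ∧
      Nat.card (normalizer (eSub hG T t ht : Set G)) = 40320 := by
  classical
  set E := eSub hG T t ht with hEdef
  have hE : IsE t E := eSub_spec hG T ht
  set N := normalizer (E : Set G) with hN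
  have hmapN : ∀ g : G, E.map (MulAut.conj g).toMonoidHom = E → g ∈ N := fun g hg =>
    mem_normalizer_iff.2 fun x => ⟨fun hx => hg.le ⟨x, hx, rfl⟩, fun hx => by
      obtain ⟨z, hz, hzx⟩ := hg.ge hx
      exact (MulAut.conj g).injective hzx ▸ hz⟩
  have hNmap : ∀ g ∈ N, E.map (MulAut.conj g).toMonoidHom = E := fun g hg =>
    eq_of_le_of_card_ge (fun x ⟨z, hz, hzx⟩ => hzx ▸ (mem_normalizer_iff.1 hg z).1 hz)
      (le_of_eq (card_map_of_injective (MulAut.conj g).injective).symm)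
  let S : Finset G := Finset.univ.filter fun z => ∃ hz : orderOf z = 2, eSub hG T z hz = E
  have hS : ∀ z, z ∈ S ↔ ∃ hz : orderOf z = 2, eSub hG T z hz = E := fun z => by simp [S]
  have htS : t ∈ S := (hS t).2 ⟨ht, rfl⟩
  have hconjS : ∀ g ∈ N, ∀ z ∈ S, g * z * g⁻¹ ∈ S := by
    intro g hg z hz
    obtain ⟨hzo, hzE⟩ := (hS z).1 hz
    have hgo : orderOf (g * z * g⁻¹) = 2 := by rw [Blocks.orderOf_conj', hzo]
    exact (hS _).2 ⟨hgo, by rw [← eSub_conj hG T hzo g hgo, hzE, hNmap g hg]⟩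
  have hCN : centralizer ({t} : Set G) ≤ N := fun g hg => hmapN g (by
    have hgo : orderOf (g * t * g⁻¹) = 2 := by rw [Blocks.orderOf_conj', ht]
    rw [hEdef, eSub_conj hG T ht g hgo]
    exact eSub_congr hG T (by rw [mem_centralizer_singleton_iff.1 hg, mul_inv_cancel_right]) hgo ht)
  have hSE : ∀ z ∈ S, z ∈ E := fun z hz => by
    obtain ⟨hzo, hzE⟩ := (hS z).1 hz
    exact hzE ▸ (eSub_spec hG T hzo).mem
  -- the orbit of `t`
  let f : ↥N → ↥S := fun g => ⟨(g : G) * t * (g : G)⁻¹, hconjS g g.2 t htS⟩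
  have hfib : ∀ z : S, Nat.card {g : N // f g = z} = 2688 := by
    intro z
    obtain ⟨hzo, hzE⟩ := (hS _).1 z.2
    obtain ⟨g₀, hg₀⟩ := isConj_iff.1 (T.conj_two t (z : G) ht hzo)
    have hg₀N : g₀ ∈ N := hmapN g₀ (by
      have hgo : orderOf (g₀ * t * g₀⁻¹) = 2 := by rw [hg₀, hzo]
      rw [hEdef, eSub_conj hG T ht g₀ hgo, eSub_congr hG T hg₀ hgo hzo, hzE])
    rw [← T.card_two t ht]
    refine Nat.card_congr
      { toFun := fun g => ⟨g₀⁻¹ * (g.1 : G), ?_⟩
        invFun := fun c => ⟨⟨g₀ * (c : G), mul_mem hg₀N (hCN c.2)⟩, ?_⟩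
        left_inv := fun g => Subtype.ext (Subtype.ext (mul_inv_cancel_left _ _))
        right_inv := fun c => Subtype.ext (inv_mul_cancel_left _ _) }
    · have e : (g.1 : G) * t * (g.1 : G)⁻¹ = g₀ * t * g₀⁻¹ := by
        rw [hg₀]; exact congrArg Subtype.val g.2
      rw [mem_centralizer_singleton_iff]
      calc g₀⁻¹ * (g.1 : G) * t = g₀⁻¹ * ((g.1 : G) * t * (g.1 : G)⁻¹) * (g.1 : G) := by group
        _ = t * (g₀⁻¹ * (g.1 : G)) := by rw [e]; group
    · refine Subtype.ext ?_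
      show g₀ * (c : G) * t * (g₀ * (c : G))⁻¹ = (z : G)
      rw [← hg₀, mul_inv_rev]
      calc g₀ * (c : G) * t * ((c : G)⁻¹ * g₀⁻¹) = g₀ * ((c : G) * t * (c : G)⁻¹) * g₀⁻¹ := by group
        _ = g₀ * t * g₀⁻¹ := by
          rw [mem_centralizer_singleton_iff.1 c.2, mul_inv_cancel_right]
  have hNc : Nat.card N = S.card * 2688 := by
    rw [← Nat.card_congr (Equiv.sigmaFiberEquiv f), Nat.card_sigma,
      Finset.sum_congr rfl fun z _ => hfib z, Finset.sum_const, Finset.card_univ,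
      Fintype.card_coe, smul_eq_mul]
  have hdvd : S.card ∣ 3795 := by
    have := card_subgroup_dvd_card N
    rw [hNc, hG, show ord = 3795 * 2688 from rfl] at this
    exact Nat.dvd_of_mul_dvd_mul_right (by norm_num) this
  -- two members
  have h2 : 2 ≤ S.card := by
    obtain ⟨x, z, hx, hz, hne, he⟩ := exists_pair hG T
    obtain ⟨g, hg⟩ := isConj_iff.1 (T.conj_two x t hx ht)
    have hgx : orderOf (g * x * g⁻¹) = 2 := by rw [hg, ht]
    have hgz : orderOf (g * z * g⁻¹) = 2 := by rw [Blocks.orderOf_conj', hz]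
    have hzS : g * z * g⁻¹ ∈ S := (hS _).2 ⟨hgz, by
      rw [← eSub_conj hG T hz g hgz, ← he, eSub_conj hG T hx g hgx, eSub_congr hG T hg hgx ht]⟩
    refine Finset.one_lt_card.2 ⟨t, htS, _, hzS, fun e => hne ?_⟩
    rw [← hg] at e
    exact mul_left_cancel (mul_right_cancel e)
  -- an element of order seven
  obtain ⟨⟨p, hpC⟩, hp⟩ := exists_prime_orderOf_dvd_card' (G := centralizer ({t} : Set G)) 7
    (by rw [T.card_two t ht]; norm_num)
  rw [← Subgroup.orderOf_coe] at hp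
  change orderOf p = 7 at hp
  have hmod : S.card % 7 = 1 := by
    have hP : IsPGroup 7 (zpowers p) := IsPGroup.of_card (n := 1) (by
      rw [Nat.card_zpowers, hp, pow_one])
    have hpN : zpowers p ≤ N := zpowers_le.2 (hCN hpC)
    letI : MulAction (zpowers p) S :=
      { smul := fun g z => ⟨(g : G) * (z : G) * (g : G)⁻¹, hconjS g (hpN g.2) z z.2⟩
        one_smul := fun z => Subtype.ext (by show ((1 : G)) * (z : G) * 1⁻¹ = z; simp)
        mul_smul := fun g h z => Subtype.ext (by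
          show ((g : G) * (h : G)) * (z : G) * ((g : G) * (h : G))⁻¹ =
            (g : G) * ((h : G) * (z : G) * (h : G)⁻¹) * (g : G)⁻¹
          group) }
    have hfix : MulAction.fixedPoints (zpowers p) S = {⟨t, htS⟩} := by
      ext z
      simp only [MulAction.mem_fixedPoints, Set.mem_singleton_iff]
      constructor
      · intro h
        have h1 : p * (z : G) * p⁻¹ = (z : G) :=
          congrArg Subtype.val (h ⟨p, mem_zpowers p⟩)
        obtain ⟨hzo, -⟩ := (hS _).1 z.2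
        exact Subtype.ext (inv_unique hG T hp hzo ht
          (show Commute p (z : G) from mul_inv_eq_iff_eq_mul.1 h1).symm
          (mem_centralizer_singleton_iff.1 hpC).symm)
      · rintro rfl ⟨g, i, rfl⟩
        refine Subtype.ext ?_
        show p ^ i * t * (p ^ i)⁻¹ = t
        rw [((show Commute p t from mem_centralizer_singleton_iff.1 hpC).zpow_left i).eq,
          mul_inv_cancel_right]
    have := hP.card_modEq_card_fixedPoints S
    rw [hfix, Nat.card_eq_fintype_card, Fintype.card_coe] at this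
    simpa [Nat.ModEq] using this
  have hle : S.card ≤ 15 := by
    have hsub : S ⊆ (Finset.univ.filter (· ∈ E)).erase 1 := fun z hz => Finset.mem_erase.2
      ⟨fun e => by
        obtain ⟨hzo, -⟩ := (hS z).1 hz
        rw [e, orderOf_one] at hzo
        omega, Finset.mem_filter.2 ⟨Finset.mem_univ _, hSE z hz⟩⟩
    have := Finset.card_le_card hsub
    rw [Finset.card_erase_of_mem (by simp [one_mem]), ← Fintype.card_subtype (fun x => x ∈ E),
      ← Nat.card_eq_fintype_card, show Nat.card {x : G // x ∈ E} = 16 from hE.card] at this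
    exact this
  have h15 : S.card = 15 := by
    generalize S.card = n at hdvd h2 hmod hle
    interval_cases n <;> omega
  refine ⟨?_, by rw [hN] at hNc; rw [hNc, h15]⟩
  have hall : y ∈ S := by
    have hsub : S ⊆ (Finset.univ.filter (· ∈ E)).erase 1 := fun z hz => Finset.mem_erase.2
      ⟨fun e => by
        obtain ⟨hzo, -⟩ := (hS z).1 hz
        rw [e, orderOf_one] at hzo
        omega, Finset.mem_filter.2 ⟨Finset.mem_univ _, hSE z hz⟩⟩
    rw [Finset.eq_of_subset_of_card_le hsub (by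
      rw [Finset.card_erase_of_mem (by simp [one_mem]), ← Fintype.card_subtype (fun x => x ∈ E),
        ← Nat.card_eq_fintype_card, show Nat.card {x : G // x ∈ E} = 16 from hE.card, h15])]
    exact Finset.mem_erase.2 ⟨fun e => by rw [e, orderOf_one] at hyo; omega,
      Finset.mem_filter.2 ⟨Finset.mem_univ _, hy⟩⟩
  exact ((hS y).1 hall).2

end Cfsg.Agent.Fg24.M23
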