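import Cfsg.Agent.Fg24.M23.Index
import Cfsg.Agent.SmallOrder.Elements

/-!
# Groups of order 10200960 with the numbers of elements of each order of the Mathieu group of
degree twenty-three

The Sylow subgroups of orders 11 and 23 are self-centralizing, so the count of every other order is
divisible by both primes. This determines both Sylow normalizers from the set of counts, and then
the sizes of a normal subgroup leave only the trivial possibilities.
-/

set_option autoImplicit false
set_option linter.unusedSectionVars false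

namespace Cfsg.Agent.Fg24.M23

open Cfsg.Agent

universe u

local instance fact_five_nse : Fact (Nat.Prime 5) := ⟨by norm_num⟩
local instance fact_seven_nse : Fact (Nat.Prime 7) := ⟨by norm_num⟩
local instance fact_eleven_nse : Fact (Nat.Prime 11) := ⟨by norm_num⟩
local instance fact_twentythree_nse : Fact (Nat.Prime 23) := ⟨by norm_num⟩

variable {G : Type u} [Group G] [Finite G]

section Fixed

variable {p : ℕ} [hp : Fact p.Prime] {g : G} (hg : orderOf g = p)
include hg

/-- A set stable under conjugation by an element of prime order is congruent to its fixed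
points. -/
theorem fixed_mod (S : Set G) (hS : ∀ x, x ∈ S ↔ g * x * g⁻¹ ∈ S) :
    Nat.card S ≡ Nat.card {x : S // g * (x : G) = x * g} [MOD p] := by
  classical
  letI := Fintype.ofFinite S
  let σ : Equiv.Perm S := Equiv.subtypeEquiv (MulAut.conj g).toEquiv fun x => hS x
  have hpow : ∀ (j : ℕ) (x : S), ((σ ^ j) x : G) = g ^ j * x * (g ^ j)⁻¹ := by
    intro j
    induction j with
    | zero => intro x; simp
    | succ j ih =>
      intro x
      rw [pow_succ', Equiv.Perm.mul_apply]
      show g * ((σ ^ j) x : G) * g⁻¹ = _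
      rw [ih, pow_succ']
      group
  have hσ : σ ^ p ^ 1 = 1 := Equiv.ext fun x => Subtype.ext (by
    rw [hpow, pow_one, ← hg, pow_orderOf_eq_one]; simp)
  have hmod := Equiv.Perm.card_compl_support_modEq hσ
  rw [← Nat.card_eq_fintype_card] at hmod
  refine hmod.symm.trans ?_
  rw [← Fintype.card_coe, ← Nat.card_eq_fintype_card]
  refine congrArg (· % p) (Nat.card_congr (Equiv.subtypeEquivRight fun x => ?_))
  rw [Finset.mem_compl, Equiv.Perm.notMem_support]
  refine Subtype.ext_iff.trans ?_
  show g * (x : G) * g⁻¹ = x ↔ _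
  exact mul_inv_eq_iff_eq_mul

/-- The count of each order is congruent to the count in the centralizer. -/
theorem count_mod (n : ℕ) : Nat.card {x : G // orderOf x = n} ≡
    Nat.card {x : Subgroup.centralizer ({g} : Set G) // orderOf x = n} [MOD p] := by
  refine (fixed_mod hg {x : G | orderOf x = n} fun x => ?_).trans ?_
  · show orderOf x = n ↔ orderOf (MulAut.conj g x) = n
    rw [MulEquiv.orderOf_eq]
  refine congrArg (· % p) (Nat.card_congr ?_)
  exact {
    toFun := fun x => ⟨⟨x.1.1, Subgroup.mem_centralizer_singleton_iff.2 x.2.symm⟩,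
      by rw [Subgroup.orderOf_mk]; exact x.1.2⟩
    invFun := fun x => ⟨⟨x.1.1, by
      show orderOf (x.1 : G) = n
      rw [Subgroup.orderOf_coe]; exact x.2⟩,
      (Subgroup.mem_centralizer_singleton_iff.1 x.1.2).symm⟩
    left_inv := fun x => rfl
    right_inv := fun x => rfl }

/-- With a self-centralizing element of prime order the other counts are divisible by the
prime. -/
theorem dvd_count (hC : Nat.card (Subgroup.centralizer ({g} : Set G)) = p) {n : ℕ} (h1 : n ≠ 1)
    (hn : n ≠ p) : p ∣ Nat.card {x : G // orderOf x = n} := by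
  have h := count_mod hg n
  have h0 : IsEmpty {x : Subgroup.centralizer ({g} : Set G) // orderOf x = n} := ⟨fun x => by
    have hd := orderOf_dvd_natCard x.1
    rw [x.2, hC] at hd
    rcases (Nat.dvd_prime hp.out).1 hd with h | h
    · exact h1 h
    · exact hn h⟩
  rw [Nat.card_of_isEmpty (α := {x : Subgroup.centralizer ({g} : Set G) // orderOf x = n})] at h
  exact Nat.modEq_zero_iff_dvd.1 h

/-- A normal subgroup of order prime to the order of a self-centralizing element of prime order
has order congruent to one. -/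
theorem normal_mod (hC : Nat.card (Subgroup.centralizer ({g} : Set G)) = p) (N : Subgroup G)
    [hN : N.Normal] (hpN : ¬ p ∣ Nat.card N) : Nat.card N ≡ 1 [MOD p] := by
  refine (fixed_mod hg (N : Set G) fun x => (hN.mem_comm_iff.trans (by simp)).symm).trans ?_
  refine congrArg (· % p) (Nat.card_eq_one_iff_unique.2 ⟨⟨fun a b => ?_⟩,
    ⟨⟨⟨1, N.one_mem⟩, by simp⟩⟩⟩)
  have key : ∀ a : {x : (N : Set G) // g * (x : G) = x * g}, (a.1 : G) = 1 := fun a => by
    have h1 := Subgroup.orderOf_dvd_natCard (Subgroup.centralizer ({g} : Set G))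
      (x := (a.1 : G)) (Subgroup.mem_centralizer_singleton_iff.2 a.2.symm)
    rw [hC] at h1
    rcases (Nat.dvd_prime hp.out).1 h1 with h | h
    · exact orderOf_eq_one_iff.1 h
    · exact absurd (h ▸ Subgroup.orderOf_dvd_natCard N a.1.2) hpN
  exact Subtype.ext (Subtype.ext ((key a).trans (key b).symm))

end Fixed

theorem sylow_card (hG : Nat.card G = ord) {p : ℕ} [Fact p.Prime] (hp : p = 11 ∨ p = 23)
    (P : Sylow p G) : Nat.card (P : Subgroup G) = p := by
  rw [P.card_eq_multiplicity, hG]
  rcases hp with rfl | rfl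
  · rw [show ord = 11 * 927360 by norm_num [ord], Nat.factorization_mul (by norm_num) (by norm_num),
      Finsupp.add_apply, Nat.Prime.factorization_self (by norm_num),
      Nat.factorization_eq_zero_of_not_dvd (by norm_num)]
    norm_num
  · rw [show ord = 23 * 443520 by norm_num [ord], Nat.factorization_mul (by norm_num) (by norm_num),
      Finsupp.add_apply, Nat.Prime.factorization_self (by norm_num),
      Nat.factorization_eq_zero_of_not_dvd (by norm_num)]
    norm_num

theorem count_prime (hG : Nat.card G = ord) {p : ℕ} [Fact p.Prime] (hp : p = 11 ∨ p = 23) :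
    Nat.card {g : G // orderOf g = p} = Nat.card (Sylow p G) * (p - 1) :=
  SmallOrder.card_orderOf_eq_mul (sylow_card hG hp)

theorem card_sylow_mul (hG : Nat.card G = ord) {p : ℕ} [Fact p.Prime] (hp : p = 11 ∨ p = 23)
    {g : G} (hg : orderOf g = p) :
    Nat.card (Sylow p G) *
      Nat.card (Subgroup.normalizer ((Subgroup.zpowers g : Subgroup G) : Set G)) = ord := by
  obtain ⟨P, hP⟩ := (IsPGroup.of_card (p := p) (n := 1)
    (by rw [Nat.card_zpowers, hg, pow_one]) : IsPGroup p (Subgroup.zpowers g)).exists_le_sylow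
  rw [Subgroup.eq_of_le_of_card_ge hP (by rw [Nat.card_zpowers, hg, sylow_card hG hp P]), ← hG,
    Sylow.card_eq_index_normalizer P, mul_comm]
  exact Subgroup.card_mul_index _

/-- The possible counts. -/
def Counts (c : ℕ) : Prop :=
  c = 0 ∨ c = 1 ∨ c = 1854720 ∨ c = 887040 ∨ 253 ∣ c

/-- The counts in a simple group of order 10200960. -/
theorem counts_of_simple [IsSimpleGroup G] (hG : Nat.card G = ord) (n : ℕ) :
    Counts (Nat.card {x : G // orderOf x = n}) := by
  letI := Fintype.ofFinite G
  by_cases h1 : n = 1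
  · refine Or.inr (Or.inl ?_)
    subst h1
    rw [Nat.card_congr (Equiv.subtypeEquivRight fun x : G => orderOf_eq_one_iff)]
    simp
  obtain ⟨x, hx⟩ := exists_prime_orderOf_dvd_card' (G := G) 11 (by rw [hG]; norm_num [ord])
  obtain ⟨y, hy⟩ := exists_prime_orderOf_dvd_card' (G := G) 23 (by rw [hG]; norm_num [ord])
  by_cases h11 : n = 11
  · refine Or.inr (Or.inr (Or.inl ?_))
    subst h11
    have h := card_sylow_mul hG (Or.inl rfl) hx
    rw [card_normalizer_big hG (Or.inl rfl) hx, if_pos rfl] at h
    rw [count_prime hG (Or.inl rfl)]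
    simp only [ord] at h
    omega
  by_cases h23 : n = 23
  · refine Or.inr (Or.inr (Or.inr (Or.inl ?_)))
    subst h23
    have h := card_sylow_mul hG (Or.inr rfl) hy
    rw [card_normalizer_big hG (Or.inr rfl) hy, if_neg (by norm_num)] at h
    rw [count_prime hG (Or.inr rfl)]
    simp only [ord] at h
    omega
  exact Or.inr (Or.inr (Or.inr (Or.inr ((by norm_num : Nat.Coprime 11 23).mul_dvd_of_dvd_of_dvd
    (dvd_count hx (cent_eleven hG hx) h1 h11) (dvd_count hy (cent_twentythree hG hy) h1 h23)))))

/-- The two Sylow subgroups from the counts. -/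
theorem data_of_counts (hG : Nat.card G = ord)
    (hc : ∀ n, Counts (Nat.card {x : G // orderOf x = n})) :
    (Nat.card (Sylow 11 G) = 185472 ∧
      ∀ g : G, orderOf g = 11 → Nat.card (Subgroup.centralizer ({g} : Set G)) = 11) ∧
    (Nat.card (Sylow 23 G) = 40320 ∧
      ∀ g : G, orderOf g = 23 → Nat.card (Subgroup.centralizer ({g} : Set G)) = 23) := by
  classical
  have key : ∀ (p q N : ℕ) [Fact p.Prime], (p = 11 ∨ p = 23) → q.Prime → p ≠ q → N = p * q →
      (¬ ∀ c : ℕ, Counts c → c % p = N.totient % p → False) ∨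
        (∀ g : G, orderOf g = p →
          Nat.card (Subgroup.normalizer ((Subgroup.zpowers g : Subgroup G) : Set G)) = N →
            Nat.card (Subgroup.centralizer ({g} : Set G)) = p) := by
    intro p q N _ hp hq hpq hN
    by_cases hcond : ∀ c : ℕ, Counts c → c % p = N.totient % p → False
    swap
    · exact Or.inl hcond
    refine Or.inr fun g hg hcard => ?_
    have hle : Subgroup.centralizer ({g} : Set G) ≤
        Subgroup.normalizer ((Subgroup.zpowers g : Subgroup G) : Set G) := by
      rw [← Subgroup.centralizer_closure, ← Subgroup.zpowers_eq_closure]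
      exact Subgroup.centralizer_le_normalizer _
    have hd := hcard ▸ Subgroup.card_dvd_of_le hle
    have hgC : g ∈ Subgroup.centralizer ({g} : Set G) :=
      Subgroup.mem_centralizer_singleton_iff.2 rfl
    obtain ⟨j, hj⟩ : p ∣ Nat.card (Subgroup.centralizer ({g} : Set G)) :=
      hg ▸ Subgroup.orderOf_dvd_natCard _ hgC
    rw [hj, hN] at hd
    rcases (Nat.dvd_prime hq).1 (Nat.dvd_of_mul_dvd_mul_left (Fact.out : p.Prime).pos hd) with
      rfl | rfl
    · rw [hj, mul_one]
    exfalso
    rw [← hN] at hj
    haveI : Fact (Nat.Prime j) := ⟨hq⟩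
    obtain ⟨a, ha⟩ := exists_prime_orderOf_dvd_card' (G := Subgroup.centralizer ({g} : Set G)) j
      (by rw [hj, hN]; exact dvd_mul_left _ _)
    have hcomm : Commute a ⟨g, hgC⟩ := Subtype.ext (Subgroup.mem_centralizer_singleton_iff.1 a.2)
    haveI hcyc : IsCyclic (Subgroup.centralizer ({g} : Set G)) :=
      isCyclic_of_orderOf_eq_card (a * ⟨g, hgC⟩) (by
        rw [hcomm.orderOf_mul_eq_mul_orderOf_of_coprime (by
          rw [ha, Subgroup.orderOf_mk, hg]
          exact ((Nat.coprime_primes (Fact.out : p.Prime) hq).2 hpq).symm),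
          ha, Subgroup.orderOf_mk, hg, hj, hN, mul_comm])
    letI := Fintype.ofFinite (Subgroup.centralizer ({g} : Set G))
    have htot : Nat.card {x : Subgroup.centralizer ({g} : Set G) // orderOf x = N} = N.totient := by
      rw [Nat.card_eq_fintype_card, Fintype.card_subtype, IsCyclic.card_orderOf_eq_totient (by
        rw [← Nat.card_eq_fintype_card, hj])]
    have h := count_mod hg N
    rw [htot, Nat.ModEq] at h
    exact hcond _ (hc N) h
  have hmod11 : Nat.card (Sylow 11 G) % 11 = 1 := by
    rw [card_sylow_modEq_one 11 G]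
  have hmod23 : Nat.card (Sylow 23 G) % 23 = 1 := by
    rw [card_sylow_modEq_one 23 G]
  have h11 : Nat.card (Sylow 11 G) = 185472 := by
    have := hc 11
    rw [count_prime hG (Or.inl rfl)] at this
    simp only [Counts] at this
    omega
  have h23 : Nat.card (Sylow 23 G) = 40320 := by
    have := hc 23
    rw [count_prime hG (Or.inr rfl)] at this
    simp only [Counts] at this
    omega
  refine ⟨⟨h11, fun g hg => ?_⟩, ⟨h23, fun g hg => ?_⟩⟩
  · refine (key 11 5 55 (Or.inl rfl) (by norm_num) (by norm_num) rfl).resolve_left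
      (fun h => h fun c hc' he => ?_) g hg ?_
    · rw [show Nat.totient 55 = 40 by decide +kernel] at he
      simp only [Counts] at hc'
      omega
    · have h := card_sylow_mul hG (Or.inl rfl) hg
      rw [h11] at h
      simp only [ord] at h
      omega
  · refine (key 23 11 253 (Or.inr rfl) (by norm_num) (by norm_num) rfl).resolve_left
      (fun h => h fun c hc' he => ?_) g hg ?_
    · rw [show Nat.totient 253 = 220 by decide +kernel] at he
      simp only [Counts] at hc'
      omega
    · have h := card_sylow_mul hG (Or.inr rfl) hg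
      rw [h23] at h
      simp only [ord] at h
      omega

/-- A normal subgroup containing one Sylow subgroup of prime order contains all. -/
theorem sylow_dvd (hG : Nat.card G = ord) {p : ℕ} [hp : Fact p.Prime] (hp11 : p = 11 ∨ p = 23)
    (N : Subgroup G) [hN : N.Normal] (hpN : p ∣ Nat.card N) :
    p ∣ Nat.card N ∧ Nat.card (Sylow p G) ∣ Nat.card N := by
  classical
  refine ⟨hpN, ?_⟩
  obtain ⟨⟨g₀, hg₀N⟩, hg₀⟩ := exists_prime_orderOf_dvd_card' p hpN
  replace hg₀ : orderOf g₀ = p := (Subgroup.orderOf_coe ⟨g₀, hg₀N⟩).trans hg₀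
  obtain ⟨P, hP⟩ := (IsPGroup.of_card (p := p) (n := 1)
    (by rw [Nat.card_zpowers, hg₀, pow_one]) : IsPGroup p (Subgroup.zpowers g₀)).exists_le_sylow
  have hPe := Subgroup.eq_of_le_of_card_ge hP
    (by rw [Nat.card_zpowers, hg₀, sylow_card hG hp11 P])
  have hall : ∀ g : G, orderOf g = p → g ∈ N := fun g hg => by
    obtain ⟨P', hP'⟩ := (IsPGroup.of_card (p := p) (n := 1)
      (by rw [Nat.card_zpowers, hg, pow_one]) : IsPGroup p (Subgroup.zpowers g)).exists_le_sylow
    obtain ⟨a, ha⟩ := MulAction.exists_smul_eq G P P'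
    have hgP : g ∈ (P' : Subgroup G) := hP' (Subgroup.mem_zpowers g)
    rw [← ha, Sylow.coe_subgroup_smul] at hgP
    obtain ⟨y, hy, rfl⟩ := hgP
    exact hN.conj_mem y (Subgroup.zpowers_le.2 hg₀N (hPe ▸ hy)) a
  have hNP : ∀ Q : Sylow p N, Nat.card (Q : Subgroup N) = p := fun Q => by
    obtain ⟨n, hn⟩ := Q.isPGroup'.exists_card_eq
    obtain ⟨P', hP'⟩ := (Q.isPGroup'.map N.subtype).exists_le_sylow
    have h := Subgroup.card_dvd_of_le hP'
    rw [sylow_card hG hp11 P', Subgroup.card_map_of_injective N.subtype_injective] at h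
    exact Nat.dvd_antisymm h (Q.dvd_card_of_dvd_card hpN)
  have e : Nat.card {g : N // orderOf g = p} = Nat.card {g : G // orderOf g = p} := Nat.card_congr
    { toFun := fun x => ⟨(x.1 : G), by rw [Subgroup.orderOf_coe]; exact x.2⟩
      invFun := fun x => ⟨⟨x.1, hall x.1 x.2⟩, by rw [Subgroup.orderOf_mk]; exact x.2⟩
      left_inv := fun x => rfl
      right_inv := fun x => rfl }
  rw [SmallOrder.card_orderOf_eq_mul hNP, count_prime hG hp11] at e
  rw [← Nat.eq_of_mul_eq_mul_right (Nat.sub_pos_of_lt hp.out.one_lt) e]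
  obtain ⟨Q⟩ : Nonempty (Sylow p N) := inferInstance
  rw [Sylow.card_eq_index_normalizer Q]
  exact Subgroup.index_dvd_card _

/-- The counts force simplicity. -/
theorem simple_of_counts (hG : Nat.card G = ord)
    (hc : ∀ n, Counts (Nat.card {x : G // orderOf x = n})) : IsSimpleGroup G := by
  classical
  obtain ⟨⟨h11, hC11⟩, h23, hC23⟩ := data_of_counts hG hc
  haveI : Nontrivial G := Finite.one_lt_card_iff_nontrivial.1 (by rw [hG]; norm_num [ord])
  obtain ⟨x, hx⟩ := exists_prime_orderOf_dvd_card' (G := G) 11 (by rw [hG]; norm_num [ord])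
  obtain ⟨y, hy⟩ := exists_prime_orderOf_dvd_card' (G := G) 23 (by rw [hG]; norm_num [ord])
  refine ⟨fun N hN => ?_⟩
  have hd : Nat.card N ∣ ord := hG ▸ Subgroup.card_subgroup_dvd_card N
  have h23' : 11 ∣ Nat.card N → 23 ∣ Nat.card N := fun h =>
    (show 23 ∣ 185472 by norm_num).trans (h11 ▸ (sylow_dvd hG (Or.inl rfl) N h).2)
  by_cases hN11 : 11 ∣ Nat.card N
  · refine Or.inr (Subgroup.card_eq_iff_eq_top N |>.1 (Nat.dvd_antisymm
      (Subgroup.card_subgroup_dvd_card N) ?_))
    have hb := (sylow_dvd hG (Or.inr rfl) N (h23' hN11)).2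
    rw [h23] at hb
    rw [hG, show ord = (11 * 23) * 40320 by norm_num [ord]]
    exact (by norm_num : Nat.Coprime (11 * 23) 40320).mul_dvd_of_dvd_of_dvd
      ((by norm_num : Nat.Coprime 11 23).mul_dvd_of_dvd_of_dvd hN11 (h23' hN11)) hb
  refine Or.inl (Subgroup.eq_bot_of_card_eq _ ?_)
  have hm := normal_mod hx (hC11 x hx) N hN11
  have hd' : Nat.card N ∣ 927360 :=
    ((Nat.Prime.coprime_iff_not_dvd (by norm_num)).2 hN11).symm.dvd_of_dvd_mul_left
      (show Nat.card N ∣ 11 * 927360 from hd)
  by_cases hN23 : 23 ∣ Nat.card N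
  · exfalso
    have hb := (sylow_dvd hG (Or.inr rfl) N hN23).2
    rw [h23] at hb
    have he : Nat.card N = 927360 := Nat.dvd_antisymm hd'
      ((by norm_num : Nat.Coprime 23 40320).mul_dvd_of_dvd_of_dvd hN23 hb)
    rw [he] at hm
    exact absurd hm (by decide +kernel)
  · have hm' := normal_mod hy (hC23 y hy) N hN23
    have hd'' : Nat.card N ∣ 40320 :=
      ((Nat.Prime.coprime_iff_not_dvd (by norm_num)).2 hN23).symm.dvd_of_dvd_mul_left
        (show Nat.card N ∣ 23 * 40320 from hd')
    have key : ∀ d ∈ List.range 161, 40320 % (253 * d + 1) = 0 → d = 0 := by decide +kernel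
    have h253 : Nat.card N % 253 = 1 :=
      (Nat.modEq_and_modEq_iff_modEq_mul (by norm_num : Nat.Coprime 11 23)).1 ⟨hm, hm'⟩
    have hle := Nat.le_of_dvd (by norm_num) hd''
    have := key (Nat.card N / 253) (List.mem_range.2 (by omega))
      (by rw [show 253 * (Nat.card N / 253) + 1 = Nat.card N by omega]
          exact Nat.mod_eq_zero_of_dvd hd'')
    omega

end Cfsg.Agent.Fg24.M23
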