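import Cfsg.Agent.Fg24.M23.DataE
import Cfsg.Agent.Char.Suborbit

/-!
# The permutation character on 253 points
-/

set_option autoImplicit false
set_option linter.unusedSectionVars false

namespace Cfsg.Agent.Fg24.M23

open Cfsg Cfsg.Agent Cfsg.Agent.Char Cfsg.Agent.Blocks Subgroup
open scoped ComplexConjugate

universe u

variable {G : Type u} [Group G] [Fintype G]

/-- The number of fixed points. -/
noncomputable def NData.pi (D : NData G) (g : G) : ℕ :=
  Nat.card (MulAction.fixedBy (G ⧸ D.N) g)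

/-- The numbers with the given weighted sum. -/
theorem coeff_252 {a b c d e f g h : ℕ}
    (H : 22 * a + 45 * b + 45 * c + 230 * d + 231 * e + 231 * f + 231 * g + 253 * h = 252) :
    a = 1 ∧ b = 0 ∧ c = 0 ∧ d = 1 ∧ e = 0 ∧ f = 0 ∧ g = 0 ∧ h = 0 := by
  have key : ∀ x ∈ List.range 12, ∀ m ∈ List.range 6, ∀ y ∈ List.range 2, ∀ n ∈ List.range 2,
      22 * x + 45 * m + 230 * y + 231 * n = 252 → x = 1 ∧ m = 0 ∧ y = 1 ∧ n = 0 := by decide
  have := key a (List.mem_range.2 (by omega)) (b + c) (List.mem_range.2 (by omega)) d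
    (List.mem_range.2 (by omega)) (e + f + g) (List.mem_range.2 (by omega)) (by omega)
  omega

set_option maxHeartbeats 2000000 in
/-- The multiplicities with the given degrees. -/
theorem coeff_253 (k1 k2 k3 k4 k5 k6 k7 k8 k9 k10 k11 k12 k13 k14 k15 k16 : ℕ)
    (H : 1 * 1 + (k1 * 22 + (k2 * 45 + (k3 * 45 + (k4 * 230 + (k5 * 231 + (k6 * 231 + (k7 * 231 +
      (k8 * 253 + (k9 * 770 + (k10 * 770 + (k11 * 896 + (k12 * 896 + (k13 * 990 + (k14 * 990 +
      (k15 * 1035 + (k16 * 2024 + 0)))))))))))))))) = 253) :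
    k1 = 1 ∧ k2 = 0 ∧ k3 = 0 ∧ k4 = 1 ∧ k5 = 0 ∧ k6 = 0 ∧ k7 = 0 ∧ k8 = 0 ∧ k9 = 0 ∧ k10 = 0 ∧
      k11 = 0 ∧ k12 = 0 ∧ k13 = 0 ∧ k14 = 0 ∧ k15 = 0 ∧ k16 = 0 := by
  obtain ⟨h9, h10, h11, h12, h13, h14, h15, h16⟩ : k9 = 0 ∧ k10 = 0 ∧ k11 = 0 ∧ k12 = 0 ∧
      k13 = 0 ∧ k14 = 0 ∧ k15 = 0 ∧ k16 = 0 :=
    ⟨by omega, by omega, by omega, by omega, by omega, by omega, by omega, by omega⟩
  obtain ⟨c1, c2, c3, c4, c5, c6, c7, c8⟩ := coeff_252 (a := k1) (b := k2) (c := k3) (d := k4)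
    (e := k5) (f := k6) (g := k7) (h := k8) (by omega)
  exact ⟨c1, c2, c3, c4, c5, c6, c7, c8, h9, h10, h11, h12, h13, h14, h15, h16⟩

variable [IsSimpleGroup G] (hG : Nat.card G = ord)
variable [Fact (Nat.Prime 11)] [Fact (Nat.Prime 23)] [Fact (Nat.Prime 5)] [Fact (Nat.Prime 7)]
variable (T : Table G) (D : NData G)
include hG T

theorem index_N : D.N.index = 253 := by
  have := D.N.card_mul_index
  rw [D.card_normalizer, hG, show ord = 40320 * 253 from rfl] at this
  exact Nat.eq_of_mul_eq_mul_left (by norm_num) this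

theorem card_points : Nat.card (G ⧸ D.N) = 253 := index_N hG T D

set_option maxHeartbeats 2000000 in
/-- The decomposition. -/
theorem exists_pi : ∃ χ ψ : Cfsg.IrrCharacter G, dg χ = 22 ∧ dg ψ = 230 ∧
    (∀ g : G, (D.pi g : ℂ) = 1 + (χ : G → ℂ) g + (ψ : G → ℂ) g) ∧
    classInner (fun g : G => (D.pi g : ℂ)) (χ : G → ℂ) = 1 ∧
    classInner (fun g : G => (D.pi g : ℂ)) (fun g : G => (D.pi g : ℂ)) = 3 ∧
    ∀ t : G, orderOf t = 2 → D.pi t = 29 := by
  classical
  haveI : Fintype (G ⧸ D.N) := Fintype.ofFinite _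
  set π : G → ℂ := fun g => (D.pi g : ℂ) with hπ
  have hchar : IsCharacter G π := pi_isCharacter (G := G) (Ω := G ⧸ D.N)
  have h1 : classInner π (fun _ => (1 : ℂ)) = 1 := pi_inner_one (G := G) (Ω := G ⧸ D.N)
  choose k hk using fun χ : Cfsg.IrrCharacter G =>
    classInner_isCharacter_eq_natCast hchar (IsIrr.isCharacter χ.2)
  have hexp : ∀ g, π g = ∑ χ : Cfsg.IrrCharacter G, (k χ : ℂ) * (χ : G → ℂ) g := by
    intro g
    conv_lhs => rw [classFun_expansion (isClassFunction_of_isCharacter hchar)]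
    simp [Finset.sum_apply, hk]
  have hk0 : k (triv G) = 1 := by
    have := hk (triv G)
    rw [show ((triv G : Cfsg.IrrCharacter G) : G → ℂ) = fun _ => 1 from rfl, h1] at this
    exact_mod_cast this.symm
  obtain ⟨L, hL⟩ : ∃ L, T.all = L := ⟨_, rfl⟩
  have hd := T.degrees
  have hnd := T.nodup
  have hhead := T.head
  rw [hL] at hd hnd hhead
  simp only [degs17, List.map_eq_cons_iff, List.map_eq_nil_iff] at hd
  obtain ⟨x0, _, rfl, d0, x1, _, rfl, d1, x2, _, rfl, d2, x3, _, rfl, d3, x4, _, rfl, d4,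
    x5, _, rfl, d5, x6, _, rfl, d6, x7, _, rfl, d7, x8, _, rfl, d8, x9, _, rfl, d9,
    x10, _, rfl, d10, x11, _, rfl, d11, x12, _, rfl, d12, x13, _, rfl, d13, x14, _, rfl, d14,
    x15, _, rfl, d15, x16, _, rfl, d16, rfl⟩ := hd
  simp only [List.head?_cons, Option.some.injEq] at hhead
  subst hhead
  have hsum : ∑ χ : Cfsg.IrrCharacter G, k χ * dg χ = 253 := by
    have h := hexp 1
    simp only [hπ, value_one] at h
    rw [show D.pi 1 = 253 from by
      rw [NData.pi, ← card_points hG T D]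
      exact Nat.card_congr (Equiv.subtypeUnivEquiv fun x => one_smul G x)] at h
    exact_mod_cast h.symm
  rw [T.sum_eq, hL] at hsum
  simp only [List.map_cons, List.map_nil, List.sum_cons, List.sum_nil, hk0, d0, d1, d2, d3, d4, d5,
    d6, d7, d8, d9, d10, d11, d12, d13, d14, d15, d16] at hsum
  obtain ⟨c1, c2, c3, c4, c5, c6, c7, c8, z9, z10, z11, z12, z13, z14, z15, z16⟩ :=
    coeff_253 _ _ _ _ _ _ _ _ _ _ _ _ _ _ _ _ hsum
  have hdec : ∀ g, π g = 1 + (x1 : G → ℂ) g + (x4 : G → ℂ) g := fun g => by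
    rw [hexp, T.sum_eq, hL]
    simp only [List.map_cons, List.map_nil, List.sum_cons, List.sum_nil, hk0, c1, c2, c3, c4, c5,
      c6, c7, c8, z9, z10, z11, z12, z13, z14, z15, z16, Nat.cast_one, Nat.cast_zero, one_mul,
      zero_mul, add_zero, zero_add, triv_apply]
    ring
  refine ⟨x1, x4, d1, d4, hdec, by rw [hk, c1, Nat.cast_one], ?_, fun t ht => ?_⟩
  · have e : classInner π π = ∑ χ : Cfsg.IrrCharacter G, (k χ : ℂ) * (k χ : ℂ) := by
      conv_lhs => arg 1; rw [classFun_expansion (isClassFunction_of_isCharacter hchar)]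
      rw [classInner_sum_left]
      refine Finset.sum_congr rfl fun χ _ => ?_
      rw [classInner_smul_left, hk, ← classInner_conj_symm, hk, map_natCast]
    rw [e, T.sum_eq, hL]
    simp only [List.map_cons, List.map_nil, List.sum_cons, List.sum_nil, hk0, c1, c2, c3, c4, c5,
      c6, c7, c8, z9, z10, z11, z12, z13, z14, z15, z16, Nat.cast_one, Nat.cast_zero]
    norm_num
  · have h := T.invol t ht
    rw [hL] at h
    simp only [List.map_cons, List.map_nil, vals17, List.cons.injEq] at h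
    obtain ⟨-, v1, -, -, v4, -⟩ := h
    have h2 := hdec t
    rw [v1, v4] at h2
    simp only [hπ] at h2
    norm_num at h2
    exact_mod_cast h2

end Cfsg.Agent.Fg24.M23
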