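import Cfsg.Agent.Fg24.M23.Suborbit

/-!
# Transitivity of a two-point stabilizer on the elementary subgroup and on its hyperplanes
-/

set_option autoImplicit false
set_option linter.unusedSectionVars false

namespace Cfsg.Agent.Fg24.M23

open Cfsg Cfsg.Agent Subgroup
open scoped Pointwise

universe u v

variable {G : Type u} [Group G]

/-- The hyperplanes. -/
abbrev NData.Plane (D : NData G) : Type u := {A : Subgroup G // A ≤ D.E ∧ Nat.card A = 8}

theorem map_conj_le_of_mem {K : Subgroup G} {n : G} (hn : n ∈ normalizer (K : Set G)) {A : Subgroup G}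
    (hA : A ≤ K) : A.map (MulAut.conj n).toMonoidHom ≤ K := by
  rintro _ ⟨a, ha, rfl⟩
  exact (mem_normalizer_iff.1 hn a).1 (hA ha)

noncomputable instance planeAction (D : NData G) : MulAction D.N D.Plane where
  smul n A := ⟨A.1.map (MulAut.conj (n : G)).toMonoidHom, map_conj_le_of_mem n.2 A.2.1,
    (card_map_of_injective (MulAut.conj (n : G)).injective).trans A.2.2⟩
  one_smul A := Subtype.ext (by
    show A.1.map (MulAut.conj ((1 : D.N) : G)).toMonoidHom = A.1
    ext x; simp)
  mul_smul n m A := Subtype.ext (by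
    show A.1.map (MulAut.conj ((n * m : D.N) : G)).toMonoidHom =
      (A.1.map (MulAut.conj (m : G)).toMonoidHom).map (MulAut.conj (n : G)).toMonoidHom
    rw [Subgroup.map_map]
    congr 1
    ext x
    simp [mul_assoc])

/-- The nontrivial elements. -/
abbrev NData.Pts (D : NData G) : Type u := {x : G // x ∈ D.E ∧ x ≠ 1}

noncomputable instance ptsAction (D : NData G) : MulAction D.N D.Pts where
  smul n x := ⟨(n : G) * x.1 * (n : G)⁻¹, (mem_normalizer_iff.1 n.2 _).1 x.2.1,
    fun e => x.2.2 (conj_eq_one_iff.1 e)⟩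
  one_smul x := Subtype.ext (by
    show ((1 : D.N) : G) * x.1 * ((1 : D.N) : G)⁻¹ = x.1
    simp)
  mul_smul n m x := Subtype.ext (by
    show ((n * m : D.N) : G) * x.1 * ((n * m : D.N) : G)⁻¹ =
      (n : G) * ((m : G) * x.1 * (m : G)⁻¹) * (n : G)⁻¹
    simp [mul_assoc])

/-- A subgroup of order 360 of a group of order 40320 is transitive wherever the group is
transitive on fifteen points. -/
theorem sub_transitive {H : Type u} [Group H] [Finite H] (hH : Nat.card H = 40320) {X : Type v}
    [MulAction H X] [MulAction.IsPretransitive H X] (hX : Nat.card X = 15) {J : Subgroup H}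
    (hJ : Nat.card J = 360) (x y : X) : ∃ j ∈ J, j • x = y := by
  have : Finite X := Nat.finite_of_card_ne_zero (by rw [hX]; norm_num)
  have hst : Nat.card (MulAction.stabilizer H x) = 2688 := by
    have h := Subgroup.card_mul_index (MulAction.stabilizer H x)
    rw [MulAction.index_stabilizer_of_transitive, hX, hH] at h
    omega
  have hsj : Nat.card (MulAction.stabilizer J x) ∣ 2688 := by
    rw [← hst, ← card_map_of_injective J.subtype_injective]
    exact card_dvd_of_le fun h ⟨c, hc, e⟩ => e ▸ hc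
  have hsj' : Nat.card (MulAction.stabilizer J x) ∣ 360 := hJ ▸ Subgroup.card_subgroup_dvd_card _
  have hle : Nat.card (MulAction.stabilizer J x) ≤ 24 :=
    Nat.le_of_dvd (by norm_num) (show _ ∣ 24 from (Nat.dvd_gcd hsj hsj').trans (by norm_num))
  have h := Subgroup.card_mul_index (MulAction.stabilizer J x)
  rw [MulAction.index_stabilizer, hJ] at h
  have h15 : (MulAction.orbit J x).ncard = 15 := by
    refine le_antisymm ?_ ?_
    · rw [← hX, ← Set.ncard_univ]
      exact Set.ncard_le_ncard (Set.subset_univ _)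
    · by_contra hlt
      have := Nat.mul_le_mul hle (Nat.le_of_lt_succ (show _ < 14 + 1 from not_le.1 hlt))
      omega
  have huniv : MulAction.orbit J x = Set.univ := Set.eq_of_subset_of_ncard_le (Set.subset_univ _)
    (by rw [h15, Set.ncard_univ, hX])
  obtain ⟨⟨j, hj⟩, hjy⟩ : y ∈ MulAction.orbit J x := huniv ▸ Set.mem_univ y
  exact ⟨j, hj, hjy⟩

variable [Fintype G]

/-- An element of order `p` normalizing a subgroup fixes one of its elements. -/
theorem exists_fixed_in (D : NData G) {K : Subgroup G} (hK : K ≤ D.E) {p : ℕ} [Fact p.Prime] {x : G}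
    (hx : orderOf x = p) (hxK : x ∈ normalizer (K : Set G)) (hp : ¬ p ∣ Nat.card K - 1) :
    ∃ s ∈ K, s ≠ 1 ∧ Commute x s := by
  classical
  have hP : IsPGroup p (zpowers x) := IsPGroup.of_card (n := 1) (by
    rw [Nat.card_zpowers, hx, pow_one])
  let X := {s : G // s ∈ K ∧ s ≠ 1}
  have hle : zpowers x ≤ normalizer (K : Set G) := zpowers_le.2 hxK
  letI : MulAction (zpowers x) X :=
    { smul := fun g s => ⟨(g : G) * (s : G) * (g : G)⁻¹, (mem_normalizer_iff.1 (hle g.2) _).1 s.2.1,
        fun e => s.2.2 (conj_eq_one_iff.1 e)⟩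
      one_smul := fun s => Subtype.ext (by show ((1 : G)) * (s : G) * 1⁻¹ = s; simp)
      mul_smul := fun g h s => Subtype.ext (by
        show ((g : G) * (h : G)) * (s : G) * ((g : G) * (h : G))⁻¹ =
          (g : G) * ((h : G) * (s : G) * (h : G)⁻¹) * (g : G)⁻¹
        group) }
  have hX : Nat.card X = Nat.card K - 1 := by
    rw [Nat.card_eq_fintype_card, Fintype.card_subtype,
      show (Finset.univ.filter fun s : G => s ∈ K ∧ s ≠ 1) =
        (Finset.univ.filter (· ∈ K)).erase 1 by ext; simp [and_comm],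
      Finset.card_erase_of_mem (by simp [one_mem]), ← Fintype.card_subtype,
      ← Nat.card_eq_fintype_card]
  have h := hP.card_modEq_card_fixedPoints X
  rw [hX] at h
  have hne : Nonempty (MulAction.fixedPoints (zpowers x) X) := by
    rw [← Finite.card_pos_iff]
    by_contra h0
    rw [show Nat.card (MulAction.fixedPoints (zpowers x) X) = 0 by omega] at h
    exact hp (Nat.modEq_zero_iff_dvd.1 h)
  obtain ⟨s, hs⟩ := hne
  refine ⟨s.1, s.2.1, s.2.2, ?_⟩
  exact mul_inv_eq_iff_eq_mul.1 (congrArg Subtype.val (hs ⟨x, mem_zpowers x⟩))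

/-- There are at most fifteen hyperplanes. -/
theorem card_planes_le (D : NData G) : Nat.card D.Plane ≤ 15 := by
  classical
  let sgn : D.Plane → (D.E →* ℂ) := fun A =>
    { toFun := fun e => if (e : G) ∈ A.1 then 1 else -1
      map_one' := if_pos A.1.one_mem
      map_mul' := fun a b => by
        have hc : Nat.card D.E = 2 * Nat.card A.1 := by rw [D.card, A.2.2]
        by_cases ha : (a : G) ∈ A.1 <;> by_cases hb : (b : G) ∈ A.1
        · simp [ha, hb, mul_mem ha hb]
        · simp [ha, hb, (mul_mem_cancel_left ha).not.2 hb]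
        · simp [ha, hb, (mul_mem_cancel_right hb).not.2 ha]
        · simp [ha, hb, mem_of_two_mul A.2.1 hc a.2 b.2 ha hb] }
  let f : Option D.Plane → (D.E →* ℂ) := fun o => o.elim 1 sgn
  have hne : ∀ A : D.Plane, sgn A ≠ 1 := by
    intro A h
    have h16 : Nat.card D.E ≤ Nat.card A.1 := Nat.le_of_dvd Nat.card_pos (card_dvd_of_le fun e he => by
      by_contra hA
      have := DFunLike.congr_fun h ⟨e, he⟩
      simp [sgn, hA] at this
      norm_num at this)
    rw [D.card, A.2.2] at h16
    omega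
  have hf : Function.Injective f := by
    rintro (_ | A) (_ | B) h
    · rfl
    · exact absurd h.symm (hne B)
    · exact absurd h (hne A)
    · congr 1
      refine Subtype.ext (SetLike.ext fun x => ?_)
      have key : ∀ {A B : D.Plane}, sgn A = sgn B → ∀ x ∈ A.1, x ∈ B.1 := fun {A B} h x hx => by
        by_contra hB
        have := DFunLike.congr_fun h ⟨x, A.2.1 hx⟩
        simp [sgn, hx, hB] at this
        norm_num at this
      exact ⟨key h x, key h.symm x⟩
  haveI : Fintype D.Plane := Fintype.ofFinite _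
  have hli := (linearIndependent_monoidHom D.E ℂ).comp f hf
  have := hli.fintype_card_le_finrank
  rw [Fintype.card_option, Module.finrank_pi ℂ, ← Nat.card_eq_fintype_card,
    ← Nat.card_eq_fintype_card, D.card] at this
  omega

variable [IsSimpleGroup G] (hG : Nat.card G = ord)
variable [Fact (Nat.Prime 11)] [Fact (Nat.Prime 23)] [Fact (Nat.Prime 5)] [Fact (Nat.Prime 7)]
variable (T : Table G) (D : NData G)
include hG T

/-- The normalizer is transitive on the hyperplanes, and there are fifteen of them. -/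
theorem planes_transitive (A : D.Plane) :
    MulAction.IsPretransitive D.N D.Plane ∧ Nat.card D.Plane = 15 := by
  classical
  have hx : ∀ p, p.Prime → p ∣ 40320 → ∃ x : D.N, orderOf (x : G) = p := fun p hp hd => by
    haveI := Fact.mk hp
    obtain ⟨x, hx⟩ := exists_prime_orderOf_dvd_card' (G := D.N) p (by rw [D.card_normalizer]; exact hd)
    exact ⟨x, by rw [Subgroup.orderOf_coe]; exact hx⟩
  obtain ⟨x, hx5⟩ := hx 5 Fact.out (by norm_num)
  obtain ⟨y, hy7⟩ := hx 7 Fact.out (by norm_num)
  have hnorm : ∀ (n : D.N) (B : D.Plane), n • B = B → (n : G) ∈ normalizer (B.1 : Set G) := by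
    intro n B h
    have h' : B.1.map (MulAut.conj (n : G)).toMonoidHom = B.1 := congrArg Subtype.val h
    refine mem_normalizer_iff.2 fun z => ⟨fun hz => h'.le ⟨z, hz, rfl⟩, fun hz => ?_⟩
    obtain ⟨w, hw, hwz⟩ := h'.ge hz
    exact (MulAut.conj (n : G)).injective hwz ▸ hw
  have h5 : ∀ B : D.Plane, x • B ≠ B := by
    intro B h
    obtain ⟨s, hs, hs1, hc⟩ := exists_fixed_in D B.2.1 hx5 (hnorm x B h) (by rw [B.2.2]; norm_num)
    exact five_free hG T D hx5 (B.2.1 hs) hs1 hc
  have h7 : ∀ B C : D.Plane, y • B = B → y • C = C → B = C := by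
    intro B C hB hC
    obtain ⟨s, hs, hs1, hsy⟩ := exists_fixed D hy7 y.2 (by norm_num)
    have huniq : ∀ z ∈ D.E, z ≠ 1 → Commute (y : G) z → z = s := fun z hz hz1 hc =>
      inv_unique hG T hy7 (D.orderOf_eq hz hz1) (D.orderOf_eq hs hs1) hc.symm hsy.symm
    have hout : ∀ K : D.Plane, y • K = K → s ∉ K.1 := by
      intro K hK hsK
      obtain ⟨W, hW⟩ : ∃ W : Subgroup G, W = zpowers s := ⟨_, rfl⟩
      have hP : IsPGroup 7 (zpowers (y : G)) := IsPGroup.of_card (n := 1) (by
        rw [Nat.card_zpowers, hy7, pow_one])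
      let X := {z : G // z ∈ K.1 ∧ z ≠ 1 ∧ z ≠ s}
      have hle : zpowers (y : G) ≤ normalizer (K.1 : Set G) := zpowers_le.2 (hnorm y K hK)
      have hys : ∀ g ∈ zpowers (y : G), g * s * g⁻¹ = s := fun g ⟨i, hi⟩ => by
        subst hi
        show (y : G) ^ i * s * ((y : G) ^ i)⁻¹ = s
        rw [(hsy.zpow_left i).eq, mul_inv_cancel_right]
      letI : MulAction (zpowers (y : G)) X :=
        { smul := fun g z => ⟨(g : G) * (z : G) * (g : G)⁻¹,
            (mem_normalizer_iff.1 (hle g.2) _).1 z.2.1, fun e => z.2.2.1 (conj_eq_one_iff.1 e),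
            fun e => z.2.2.2 (mul_left_cancel (mul_right_cancel (e.trans (hys g g.2).symm)))⟩
          one_smul := fun z => Subtype.ext (by show ((1 : G)) * (z : G) * 1⁻¹ = z; simp)
          mul_smul := fun g h z => Subtype.ext (by
            show ((g : G) * (h : G)) * (z : G) * ((g : G) * (h : G))⁻¹ =
              (g : G) * ((h : G) * (z : G) * (h : G)⁻¹) * (g : G)⁻¹
            group) }
      have hX : Nat.card X = 6 := by
        rw [Nat.card_eq_fintype_card, Fintype.card_subtype,
          show (Finset.univ.filter fun z : G => z ∈ K.1 ∧ z ≠ 1 ∧ z ≠ s) =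
            ((Finset.univ.filter (· ∈ K.1)).erase 1).erase s by ext; simp; tauto,
          Finset.card_erase_of_mem (by simp [hsK, hs1]), Finset.card_erase_of_mem (by simp [one_mem]),
          ← Fintype.card_subtype, ← Nat.card_eq_fintype_card,
          show Nat.card {z : G // z ∈ K.1} = 8 from K.2.2]
      have h := hP.card_modEq_card_fixedPoints X
      have h0 : Nat.card (MulAction.fixedPoints (zpowers (y : G)) X) = 0 := by
        rw [Nat.card_eq_zero]
        refine Or.inl ⟨fun ⟨z, hz⟩ => z.2.2.2 (huniq z.1 (K.2.1 z.2.1) z.2.2.1 ?_)⟩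
        exact mul_inv_eq_iff_eq_mul.1 (congrArg Subtype.val (hz ⟨(y : G), mem_zpowers _⟩))
      rw [hX, h0] at h
      norm_num [Nat.ModEq] at h
    by_contra hne
    have hlt : Nat.card (B.1 ⊓ C.1 : Subgroup G) = 4 := by
      have hd := card_dvd_of_le (inf_le_left : B.1 ⊓ C.1 ≤ B.1)
      rw [B.2.2] at hd
      have h8 : Nat.card (B.1 ⊓ C.1 : Subgroup G) ≠ 8 := fun e => hne (Subtype.ext (by
        rw [← eq_of_le_of_card_ge (inf_le_left : B.1 ⊓ C.1 ≤ B.1) (by rw [e, B.2.2]),
          eq_of_le_of_card_ge (inf_le_right : B.1 ⊓ C.1 ≤ C.1) (by rw [e, C.2.2])]))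
      have hn : B.1 ≤ normalizer (C.1 : Set G) := fun b hb =>
        centralizer_le_normalizer _ (mem_centralizer_iff.2 fun c hc =>
          (D.comm c (C.2.1 hc) b (B.2.1 hb)).eq)
      have hm := S0606.card_sup_mul_card_inf_of_le_normalizer hn
      rw [B.2.2, C.2.2] at hm
      have hle := card_dvd_of_le (sup_le B.2.1 C.2.1)
      rw [D.card] at hle
      have hle' := Nat.le_of_dvd (by norm_num) hle
      have := Nat.le_of_dvd (by norm_num) hd
      generalize Nat.card (B.1 ⊓ C.1 : Subgroup G) = i at hd h8 hm this ⊢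
      generalize Nat.card (B.1 ⊔ C.1 : Subgroup G) = k at hm hle'
      interval_cases i <;> omega
    have hyn : (y : G) ∈ normalizer ((B.1 ⊓ C.1 : Subgroup G) : Set G) := by
      refine mem_normalizer_iff.2 fun z => ?_
      show z ∈ B.1 ∧ z ∈ C.1 ↔ _ ∈ B.1 ∧ _ ∈ C.1
      rw [← mem_normalizer_iff.1 (hnorm y B hB) z, ← mem_normalizer_iff.1 (hnorm y C hC) z]
    obtain ⟨z, hz, hz1, hc⟩ := exists_fixed_in D (inf_le_left.trans B.2.1) hy7 hyn
      (by rw [hlt]; norm_num)
    exact hout B hB (huniq z (B.2.1 hz.1) hz1 hc ▸ hz.1)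
  -- the orbit has fifteen members
  have hle := card_planes_le D
  set O := MulAction.orbit D.N A with hO
  have hO5 : 5 ∣ Nat.card O := by
    letI : MulAction (zpowers x) O := MulAction.compHom _ (zpowers x).subtype
    have h := (IsPGroup.of_card (p := 5) (n := 1) (by
      rw [Nat.card_zpowers, ← Subgroup.orderOf_coe, hx5, pow_one]) :
      IsPGroup 5 (zpowers x)).card_modEq_card_fixedPoints O
    have h0 : Nat.card (MulAction.fixedPoints (zpowers x) O) = 0 := by
      rw [Nat.card_eq_zero]
      exact Or.inl ⟨fun ⟨w, hw⟩ => h5 w.1 (congrArg Subtype.val (hw ⟨x, mem_zpowers x⟩))⟩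
    rw [h0] at h
    exact Nat.modEq_zero_iff_dvd.1 h
  have hO7 : Nat.card O % 7 ≤ 1 := by
    letI : MulAction (zpowers y) O := MulAction.compHom _ (zpowers y).subtype
    have h := (IsPGroup.of_card (p := 7) (n := 1) (by
      rw [Nat.card_zpowers, ← Subgroup.orderOf_coe, hy7, pow_one]) :
      IsPGroup 7 (zpowers y)).card_modEq_card_fixedPoints O
    have h1 : Nat.card (MulAction.fixedPoints (zpowers y) O) ≤ 1 := by
      rw [Finite.card_le_one_iff_subsingleton]
      exact ⟨fun ⟨w, hw⟩ ⟨w', hw'⟩ => Subtype.ext (Subtype.ext (h7 _ _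
        (congrArg Subtype.val (hw ⟨y, mem_zpowers y⟩))
        (congrArg Subtype.val (hw' ⟨y, mem_zpowers y⟩))))⟩
    unfold Nat.ModEq at h
    rcases Nat.le_one_iff_eq_zero_or_eq_one.1 h1 with e | e <;> rw [e] at h <;> omega
  have hpos : 0 < Nat.card O := by
    haveI : Nonempty O := ⟨⟨A, MulAction.mem_orbit_self A⟩⟩
    exact Nat.card_pos
  have hsub : Nat.card O ≤ Nat.card D.Plane := Nat.card_le_card_of_injective _ Subtype.val_injective
  have h15 : Nat.card O = 15 := by
    obtain ⟨j, hj⟩ := hO5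
    have : j ≤ 3 := by omega
    interval_cases j <;> omega
  refine ⟨?_, by omega⟩
  have huniv : O = Set.univ := Set.eq_of_subset_of_ncard_le (Set.subset_univ _) (by
    rw [Set.ncard_univ, ← Nat.card_coe_set_eq]; omega)
  refine MulAction.IsPretransitive.mk fun B C => ?_
  obtain ⟨n, hn⟩ : B ∈ O := huniv ▸ Set.mem_univ B
  obtain ⟨n', hn'⟩ : C ∈ O := huniv ▸ Set.mem_univ C
  refine ⟨n' * n⁻¹, ?_⟩
  rw [← hn, ← hn', mul_smul, inv_smul_smul]

/-- A two-point stabilizer of order 360 is transitive on the hyperplanes. -/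
theorem meet_planes {g : G} (hg : Nat.card (D.meet g) = 360) (A B : D.Plane) :
    ∃ j ∈ D.meet g, A.1.map (MulAut.conj j).toMonoidHom = B.1 := by
  obtain ⟨htr, h15⟩ := planes_transitive hG T D A
  haveI := htr
  obtain ⟨j, hj, he⟩ := sub_transitive D.card_normalizer h15 (J := (D.meet g).subgroupOf D.N)
    (by rw [Nat.card_congr (subgroupOfEquivOfLe (show D.meet g ≤ D.N from inf_le_left)).toEquiv, hg]) A B
  exact ⟨(j : G), hj, congrArg Subtype.val he⟩

/-- A two-point stabilizer of order 360 is transitive on the nontrivial elements. -/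
theorem meet_pts {g : G} (hg : Nat.card (D.meet g) = 360) {x y : G} (hx : x ∈ D.E) (hx1 : x ≠ 1)
    (hy : y ∈ D.E) (hy1 : y ≠ 1) : ∃ j ∈ D.meet g, j * x * j⁻¹ = y := by
  classical
  haveI : MulAction.IsPretransitive D.N D.Pts := ⟨fun a b => by
    obtain ⟨n, hn, he⟩ := D.trans a.1 a.2.1 a.2.2 b.1 b.2.1 b.2.2
    exact ⟨⟨n, hn⟩, Subtype.ext he⟩⟩
  have h15 : Nat.card D.Pts = 15 := by
    rw [Nat.card_eq_fintype_card, Fintype.card_subtype,
      show (Finset.univ.filter fun s : G => s ∈ D.E ∧ s ≠ 1) =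
        (Finset.univ.filter (· ∈ D.E)).erase 1 by ext; simp [and_comm],
      Finset.card_erase_of_mem (by simp [one_mem]), ← Fintype.card_subtype,
      ← Nat.card_eq_fintype_card, show Nat.card {x : G // x ∈ D.E} = 16 from D.card]
  obtain ⟨j, hj, he⟩ := sub_transitive D.card_normalizer h15 (J := (D.meet g).subgroupOf D.N)
    (by rw [Nat.card_congr (subgroupOfEquivOfLe (show D.meet g ≤ D.N from inf_le_left)).toEquiv, hg])
    (⟨x, hx, hx1⟩ : D.Pts) ⟨y, hy, hy1⟩
  exact ⟨(j : G), hj, congrArg Subtype.val he⟩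

/-- A point of the smaller suborbit exchanged with the base point. -/
theorem exists_swap : ∃ g : G, g ∉ D.N ∧ g * g ∈ D.N ∧ Nat.card (D.meet g) = 360 ∧
    Nat.card (D.fixE g) = 1 := by
  classical
  obtain ⟨y, hy, hy360⟩ : ∃ y, y ∉ D.N ∧ Nat.card (D.meet y) = 360 := by
    by_contra hno
    push Not at hno
    obtain ⟨y, hy⟩ : ∃ y, y ∉ D.N := by
      by_contra h
      push Not at h
      have h0 : Nat.card D.N = 40320 := D.card_normalizer
      rw [show D.N = ⊤ from eq_top_iff.2 fun z _ => h z, card_top, hG] at h0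
      norm_num [ord] at h0
    haveI : Fintype (G ⧸ D.N) := Fintype.ofFinite _
    let O : Set (G ⧸ D.N) := MulAction.orbit D.N (y : G ⧸ D.N)
    have hsub : (Set.univ : Set (G ⧸ D.N)) ⊆ insert ((1 : G) : G ⧸ D.N) O := by
      intro w _
      induction w using QuotientGroup.induction_on with | _ z => ?_
      by_cases hz : z ∈ D.N
      · exact Or.inl (by rw [QuotientGroup.eq, mul_one]; exact inv_mem hz)
      right
      have e1 := ((meet_cases hG T D hy).resolve_left fun h => hno y hy h.1).1
      have e2 := ((meet_cases hG T D hz).resolve_left fun h => hno z hz h.1).1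
      obtain ⟨n, hn, h⟩ := same_double_coset hG T D hy hz (e1.trans e2.symm)
      exact ⟨⟨n, hn⟩, show ((n * y : G) : G ⧸ D.N) = z from QuotientGroup.eq.2 h⟩
    have hle := Set.ncard_le_ncard hsub
    rw [Set.ncard_univ, card_points hG T D] at hle
    have hins := Set.ncard_insert_le ((1 : G) : G ⧸ D.N) O
    have hs := Subgroup.card_mul_index (MulAction.stabilizer D.N (y : G ⧸ D.N))
    rw [MulAction.index_stabilizer, D.card_normalizer] at hs
    have e : Nat.card (MulAction.stabilizer D.N (y : G ⧸ D.N)) = Nat.card (D.meet y) := Nat.card_congr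
      { toFun := fun c => ⟨(c.1 : G), c.1.2, (smul_point_eq _ _ y).1 c.2⟩
        invFun := fun c => ⟨⟨c.1, c.2.1⟩, (smul_point_eq _ _ y).2 c.2.2⟩
        left_inv := fun _ => rfl
        right_inv := fun _ => rfl }
    rw [e, ((meet_cases hG T D hy).resolve_left fun h => hno y hy h.1).1] at hs
    change 288 * O.ncard = 40320 at hs
    omega
  have hy' : y⁻¹ ∉ D.N := fun h => hy (inv_mem_iff.1 h)
  have hinv : Nat.card (D.meet y⁻¹) = Nat.card (D.meet y) :=
    Nat.card_congr
      { toFun := fun c => ⟨y * (c.1 : G) * y⁻¹, by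
          have := mem_conj_iff.1 c.2.2
          simpa [inv_inv] using this, mem_conj_iff.2 (by simpa [mul_assoc] using c.2.1)⟩
        invFun := fun c => ⟨y⁻¹ * (c.1 : G) * y, mem_conj_iff.1 c.2.2, mem_conj_iff.2 (by
          simpa [mul_assoc] using c.2.1)⟩
        left_inv := fun c => Subtype.ext (by simp [mul_assoc])
        right_inv := fun c => Subtype.ext (by simp [mul_assoc]) }
  obtain ⟨k, hk, h⟩ := same_double_coset hG T D hy hy' hinv.symm
  have hm : D.meet (y * k) = D.meet y := by
    ext c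
    simp only [NData.meet, Subgroup.mem_inf, mem_conj_iff]
    refine and_congr_right fun _ => ?_
    rw [show (y * k)⁻¹ * c * (y * k) = k⁻¹ * (y⁻¹ * c * y) * k by group]
    exact ⟨fun h => by simpa [mul_assoc] using mul_mem (mul_mem hk h) (inv_mem hk),
      fun h => mul_mem (mul_mem (inv_mem hk) h) hk⟩
  have hgN : y * k ∉ D.N := fun h' => hy ((mul_mem_cancel_right hk).1 h')
  refine ⟨y * k, hgN, ?_, by rw [hm, hy360], ?_⟩
  · have h2 := inv_mem h
    rw [show ((k * y)⁻¹ * y⁻¹)⁻¹ = y * k * y by group] at h2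
    rw [show y * k * (y * k) = (y * k * y) * k by group]
    exact mul_mem h2 hk
  · rcases meet_cases hG T D hgN with ⟨-, e⟩ | ⟨e, -⟩
    · exact e
    · rw [hm, hy360] at e; norm_num at e

end Cfsg.Agent.Fg24.M23
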