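import Cfsg.Agent.Fg24.M23.Spherical

/-!
# A common fixed vector
-/

set_option autoImplicit false
set_option linter.unusedSectionVars false

namespace Cfsg.Agent.Fg24.M23

open Cfsg Cfsg.Agent Cfsg.Agent.Char Subgroup
open scoped ComplexConjugate

universe u

variable {G : Type u} [Group G] [Fintype G] [IsSimpleGroup G] (hG : Nat.card G = ord)
variable [Fact (Nat.Prime 11)] [Fact (Nat.Prime 23)] [Fact (Nat.Prime 5)] [Fact (Nat.Prime 7)]
variable (T : Table G) (D : NData G)

theorem sum_subgroup_E (f : G → ℂ) {K : Subgroup G} [Fintype K] {c : ℂ}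
    (hf : ∀ x ∈ K, x ≠ 1 → f x = c) :
    ∑ x : K, f (x : G) = f 1 + ((Nat.card K : ℂ) - 1) * c := by
  classical
  rw [← Finset.add_sum_erase _ _ (Finset.mem_univ (1 : K)),
    Finset.sum_congr rfl (g := fun _ => c) fun (x : K) hx => hf x x.2 fun h =>
      Finset.ne_of_mem_erase hx (Subtype.ext h),
    Finset.sum_const, Finset.card_erase_of_mem (Finset.mem_univ _), Finset.card_univ,
    ← Nat.card_eq_fintype_card, nsmul_eq_mul, Nat.cast_sub Nat.card_pos, OneMemClass.coe_one,
    Nat.cast_one]

include hG T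

theorem card_meet_inv {g : G} :
    Nat.card (D.meet g⁻¹) = Nat.card (D.meet g) :=
  Nat.card_congr
    { toFun := fun c => ⟨g * (c.1 : G) * g⁻¹, by
        have := mem_conj_iff.1 c.2.2
        simpa [inv_inv] using this, mem_conj_iff.2 (by simpa [mul_assoc] using c.2.1)⟩
      invFun := fun c => ⟨g⁻¹ * (c.1 : G) * g, mem_conj_iff.1 c.2.2, mem_conj_iff.2 (by
        simpa [mul_assoc] using c.2.1)⟩
      left_inv := fun c => Subtype.ext (by simp [mul_assoc])
      right_inv := fun c => Subtype.ext (by simp [mul_assoc]) }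

open scoped Classical in
/-- The number of elements of the smaller double coset. -/
theorem card_coset {g : G} (hg : g ∉ D.N) (h360 : Nat.card (D.meet g) = 360) :
    (Finset.univ.filter fun x => x ∉ D.N ∧ Nat.card (D.meet x) = 360).card = 40320 * 112 := by
  classical
  let O : Set (G ⧸ D.N) := MulAction.orbit D.N (g : G ⧸ D.N)
  have hmeet : ∀ n ∈ D.N, ∀ m ∈ D.N, ∀ x, Nat.card (D.meet (n * x * m)) = Nat.card (D.meet x) := by
    intro n hn m hm x
    have hiff : ∀ c, c ∈ D.meet (n * x * m) ↔ n⁻¹ * c * n ∈ D.meet x := by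
      intro c
      simp only [NData.meet, Subgroup.mem_inf, mem_conj_iff]
      rw [show (n * x * m)⁻¹ * c * (n * x * m) = m⁻¹ * (x⁻¹ * (n⁻¹ * c * n) * x) * m by group,
        show x⁻¹ * (n⁻¹ * c * n) * x = x⁻¹ * (n⁻¹ * c * n) * x from rfl]
      refine and_congr ⟨fun h => mul_mem (mul_mem (inv_mem hn) h) hn, fun h => ?_⟩
        ⟨fun h => ?_, fun h => mul_mem (mul_mem (inv_mem hm) h) hm⟩
      · simpa [mul_assoc] using mul_mem (mul_mem hn h) (inv_mem hn)
      · simpa [mul_assoc] using mul_mem (mul_mem hm h) (inv_mem hm)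
    exact Nat.card_congr
      { toFun := fun c => ⟨n⁻¹ * (c : G) * n, (hiff _).1 c.2⟩
        invFun := fun c => ⟨n * (c : G) * n⁻¹, (hiff _).2 (by simpa [mul_assoc] using c.2)⟩
        left_inv := fun c => Subtype.ext (by simp [mul_assoc])
        right_inv := fun c => Subtype.ext (by simp [mul_assoc]) }
  have hset : ∀ x : G, (x ∉ D.N ∧ Nat.card (D.meet x) = 360) ↔ (x : G ⧸ D.N) ∈ O := by
    intro x
    constructor
    · rintro ⟨hx, hx'⟩
      obtain ⟨n, hn, h⟩ := same_double_coset hG T D hg hx (h360.trans hx'.symm)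
      exact ⟨⟨n, hn⟩, show ((n * g : G) : G ⧸ D.N) = x from QuotientGroup.eq.2 h⟩
    · rintro ⟨n, hn⟩
      change (((n : G) * g : G) : G ⧸ D.N) = x at hn
      rw [QuotientGroup.eq] at hn
      obtain ⟨m, hm, rfl⟩ : ∃ m ∈ D.N, (n : G) * g * m = x := ⟨_, hn, by group⟩
      refine ⟨fun h => hg ?_, (hmeet n n.2 m hm g).trans h360⟩
      have := mul_mem (mul_mem (inv_mem n.2) h) (inv_mem hm)
      simpa [mul_assoc] using this
  have hO : Nat.card O = 112 := by
    have hs := Subgroup.card_mul_index (MulAction.stabilizer D.N (g : G ⧸ D.N))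
    rw [MulAction.index_stabilizer, D.card_normalizer, ← Nat.card_coe_set_eq] at hs
    have e : Nat.card (MulAction.stabilizer D.N (g : G ⧸ D.N)) = Nat.card (D.meet g) := Nat.card_congr
      { toFun := fun c => ⟨(c.1 : G), c.1.2, (smul_point_eq _ _ g).1 c.2⟩
        invFun := fun c => ⟨⟨c.1, c.2.1⟩, (smul_point_eq _ _ g).2 c.2.2⟩
        left_inv := fun _ => rfl
        right_inv := fun _ => rfl }
    rw [e, h360] at hs
    change 360 * Nat.card O = 40320 at hs
    omega
  rw [← Fintype.card_subtype, ← Nat.card_eq_fintype_card,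
    show Nat.card {x : G // x ∉ D.N ∧ Nat.card (D.meet x) = 360} =
      Nat.card (QuotientGroup.mk ⁻¹' O : Set G) from
      Nat.card_congr (Equiv.subtypeEquivRight hset),
    Nat.card_congr (QuotientGroup.preimageMkEquivSubgroupProdSet D.N O), Nat.card_prod, hO,
    show Nat.card D.N = 40320 from D.card_normalizer]

set_option maxHeartbeats 1000000 in
/-- A subgroup fixing a vector contains the elementary subgroup, its conjugate and their common
stabilizer. -/
theorem exists_big_stab : ∃ (g : G) (X : Subgroup G), g ∉ D.N ∧ g * g ∈ D.N ∧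
    Nat.card (D.meet g) = 360 ∧ Nat.card (D.fixE g) = 1 ∧ X ≠ ⊤ ∧ D.E ≤ X ∧ D.meet g ≤ X ∧
    D.E.map (MulAut.conj g).toMonoidHom ≤ X := by
  classical
  obtain ⟨g, hgN, hgg, h360, hfix1⟩ := exists_swap hG T D
  obtain ⟨χ, ψ, hd22, -, -, hinner, -, -⟩ := exists_pi hG T D
  obtain ⟨d, ρ, hρ, hchar⟩ := χ.2
  have hd : d = 22 := by
    have h := congrFun hchar 1
    rw [value_one, hd22, Representation.char_one, Module.finrank_fin_fun] at h
    exact_mod_cast h
  have hne : χ ≠ Blocks.triv G := fun e => by rw [e, dg_triv] at hd22; norm_num at hd22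
  set J := D.meet g with hJ
  haveI : ∀ K : Subgroup G, Fintype K := fun K => Fintype.ofFinite _
  -- dimensions
  have htot : Module.finrank ℂ (fixV ρ (⊤ : Subgroup G)) = 0 := by
    have h := finrank_fixV ρ (⊤ : Subgroup G)
    rw [hchar] at h
    have h0 : classInner (χ : G → ℂ) ((Blocks.triv G : Cfsg.IrrCharacter G) : G → ℂ) = 0 :=
      classInner_irr_ne χ.2 (Blocks.triv G).2 fun e => hne (Subtype.ext e)
    simp only [classInner, triv_apply, map_one, mul_one] at h0
    rw [Nat.card_congr (Subgroup.topEquiv (G := G)).toEquiv,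
      Fintype.sum_equiv (Subgroup.topEquiv (G := G)).toEquiv (fun k : (⊤ : Subgroup G) => (χ : G → ℂ) k)
        (fun k => (χ : G → ℂ) k) fun _ => rfl, h0] at h
    exact_mod_cast h
  have hzero : ∀ v : Fin d → ℂ, (∀ x : G, ρ x v = v) → v = 0 := by
    intro v hv
    have hb := Submodule.finrank_eq_zero.1 htot
    have hm : v ∈ fixV ρ (⊤ : Subgroup G) := fun k _ => hv k
    rw [hb, Submodule.mem_bot] at hm
    exact hm
  have hval : ∀ x ∈ D.E, x ≠ 1 → (χ : G → ℂ) x = 6 := by
    intro x hx hx1
    obtain ⟨w, hw, e⟩ := T.value_mem (D.orderOf_eq hx hx1) χ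
    rw [hd22] at hw
    have : w = 6 := by simpa [degs17, vals17] using hw
    rw [e, this]; norm_num
  have hdimE : ∀ K : Subgroup G, K ≤ D.E →
      (Module.finrank ℂ (fixV ρ K) : ℂ) = (Nat.card K : ℂ)⁻¹ * (22 + ((Nat.card K : ℂ) - 1) * 6) := by
    intro K hK
    rw [finrank_fixV ρ K, hchar, sum_subgroup_E (χ : G → ℂ) fun x hx h1 => hval x (hK hx) h1,
      value_one, hd22]
    norm_num
  have hdE : Module.finrank ℂ (fixV ρ D.E) = 7 := by
    have h := hdimE D.E le_rfl
    rw [D.card] at h
    norm_num at h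
    exact_mod_cast h
  have hdA : ∀ A : D.Plane, Module.finrank ℂ (fixV ρ A.1) = 8 := by
    intro A
    have h := hdimE A.1 A.2.1
    rw [A.2.2] at h
    norm_num at h
    exact_mod_cast h
  have hdN : Module.finrank ℂ (fixV ρ D.N) = 1 := by
    haveI : Fintype (G ⧸ D.N) := Fintype.ofFinite _
    have hpi : ∀ x : G, (D.pi x : ℂ) =
        ∑ y : G ⧸ D.N, if x • y = y then (1 : ℂ) else 0 := fun x => by
      rw [Finset.sum_boole, NData.pi, Nat.card_eq_fintype_card, ← Fintype.card_subtype]
      rfl
    have hswap : ∀ y : G ⧸ D.N, (∑ x : G, if x • y = y then conj ((χ : G → ℂ) x) else 0) =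
        ∑ k : D.N, conj ((χ : G → ℂ) k) := by
      intro y
      induction y using QuotientGroup.induction_on with | _ y => ?_
      rw [← Finset.sum_filter, Finset.sum_subtype (p := fun x : G => y⁻¹ * x * y ∈ D.N) _ (fun x => by
        simp only [Finset.mem_filter, Finset.mem_univ, true_and]
        rw [smul_point_eq, mem_conj_iff])]
      let e : {x : G // y⁻¹ * x * y ∈ D.N} ≃ D.N :=
        { toFun := fun x => ⟨y⁻¹ * (x : G) * y, x.2⟩
          invFun := fun k => ⟨y * (k : G) * y⁻¹, by simpa [mul_assoc] using k.2⟩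
          left_inv := fun x => Subtype.ext (by simp [mul_assoc])
          right_inv := fun x => Subtype.ext (by simp [mul_assoc]) }
      refine Fintype.sum_equiv e _ _ fun x => ?_
      show conj ((χ : G → ℂ) (x : G)) = conj ((χ : G → ℂ) (y⁻¹ * (x : G) * y))
      rw [show y⁻¹ * (x : G) * y = y⁻¹ * (x : G) * y⁻¹⁻¹ by rw [inv_inv],
        isClassFunction_of_isIrr χ.2 (x : G) y⁻¹]
    simp only [classInner, hpi, Finset.sum_mul, ite_mul, one_mul, zero_mul] at hinner
    rw [Finset.sum_comm, Finset.sum_congr rfl fun y _ => hswap y, Finset.sum_const, Finset.card_univ,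
      ← Nat.card_eq_fintype_card, card_points hG T D, hG, nsmul_eq_mul] at hinner
    have h := finrank_fixV ρ D.N
    rw [hchar, show Nat.card D.N = 40320 from D.card_normalizer] at h
    have h' := congrArg conj h
    rw [map_natCast, map_mul, map_inv₀, map_natCast, map_sum] at h'
    generalize (∑ k : D.N, conj ((χ : G → ℂ) k)) = S at h' hinner
    simp only [ord] at hinner
    norm_num at hinner h'
    have : (Module.finrank ℂ (fixV ρ D.N) : ℂ) = 1 := by
      rw [h']; linear_combination hinner
    exact_mod_cast this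
  -- the spherical function
  obtain ⟨⟨v, hv⟩, hv0, hspan⟩ := finrank_eq_one_iff'.1 hdN
  have hv1 : v ≠ 0 := fun h => hv0 (Subtype.ext h)
  choose φ hφ using fun x : G => hspan ⟨avgV ρ D.N (ρ x v), avgV_mem ρ D.N _⟩
  have hφ' : ∀ x, avgV ρ D.N (ρ x v) = φ x • v := fun x => (congrArg Subtype.val (hφ x)).symm
  have hcancel : ∀ {c c' : ℂ}, c • v = c' • v → c = c' := fun h => smul_left_injective ℂ hv1 h
  have hφ1 : φ 1 = 1 := hcancel (by
    rw [← hφ', map_one, one_smul]
    exact avgV_id ρ D.N hv)
  have hφN : ∀ n ∈ D.N, ∀ x, ∀ m ∈ D.N, φ (n * x * m) = φ x := fun n hn x m hm => hcancel (by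
    rw [← hφ', ← hφ', map_mul, map_mul, Module.End.mul_apply, Module.End.mul_apply, hv m hm,
      avgV_mul ρ D.N hn])
  have hφeq : ∀ x y, x ∉ D.N → y ∉ D.N → Nat.card (D.meet x) = Nat.card (D.meet y) → φ x = φ y := by
    intro x y hx hy e
    obtain ⟨n, hn, h⟩ := same_double_coset hG T D hx hy e
    rw [← hφN n hn x _ h, mul_inv_cancel_left]
  have hφinv : ∀ x, φ x⁻¹ = φ x := by
    intro x
    by_cases hx : x ∈ D.N
    · have e : ∀ n ∈ D.N, φ n = 1 := fun n hn => by
        have := hφN n hn 1 1 (one_mem _)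
        rwa [mul_one, mul_one, hφ1] at this
      rw [e x hx, e x⁻¹ (inv_mem hx)]
    · exact hφeq _ _ (fun h => hx (inv_mem_iff.1 h)) hx (card_meet_inv hG T D)
  set a := φ g with ha
  obtain ⟨b, hb⟩ : ∃ b, ∀ x, x ∉ D.N → Nat.card (D.meet x) = 288 → φ x = b := by
    by_cases h : ∃ x, x ∉ D.N ∧ Nat.card (D.meet x) = 288
    · obtain ⟨y, hy, hy'⟩ := h
      exact ⟨φ y, fun x hx hx' => hφeq x y hx hy (hx'.trans hy'.symm)⟩
    · exact ⟨0, fun x hx hx' => absurd ⟨x, hx, hx'⟩ h⟩
  have hvalue : ∀ x, φ x = if x ∈ D.N then 1 else if Nat.card (D.meet x) = 360 then a else b := by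
    intro x
    split_ifs with h1 h2
    · have := hφN x h1 1 1 (one_mem _)
      rwa [mul_one, mul_one, hφ1] at this
    · exact hφeq x g h1 hgN (h2.trans h360.symm)
    · exact hb x h1 ((meet_cases hG T D h1).resolve_left fun h => h2 h.1).1
  have hsplit : ∀ f : ℂ → ℂ, ∑ x : G, f (φ x) =
      40320 * (f 1 + 112 * f a + 140 * f b) := by
    intro f
    have cN : (Finset.univ.filter fun x : G => x ∈ D.N).card = 40320 := by
      rw [← Fintype.card_subtype, ← Nat.card_eq_fintype_card]; exact D.card_normalizer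
    have cA := card_coset hG T D hgN h360
    have cB : (Finset.univ.filter fun x : G => x ∉ D.N ∧ ¬ Nat.card (D.meet x) = 360).card =
        40320 * 140 := by
      have h1 := Finset.card_filter_add_card_filter_not (s := (Finset.univ : Finset G))
        (fun x => x ∈ D.N)
      have h2 := Finset.card_filter_add_card_filter_not
        (s := Finset.univ.filter fun x : G => ¬ x ∈ D.N) (fun x => Nat.card (D.meet x) = 360)
      rw [Finset.filter_filter, Finset.filter_filter, cA] at h2
      rw [cN, Finset.card_univ, ← Nat.card_eq_fintype_card, hG] at h1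
      simp only [ord] at h1
      omega
    simp only [hvalue, apply_ite f]
    rw [Finset.sum_ite, Finset.sum_ite, Finset.sum_const, Finset.sum_const, Finset.sum_const,
      Finset.filter_filter, Finset.filter_filter, cN, cA, cB, nsmul_eq_mul, nsmul_eq_mul, nsmul_eq_mul]
    push_cast
    ring
  have hE1 : 1 + 112 * a + 140 * b = 0 := by
    have h0 : avgV ρ D.N (∑ x : G, ρ x v) = 0 := by
      rw [hzero (∑ x : G, ρ x v) fun y => by
        rw [map_sum]
        refine Fintype.sum_equiv (Equiv.mulLeft y) _ _ fun x => ?_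
        show ρ y (ρ x v) = ρ (y * x) v
        rw [map_mul]; rfl, map_zero]
    rw [map_sum] at h0
    simp only [hφ', ← Finset.sum_smul] at h0
    have h := (smul_eq_zero.1 h0).resolve_right hv1
    rw [hsplit fun z => z] at h
    linear_combination h / 40320
  have hE2 : 1 + 112 * a ^ 2 + 140 * b ^ 2 = 23 / 2 := by
    obtain ⟨c, hc, hcd⟩ := commute_eq_scalar ρ hρ (∑ x : G, ρ x * avgV ρ D.N * ρ x⁻¹) fun h => by
      rw [Finset.sum_mul, Finset.mul_sum]
      refine Fintype.sum_equiv (Equiv.mulLeft h⁻¹) _ _ fun x => ?_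
      show ρ x * avgV ρ D.N * ρ x⁻¹ * ρ h = ρ h * (ρ (h⁻¹ * x) * avgV ρ D.N * ρ (h⁻¹ * x)⁻¹)
      rw [mul_inv_rev, inv_inv, map_mul ρ h⁻¹ x, map_mul ρ x⁻¹ h]
      simp only [← mul_assoc]
      rw [← map_mul ρ h h⁻¹, mul_inv_cancel, map_one ρ, one_mul]
    have htr : LinearMap.trace ℂ _ (∑ x : G, ρ x * avgV ρ D.N * ρ x⁻¹) = (Nat.card G : ℂ) := by
      rw [map_sum, Finset.sum_congr rfl (g := fun _ => (1 : ℂ)) fun x _ => by
        rw [LinearMap.trace_mul_cycle, ← map_mul, inv_mul_cancel, map_one, one_mul,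
          trace_avgV, ← finrank_fixV, hdN, Nat.cast_one],
        Finset.sum_const, Finset.card_univ, ← Nat.card_eq_fintype_card, nsmul_one]
    rw [Module.finrank_fin_fun, htr, hd, hG] at hcd
    have h := congrArg (avgV ρ D.N) (LinearMap.congr_fun hc v)
    simp only [LinearMap.sum_apply, Module.End.mul_apply, LinearMap.smul_apply, LinearMap.id_apply,
      map_sum, map_smul, hφ', avgV_id ρ D.N hv, smul_smul, ← Finset.sum_smul] at h
    have h' := hcancel h
    rw [Finset.sum_congr rfl (g := fun x => φ x * φ x) fun x _ => by rw [hφinv],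
      hsplit fun z => z * z] at h'
    simp only [ord] at hcd
    push_cast at hcd
    linear_combination (h' / 40320) + hcd / (40320 * 22)
  -- the fixed space of the stabilizer in the space fixed by the elementary subgroup
  have hJN : ∀ j ∈ J, j ∈ normalizer (D.E : Set G) := fun j hj => hj.1
  have hgconj : ∀ j ∈ J, g⁻¹ * j * g ∈ J := by
    intro j hj
    refine ⟨mem_conj_iff.1 hj.2, mem_conj_iff.2 ?_⟩
    have := mul_mem (mul_mem (inv_mem hgg) hj.1) hgg
    simpa [mul_assoc] using this
  set W := fixV ρ D.E ⊓ fixV ρ J with hW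
  have hvW : v ∈ W := ⟨fixV_anti ρ D.le_N hv, fixV_anti ρ inf_le_left hv⟩
  have hr : 2 ≤ Module.finrank ℂ W := by
    by_contra hlt
    have hline : W ≤ Submodule.span ℂ {v} := by
      have h1 : Submodule.span ℂ {v} = W := Submodule.eq_of_le_of_finrank_le
        ((Submodule.span_singleton_le_iff_mem _ _).2 hvW)
        (by rw [finrank_span_singleton hv1]; omega)
      exact h1.ge
    have hmemW : avgV ρ D.E (ρ g v) ∈ W := ⟨avgV_mem ρ D.E _, fun j hj => by
      rw [avgV_comm ρ D.E (hJN j hj)]
      congr 1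
      calc ρ j (ρ g v) = ρ g (ρ (g⁻¹ * j * g) v) := by
            rw [← Module.End.mul_apply, ← map_mul, ← Module.End.mul_apply, ← map_mul]
            congr 2; group
        _ = ρ g v := by rw [hv _ (hgconj j hj).1]⟩
    obtain ⟨c, hc⟩ := Submodule.mem_span_singleton.1 (hline hmemW)
    have hNE : ∀ w, avgV ρ D.N (avgV ρ D.E w) = avgV ρ D.N w := fun w => by
      rw [avgV_apply ρ D.E, map_smul, map_sum,
        Finset.sum_congr rfl fun k _ => avgV_mul ρ D.N (D.le_N k.2) w,
        Finset.sum_const, Finset.card_univ, ← Nat.cast_smul_eq_nsmul ℂ, smul_smul,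
        ← Nat.card_eq_fintype_card, inv_mul_cancel₀ (Nat.cast_ne_zero.2 Nat.card_pos.ne'), one_smul]
    have hca : c = a := hcancel (by
      have := congrArg (avgV ρ D.N) hc
      rw [map_smul, avgV_id ρ D.N hv, hNE, hφ'] at this
      exact this)
    have h := congrArg (fun w => avgV ρ D.N (ρ g⁻¹ w)) hc
    simp only [map_smul, hφ', hφinv, avgV_apply ρ D.E, map_sum, smul_smul,
      ← Module.End.mul_apply, ← map_mul] at h
    rw [← Finset.sum_smul, smul_smul, hca, D.card] at h
    have h' := hcancel h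
    simp only [← mul_assoc] at h'
    have he : ∀ e : D.E, e ≠ 1 → g⁻¹ * (e : G) * g ∉ D.N := fun e he hm => he (Subtype.ext (by
      have hmem : (e : G) ∈ D.fixE g := ⟨e.2, mem_conj_iff.2 hm⟩
      rw [eq_bot_of_card_eq _ hfix1] at hmem
      exact hmem))
    rw [← Finset.add_sum_erase _ _ (Finset.mem_univ (1 : D.E)),
      Finset.sum_congr rfl (s₁ := Finset.univ.erase (1 : D.E))
        (g := fun e : D.E => if Nat.card (D.meet (g⁻¹ * (e : G) * g)) = 360 then a else b)
        fun e hm => by
          rw [hvalue, if_neg (he e (Finset.ne_of_mem_erase hm))],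
      OneMemClass.coe_one, mul_one, inv_mul_cancel, hφ1, Finset.sum_ite, Finset.sum_const,
      Finset.sum_const, nsmul_eq_mul, nsmul_eq_mul] at h'
    have hcount := Finset.card_filter_add_card_filter_not
      (s := (Finset.univ : Finset D.E).erase 1)
      (fun e : D.E => Nat.card (D.meet (g⁻¹ * (e : G) * g)) = 360)
    rw [Finset.card_erase_of_mem (Finset.mem_univ _), Finset.card_univ, ← Nat.card_eq_fintype_card,
      D.card] at hcount
    generalize (Finset.filter (fun e : D.E => Nat.card (D.meet (g⁻¹ * (e : G) * g)) = 360)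
      ((Finset.univ : Finset D.E).erase 1)).card = n at h' hcount
    generalize (Finset.filter (fun e : D.E => ¬ Nat.card (D.meet (g⁻¹ * (e : G) * g)) = 360)
      ((Finset.univ : Finset D.E).erase 1)).card = m at h' hcount
    have hm' : (m : ℂ) = 15 - n := by
      have : (n : ℂ) + m = 15 := by exact_mod_cast hcount
      linear_combination this
    rw [hm'] at h'
    push_cast at h'
    exact spherical_arith hE1 hE2 (n := n) (by linear_combination 16 * h')
  -- eigenvectors
  have hweights : (⊤ : Submodule ℂ (Fin d → ℂ)) ≤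
      Submodule.span ℂ {w : Fin d → ℂ | ∀ e ∈ D.E, ρ e w = w ∨ ρ e w = -w} := by
    have := eigen_span ρ (Finset.univ.filter (· ∈ D.E)).toList
      (fun e he => D.sq e (by simpa using he))
      fun e he f hf => D.comm e (by simpa using he) f (by simpa using hf)
    refine this.trans (Submodule.span_mono fun w hw e he => hw e (by simpa using he))
  have hplane : ∀ w, w ∉ fixV ρ D.E → (∀ e ∈ D.E, ρ e w = w ∨ ρ e w = -w) →
      ∃ A : D.Plane, fixV ρ A.1 = fixV ρ D.E ⊔ Submodule.span ℂ {w} := by
    intro w hw hwe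
    let A : Subgroup G :=
      { carrier := {x | x ∈ D.E ∧ ρ x w = w}
        one_mem' := ⟨one_mem _, by simp⟩
        mul_mem' := fun {x y} hx hy => ⟨mul_mem hx.1 hy.1, by
          rw [map_mul, Module.End.mul_apply, hy.2, hx.2]⟩
        inv_mem' := fun {x} hx => by
          rw [inv_eq_of_mul_eq_one_right (D.sq x hx.1)]; exact hx }
    have hAE : A ≤ D.E := fun x hx => hx.1
    obtain ⟨a₀, ha₀, ha₀'⟩ : ∃ a₀ ∈ D.E, ρ a₀ w ≠ w := by
      by_contra h
      push Not at h
      exact hw h
    have h8 : Nat.card A = 8 := by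
      have hE' : Nat.card D.E = 2 * Nat.card A := by
        rw [← Fintype.card_bool, ← Nat.card_eq_fintype_card, ← Nat.card_prod]
        refine (Nat.card_congr (Equiv.ofBijective
          (fun q : Bool × A => (⟨(if q.1 then a₀ else 1) * (q.2 : G),
            mul_mem (by split_ifs; exacts [ha₀, one_mem _]) q.2.2.1⟩ : D.E)) ⟨?_, ?_⟩)).symm
        · rintro ⟨i, x⟩ ⟨j, y⟩ h
          have h' : (if i then a₀ else 1) * (x : G) = (if j then a₀ else 1) * (y : G) :=
            congrArg Subtype.val h
          have hx : ∀ z : A, ρ (z : G) w = w := fun z => z.2.2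
          cases i <;> cases j <;> simp only [Bool.false_eq_true, if_false, if_true] at h'
          · rw [one_mul, one_mul] at h'; rw [Subtype.ext h']
          · exfalso; apply ha₀'
            have := congrArg (fun z => ρ z w) h'
            simp only [one_mul, map_mul, Module.End.mul_apply, hx] at this
            exact this.symm
          · exfalso; apply ha₀'
            have := congrArg (fun z => ρ z w) h'
            simp only [one_mul, map_mul, Module.End.mul_apply, hx] at this
            exact this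
          · rw [Subtype.ext (mul_left_cancel h')]
        · rintro ⟨x, hx⟩
          rcases hwe x hx with h | h
          · exact ⟨(false, ⟨x, hx, h⟩), Subtype.ext (one_mul x)⟩
          · refine ⟨(true, ⟨a₀ * x, mul_mem ha₀ hx, ?_⟩), Subtype.ext ?_⟩
            · rw [map_mul, Module.End.mul_apply, h, map_neg,
                (hwe a₀ ha₀).resolve_left ha₀', neg_neg]
            · show a₀ * (a₀ * x) = x
              rw [← mul_assoc, D.sq a₀ ha₀, one_mul]
      rw [D.card] at hE'
      omega
    refine ⟨⟨A, hAE, h8⟩, (Submodule.eq_of_le_of_finrank_le ?_ ?_).symm⟩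
    · exact sup_le (fixV_anti ρ hAE) ((Submodule.span_singleton_le_iff_mem _ _).2 fun k hk => hk.2)
    · rw [hdA ⟨A, hAE, h8⟩]
      have hlt : fixV ρ D.E < fixV ρ D.E ⊔ Submodule.span ℂ {w} := by
        refine lt_of_le_of_ne le_sup_left fun e => hw ?_
        rw [e]
        exact Submodule.mem_sup_right (Submodule.mem_span_singleton_self w)
      have := Submodule.finrank_lt_finrank_of_lt hlt
      rw [hdE] at this
      omega
  obtain ⟨w₀, hw₀, hw₀'⟩ : ∃ w, (∀ e ∈ D.E, ρ e w = w ∨ ρ e w = -w) ∧ w ∉ fixV ρ D.E := by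
    by_contra h
    push Not at h
    have h1 : (⊤ : Submodule ℂ (Fin d → ℂ)) ≤ fixV ρ D.E :=
      hweights.trans (Submodule.span_le.2 fun w hw => h w hw)
    have := Submodule.finrank_mono h1
    rw [finrank_top, Module.finrank_fin_fun, hdE, hd] at this
    omega
  obtain ⟨A₀, hA₀⟩ := hplane w₀ hw₀' hw₀
  have hFJ : fixV ρ J ≤ W ⊔ Submodule.span ℂ {avgV ρ J w₀} := by
    intro x hx
    have hmap : ∀ y, avgV ρ J y ∈ W ⊔ Submodule.span ℂ {avgV ρ J w₀} := by
      intro y
      have hy : y ∈ Submodule.span ℂ {w : Fin d → ℂ | ∀ e ∈ D.E, ρ e w = w ∨ ρ e w = -w} :=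
        hweights Submodule.mem_top
      induction hy using Submodule.span_induction with
      | zero => rw [map_zero]; exact zero_mem _
      | add p q _ _ hp hq => rw [map_add]; exact add_mem hp hq
      | smul c p _ hp => rw [map_smul]; exact Submodule.smul_mem _ c hp
      | mem w hw =>
        have hF : ∀ u ∈ fixV ρ D.E, avgV ρ J u ∈ W := fun u hu => ⟨fun e he => by
          rw [avgV_apply, map_smul, map_sum]
          congr 1
          refine Finset.sum_congr rfl fun j _ => ?_
          have he' : (j : G)⁻¹ * e * (j : G) ∈ D.E := (mem_normalizer_iff''.1 (hJN j j.2) e).1 he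
          calc ρ e (ρ (j : G) u) = ρ (j : G) (ρ ((j : G)⁻¹ * e * (j : G)) u) := by
                rw [← Module.End.mul_apply, ← map_mul, ← Module.End.mul_apply, ← map_mul]
                congr 2; group
            _ = ρ (j : G) u := by rw [hu _ he'], avgV_mem ρ J _⟩
        by_cases hwE : w ∈ fixV ρ D.E
        · exact Submodule.mem_sup_left (hF w hwE)
        obtain ⟨B, hB⟩ := hplane w hwE hw
        obtain ⟨j, hj, hjA⟩ := meet_planes hG T D h360 A₀ B
        have hwB : w ∈ fixV ρ B.1 := hB ▸ Submodule.mem_sup_right (Submodule.mem_span_singleton_self w)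
        have hpre : ρ j⁻¹ w ∈ fixV ρ A₀.1 := fun k hk => by
          have hk' : j * k * j⁻¹ ∈ B.1 := hjA ▸ ⟨k, hk, rfl⟩
          calc ρ k (ρ j⁻¹ w) = ρ j⁻¹ (ρ (j * k * j⁻¹) w) := by
                rw [← Module.End.mul_apply, ← map_mul, ← Module.End.mul_apply, ← map_mul]
                congr 2; group
            _ = ρ j⁻¹ w := by rw [hwB _ hk']
        rw [hA₀] at hpre
        obtain ⟨f, hf, s, hs, hfs⟩ := Submodule.mem_sup.1 hpre
        obtain ⟨c, rfl⟩ := Submodule.mem_span_singleton.1 hs
        rw [← avgV_mul ρ J (inv_mem hj) w, ← hfs, map_add, map_smul]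
        exact add_mem (Submodule.mem_sup_left (hF f hf))
          (Submodule.mem_sup_right (Submodule.smul_mem _ c (Submodule.mem_span_singleton_self _)))
    rw [← avgV_id ρ J hx]
    exact hmap x
  -- the second subspace
  set L : (Fin d → ℂ) →ₗ[ℂ] (Fin d → ℂ) := ρ g with hL
  have hLinj : Function.Injective L := fun p q h => by
    have h2 := congrArg (ρ g⁻¹) h
    rwa [hL, ← Module.End.mul_apply, ← Module.End.mul_apply, ← map_mul, inv_mul_cancel, map_one,
      Module.End.one_apply, Module.End.one_apply] at h2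
  have hW'J : W.map L ≤ fixV ρ J := by
    rintro _ ⟨u, hu, rfl⟩ j hj
    calc ρ j (ρ g u) = ρ g (ρ (g⁻¹ * j * g) u) := by
          rw [← Module.End.mul_apply, ← map_mul, ← Module.End.mul_apply, ← map_mul]
          congr 2; group
      _ = ρ g u := by rw [hu.2 _ (hgconj j hj)]
  have hW'dim : Module.finrank ℂ (W.map L) = Module.finrank ℂ W :=
    (Submodule.equivMapOfInjective L hLinj W).finrank_eq.symm
  have hJdim : Module.finrank ℂ (fixV ρ J) ≤ Module.finrank ℂ W + 1 := by
    refine (Submodule.finrank_mono hFJ).trans ((Submodule.finrank_add_le_finrank_add_finrank _ _).trans ?_)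
    refine Nat.add_le_add_left ?_ _
    refine (finrank_span_le_card _).trans ?_
    simp
  have hsup : Module.finrank ℂ (W ⊔ W.map L : Submodule ℂ (Fin d → ℂ)) ≤ Module.finrank ℂ W + 1 :=
    (Submodule.finrank_mono (sup_le inf_le_right hW'J)).trans hJdim
  have hinf := Submodule.finrank_sup_add_finrank_inf_eq W (W.map L)
  rw [hW'dim] at hinf
  have hpos : W ⊓ W.map L ≠ ⊥ := fun h => by
    rw [h, finrank_bot] at hinf
    omega
  obtain ⟨p, hp, hp0⟩ := Submodule.exists_mem_ne_zero_of_ne_bot hpos
  obtain ⟨hpW, u, hu, hup⟩ := hp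
  let X : Subgroup G :=
    { carrier := {x | ρ x p = p}
      one_mem' := by simp
      mul_mem' := fun {x y} hx hy => by
        show ρ (x * y) p = p
        rw [map_mul, Module.End.mul_apply, hy, hx]
      inv_mem' := fun {x} hx => by
        show ρ x⁻¹ p = p
        conv_lhs => rw [show p = ρ x p from hx.symm]
        rw [← Module.End.mul_apply, ← map_mul, inv_mul_cancel, map_one]; rfl }
  refine ⟨g, X, hgN, hgg, h360, hfix1, fun h => hp0 (hzero p fun x => (h ▸ Subgroup.mem_top x : x ∈ X)),
    fun e he => hpW.1 e he, fun j hj => hpW.2 j hj, ?_⟩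
  rintro _ ⟨e, he, rfl⟩
  show ρ (g * e * g⁻¹) p = p
  rw [← hup, show L u = ρ g u from rfl, ← Module.End.mul_apply, ← map_mul,
    show g * e * g⁻¹ * g = g * e by group, map_mul, Module.End.mul_apply, hu.1 e he]

end Cfsg.Agent.Fg24.M23
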