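import Mathlib

/-!
# Arithmetic at seven and five
-/

set_option autoImplicit false

namespace Cfsg.Agent.Fg24.M23

theorem seven_count : ∀ a ∈ Finset.range 8, ∀ n, n * (21 * 2 ^ a) = 10200960 → n % 7 = 1 →
    a = 1 ∨ a = 4 ∨ a = 7 := by
  intro a ha n hn hmod
  rw [Finset.mem_range] at ha
  interval_cases a <;> omega

theorem seven_members : ∀ x ∈ ([(1, 1), (22, 6), (45, -3), (45, -3), (230, 22), (231, 7), (231, 7),
    (231, 7), (253, 13), (770, -14), (770, -14), (896, 0), (896, 0), (990, -18), (990, -18),
    (1035, 27), (2024, 8)] : List (ℕ × ℤ)),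
    x.1 ≠ 1 → x.1 % 7 ≠ 0 → ((x.1 : ℤ) - x.2) % 28 = 0 →
      x.1 = 990 ∨ x.1 = 1035 ∨ x.1 = 2024 := by
  decide

/-- A group of order `2 ^ a`, at least sixteen, has at least six classes. -/
theorem six_classes {K : Type*} [Group K] [Finite K] {a : ℕ} (hK : Nat.card K = 2 ^ a)
    (ha : 4 ≤ a) : 6 ≤ Nat.card (ConjClasses K) := by
  classical
  have := Fintype.ofFinite K
  haveI : Fact (Nat.Prime 2) := ⟨Nat.prime_two⟩
  have hp : IsPGroup 2 K := IsPGroup.of_card hK
  have hn : 16 ≤ Nat.card K := by
    rw [hK]; exact le_trans (by norm_num) (Nat.pow_le_pow_right (by norm_num) ha)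
  haveI : Nontrivial K := Finite.one_lt_card_iff_nontrivial.1 (by omega)
  have hZ : 2 ≤ Nat.card (Subgroup.center K) := by
    have := hp.center_nontrivial
    exact Finite.one_lt_card
  have hcount : Nat.card {p : K × K // Commute p.1 p.2} =
      ∑ x : K, Nat.card {y : K // Commute x y} := by
    rw [← Nat.card_sigma]
    exact Nat.card_congr (Equiv.subtypeProdEquivSigmaSubtype fun x y => Commute x y)
  rw [card_comm_eq_card_conjClasses_mul_card] at hcount
  have hlow : ∀ x : K, (if x ∈ Subgroup.center K then Nat.card K else 4) ≤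
      Nat.card {y : K // Commute x y} := by
    intro x
    split_ifs with hx
    · exact le_of_eq (Nat.card_congr (Equiv.subtypeUnivEquiv fun y =>
        (Subgroup.mem_center_iff.1 hx y).symm)).symm
    · set C := Subgroup.centralizer ({x} : Set K) with hC
      have e : Nat.card {y : K // Commute x y} = Nat.card C :=
        Nat.card_congr (Equiv.subtypeEquivRight fun y => by
          rw [hC, Subgroup.mem_centralizer_singleton_iff]; exact ⟨fun h => h.symm, fun h => h.symm⟩)
      rw [e]
      have hlt : Subgroup.center K < C := lt_of_le_of_ne (Subgroup.center_le_centralizer _)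
        fun h => hx (h ▸ Subgroup.mem_centralizer_singleton_iff.2 rfl)
      have h1 : Nat.card (Subgroup.center K) < Nat.card C := by
        by_contra hle
        exact hlt.ne (Subgroup.eq_of_le_of_card_ge hlt.le (not_lt.1 hle))
      have h2 := Subgroup.card_subgroup_dvd_card C
      rw [hK, Nat.dvd_prime_pow Nat.prime_two] at h2
      obtain ⟨j, -, hj⟩ := h2
      rw [hj] at h1 ⊢
      have : 2 ≤ j := by
        by_contra h
        interval_cases j <;> omega
      exact le_trans (by norm_num) (Nat.pow_le_pow_right (by norm_num) this)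
  have hsum := Finset.sum_le_sum (s := Finset.univ) fun x _ => hlow x
  rw [← hcount, Finset.sum_ite, Finset.sum_const, Finset.sum_const, smul_eq_mul, smul_eq_mul,
    show (Finset.univ.filter (· ∈ Subgroup.center K)).card = Nat.card (Subgroup.center K) by
      rw [Nat.card_eq_fintype_card, Fintype.card_subtype],
    Finset.filter_not, Finset.card_sdiff_of_subset (Finset.filter_subset _ _), Finset.card_univ,
    ← Nat.card_eq_fintype_card,
    show (Finset.univ.filter (· ∈ Subgroup.center K)).card = Nat.card (Subgroup.center K) by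
      rw [Nat.card_eq_fintype_card, Fintype.card_subtype]] at hsum
  obtain ⟨w, hw⟩ := Nat.exists_eq_add_of_le (Subgroup.card_le_card_group (Subgroup.center K))
  generalize Nat.card (ConjClasses K) = k at hsum ⊢
  generalize Nat.card (Subgroup.center K) = z at hsum hw hZ
  generalize Nat.card K = n at hsum hw hn
  subst hw
  rw [Nat.add_sub_cancel_left] at hsum
  by_contra hlt
  have h1 : k * (z + w) ≤ 5 * (z + w) := Nat.mul_le_mul_right _ (by omega)
  have h2 : 2 * (z + w) ≤ z * (z + w) := Nat.mul_le_mul_right _ hZ
  by_cases hz6 : 6 ≤ z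
  · have h3 : 6 * (z + w) ≤ z * (z + w) := Nat.mul_le_mul_right _ hz6
    omega
  · interval_cases z <;> omega

end Cfsg.Agent.Fg24.M23
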