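import Cfsg.Agent.Fg24.M23.Table
import Cfsg.Agent.Fg24.M23.SevenArith
import Cfsg.Agent.BlockThms.DefectZero

/-!
# The Sylow subgroups of orders seven and five
-/

set_option autoImplicit false
set_option linter.unusedSectionVars false

namespace Cfsg.Agent.Fg24.M23

open scoped ComplexConjugate
open Cfsg.Agent Cfsg.Agent.Blocks

universe u

variable {G : Type u} [Group G] [Fintype G]

theorem Table.card_filter (T : Table G) (q : ℕ → Prop) [DecidablePred q] :
    (Finset.univ.filter fun χ : Cfsg.IrrCharacter G => q (dg χ)).card =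
      (degs17.map fun d => if q d then 1 else 0).sum := by
  rw [Finset.card_filter, T.sum_eq, ← T.degrees, List.map_map]
  rfl

/-- Pairwise non-conjugate elements at which only few characters do not vanish. -/
theorem card_le_of_orthogonal {ι : Type*} [Fintype ι] (S : Finset (Cfsg.IrrCharacter G))
    (g : ι → G) (hne : ∀ i j, i ≠ j → ¬ IsConj (g i) (g j))
    (hz : ∀ i, ∀ χ, χ ∉ S → (χ : G → ℂ) (g i) = 0) : Fintype.card ι ≤ S.card := by
  classical
  let v : ι → (↥S → ℂ) := fun i χ => ((χ : Cfsg.IrrCharacter G) : G → ℂ) (g i)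
  have hli : LinearIndependent ℂ v := by
    rw [Fintype.linearIndependent_iff]
    intro c hc j
    have h2 : ∀ i, ∑ χ : ↥S, v i χ * conj (v j χ) =
        if IsConj (g i) (g j) then (Nat.card (Subgroup.centralizer ({g i} : Set G)) : ℂ) else 0 := by
      intro i
      rw [Finset.sum_coe_sort S fun χ : Cfsg.IrrCharacter G =>
        (χ : G → ℂ) (g i) * conj ((χ : G → ℂ) (g j))]
      rw [Finset.sum_subset (Finset.subset_univ S) fun χ _ hχ => by rw [hz i χ hχ, zero_mul],
        Char.second_orthogonality]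
      split_ifs <;> rfl
    have h : ∑ χ : ↥S, (∑ i, c i • v i) χ * conj (v j χ) = 0 := by rw [hc]; simp
    simp only [Finset.sum_apply, Pi.smul_apply, smul_eq_mul, Finset.sum_mul, mul_assoc] at h
    rw [Finset.sum_comm] at h
    simp only [← Finset.mul_sum, h2] at h
    rw [Finset.sum_eq_single j (fun i _ hij => by rw [if_neg (hne i j hij), mul_zero])
      (fun h => absurd (Finset.mem_univ j) h), if_pos (IsConj.refl _)] at h
    exact (mul_eq_zero.1 h).resolve_right (Nat.cast_ne_zero.2 Nat.card_pos.ne')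
  have := hli.fintype_card_le_finrank
  simpa using this

theorem exists_sylow_mem {p : ℕ} [Fact p.Prime] {x : G} (hx : orderOf x = p) :
    ∃ P : Sylow p G, x ∈ (P : Subgroup G) ∧ x ≠ 1 := by
  obtain ⟨Q, hQ⟩ := (IsPGroup.of_card (p := p) (n := 1) (by
    rw [Nat.card_zpowers, hx, pow_one]) : IsPGroup p (Subgroup.zpowers x)).exists_le_sylow
  exact ⟨Q, hQ (Subgroup.mem_zpowers _), fun h => by
    rw [h, orderOf_one] at hx; exact (Fact.out : p.Prime).one_lt.ne hx⟩

variable [IsSimpleGroup G] (hG : Nat.card G = ord)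
variable [Fact (Nat.Prime 11)] [Fact (Nat.Prime 23)]
include hG

theorem cent_eleven {x : G} (hx : orderOf x = 11) :
    Nat.card (Subgroup.centralizer ({x} : Set G)) = 11 := by
  obtain ⟨P, hP, hne⟩ := exists_sylow_mem hx
  rw [(eleven hG P).1.centralizer_eq hP hne]
  exact (eleven hG P).2

theorem cent_twentythree {x : G} (hx : orderOf x = 23) :
    Nat.card (Subgroup.centralizer ({x} : Set G)) = 23 := by
  obtain ⟨P, hP, hne⟩ := exists_sylow_mem hx
  rw [(twentythree hG P).1.centralizer_eq hP hne]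
  exact (twentythree hG P).2

/-- Small prime orders do not commute with the two large ones. -/
theorem not_dvd_big {x : G} {q : ℕ} (hx : orderOf x = q) (hq : q ≠ 11 ∧ q ≠ 23) (hq1 : q ≠ 1) :
    ¬ 11 ∣ Nat.card (Subgroup.centralizer ({x} : Set G)) ∧
      ¬ 23 ∣ Nat.card (Subgroup.centralizer ({x} : Set G)) := by
  have key : ∀ r, r.Prime → q ≠ r →
      (∀ y : G, orderOf y = r → Nat.card (Subgroup.centralizer ({y} : Set G)) = r) →
      ¬ r ∣ Nat.card (Subgroup.centralizer ({x} : Set G)) := by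
    intro r hr hne hcr h
    haveI := Fact.mk hr
    obtain ⟨y, hy⟩ := exists_prime_orderOf_dvd_card' (G := Subgroup.centralizer ({x} : Set G)) r h
    have hd := Subgroup.orderOf_dvd_natCard (Subgroup.centralizer ({(y : G)} : Set G)) (x := x)
      (Subgroup.mem_centralizer_singleton_iff.2 (Subgroup.mem_centralizer_singleton_iff.1 y.2).symm)
    rw [hcr _ (by rw [Subgroup.orderOf_coe]; exact hy), hx] at hd
    rcases hr.eq_one_or_self_of_dvd q hd with e | e
    exacts [hq1 e, hne e]
  exact ⟨key 11 Fact.out hq.1 fun y => cent_eleven hG, key 23 Fact.out hq.2 fun y => cent_twentythree hG⟩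

variable [Fact (Nat.Prime 5)] [Fact (Nat.Prime 7)] (T : Table G)
include T

/-- An involution centralizes a Sylow 7-subgroup. -/
theorem exists_inv_seven (P : Sylow 7 G) :
    ∃ w ∈ Subgroup.centralizer (P : Set G), orderOf w = 2 := by
  obtain ⟨t, ht⟩ := exists_prime_orderOf_dvd_card' (G := G) 2 (hp := ⟨Nat.prime_two⟩)
    (by rw [hG]; norm_num [ord])
  obtain ⟨x, hx⟩ := exists_prime_orderOf_dvd_card' (G := Subgroup.centralizer ({t} : Set G)) 7
    (by rw [T.card_two t ht]; norm_num)
  have hxo : orderOf (x : G) = 7 := by rw [Subgroup.orderOf_coe]; exact hx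
  obtain ⟨Q, hQ, hne⟩ := exists_sylow_mem hxo
  obtain ⟨c, rfl⟩ := MulAction.exists_smul_eq G Q P
  obtain ⟨e, hS⟩ := exists_setup hG (Or.inr (Or.inl rfl)) Q
  refine ⟨c * t * c⁻¹, Subgroup.mem_centralizer_iff.2 fun v hv => ?_, by
    rw [Blocks.orderOf_conj', ht]⟩
  have hv' : c⁻¹ * v * c ∈ (Q : Subgroup G) := by
    change v ∈ ((c • Q : Sylow 7 G) : Subgroup G) at hv
    rw [Sylow.coe_subgroup_smul] at hv
    obtain ⟨q, hq, rfl⟩ := hv
    have e1 : c⁻¹ * (c * q * c⁻¹) * c = q := by group
    change c⁻¹ * (c * q * c⁻¹) * c ∈ (Q : Subgroup G)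
    rw [e1]
    exact hq
  have htC : t ∈ Subgroup.centralizer (Q : Set G) := by
    rw [← hS.centralizer_eq hQ hne, Subgroup.mem_centralizer_singleton_iff]
    exact (Subgroup.mem_centralizer_singleton_iff.1 x.2).symm
  have h := Subgroup.mem_centralizer_iff.1 htC _ hv'
  calc v * (c * t * c⁻¹) = c * ((c⁻¹ * v * c) * t) * c⁻¹ := by group
    _ = c * (t * (c⁻¹ * v * c)) * c⁻¹ := by rw [h]
    _ = c * t * c⁻¹ * v := by group

/-- The automizer at seven has order three; the complement is a 2-group. -/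
theorem seven_pre (P : Sylow 7 G) : BlockThms.OrderP.Setup P 3 ∧
    ∃ a, (a = 1 ∨ a = 4 ∨ a = 7) ∧
      Nat.card (Subgroup.centralizer (P : Set G)) = 7 * 2 ^ a := by
  classical
  obtain ⟨e, hS⟩ := exists_setup hG (Or.inr (Or.inl rfl)) P
  obtain ⟨B⟩ := exists_blk hS
  obtain ⟨w, hwC, hw2⟩ := exists_inv_seven hG T P
  have hmem : ∀ χ, B.Mem χ → χ ≠ triv G → dg χ = 990 ∨ dg χ = 1035 ∨ dg χ = 2024 := by
    intro χ hχ hne
    obtain ⟨v, hv, h28, -, -⟩ := B.central_inv hG (by norm_num) hχ hne hwC hw2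
    obtain ⟨u, hu, huv⟩ := T.value_mem hw2 χ
    have e' : u = v := by exact_mod_cast huv.symm.trans hv
    subst e'
    refine seven_members (dg χ, u) hu (fun h => hne (dg_one hG h)) (fun h => ?_)
      (Int.emod_eq_zero_of_dvd (by simpa using h28))
    exact B.not_dvd hχ (Nat.dvd_of_mod_eq_zero h)
  have huniq : ∀ d, (degs17.map fun n => if n = d then 1 else 0).sum ≤ 1 → ∀ χ ψ : Cfsg.IrrCharacter G,
      dg χ = d → dg ψ = d → χ = ψ := by
    intro d hd χ ψ h h'
    rw [← T.card_filter (· = d), Finset.card_le_one] at hd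
    exact hd χ (by simp [h]) ψ (by simp [h'])
  have he : e = 3 := by
    have h6 : e ∣ 6 := hS.exists_y.1
    have hne : e ≠ 1 := S4429.e_ne_one hS (by rw [hG]; norm_num [ord])
    have := hS.e_pos
    have := Nat.le_of_dvd (by norm_num) h6
    interval_cases e <;> try omega
    · exfalso
      obtain ⟨θ, hθ⟩ := B.Y_nonempty
      have h4 := Int.ModEq.eq (B.modY θ hθ)
      by_cases h1 : θ = triv G
      · rw [h1, dg_triv] at h4
        rcases B.hs with e | e <;> rw [e] at h4 <;> norm_num at h4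
      rcases hmem θ (Or.inr hθ) h1 with h | h | h <;> rw [h] at h4 <;>
        rcases B.hs with e | e <;> rw [e] at h4 <;> norm_num at h4
    · exfalso
      have hsub : (B.X ∪ B.Y).erase (triv G) ⊆
          Finset.univ.filter fun χ => dg χ = 990 ∨ dg χ = 1035 ∨ dg χ = 2024 := by
        intro χ hχ
        obtain ⟨hne, hm⟩ := Finset.mem_erase.1 hχ
        exact Finset.mem_filter.2 ⟨Finset.mem_univ _, hmem χ (Finset.mem_union.1 hm) hne⟩
      have h1 := Finset.card_le_card hsub
      rw [Finset.card_erase_of_mem (Finset.mem_union.2 B.triv_mem),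
        Finset.card_union_of_disjoint B.disj, B.cardX, B.cardY,
        T.card_filter fun d => d = 990 ∨ d = 1035 ∨ d = 2024] at h1
      norm_num [degs17] at h1
  subst he
  refine ⟨hS, ?_⟩
  -- members of degrees 990 and 1035
  obtain ⟨θ, hθ⟩ := B.Y_nonempty
  have hθd : dg θ = 990 := by
    have h4 := Int.ModEq.eq (B.modY θ hθ)
    have h1 : θ ≠ triv G := fun h => by
      rw [h, dg_triv] at h4
      rcases B.hs with e | e <;> rw [e] at h4 <;> norm_num at h4
    rcases hmem θ (Or.inr hθ) h1 with h | h | h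
    · exact h
    all_goals exfalso; rw [h] at h4; rcases B.hs with e | e <;> rw [e] at h4 <;> norm_num at h4
  obtain ⟨q, hq, hqd⟩ : ∃ q, B.Mem q ∧ dg q = 1035 := by
    by_contra hno
    push Not at hno
    have hall : ∀ χ ∈ B.X.erase (triv G), dg χ = 2024 := by
      intro χ hχ
      obtain ⟨hne, hX⟩ := Finset.mem_erase.1 hχ
      rcases hmem χ (Or.inl hX) hne with h | h | h
      · exfalso
        have h4 := Int.ModEq.eq (B.modX χ hX)
        rcases B.ha χ hX with e | e <;> rw [e, h] at h4 <;> norm_num at h4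
      · exact absurd h (hno χ (Or.inl hX))
      · exact h
    have h2 : 2 ≤ (B.X.erase (triv G)).card := by
      have := Finset.pred_card_le_card_erase (s := B.X) (a := triv G)
      rw [B.cardX] at this; exact this
    obtain ⟨a, ha, b, hb, hab⟩ := Finset.one_lt_card.1 h2
    exact hab (huniq 2024 (by norm_num [degs17]) a b (hall a ha) (hall b hb))
  obtain ⟨K, hKC, hpK, -, hCK, hcnt, hmod, -⟩ := sylow_count hG hS
  have helt : ∀ r : ℕ, r.Prime → r ∣ Nat.card K → r ∣ Nat.card G / dg θ ∧ r ∣ Nat.card G / dg q := by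
    intro r hr hrK
    haveI := Fact.mk hr
    obtain ⟨c, hc⟩ := exists_prime_orderOf_dvd_card' (G := K) r hrK
    have hco : orderOf (c : G) = r := by rw [Subgroup.orderOf_coe]; exact hc
    exact ⟨B.dvd_codeg (Or.inr hθ) (hKC _ c.2) hr (fun e => hpK (e ▸ hrK)) hco,
      B.dvd_codeg hq (hKC _ c.2) hr (fun e => hpK (e ▸ hrK)) hco⟩
  obtain ⟨z, hz, hz1, hzo⟩ := hS.exists_gen
  have hbig := not_dvd_big hG hzo (by norm_num) (by norm_num)
  rw [hS.centralizer_eq hz hz1, hCK] at hbig
  have hdvd : Nat.card K ∣ 485760 := Dvd.intro_left (Nat.card (Sylow 7 G)) (by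
    have := hcnt
    simp only [ord] at this
    linarith)
  obtain ⟨a, ha⟩ : ∃ a, Nat.card K = 2 ^ a := by
    refine ⟨_, Nat.eq_prime_pow_of_unique_prime_dvd Nat.card_pos.ne' fun {r} hr hrK => ?_⟩
    have hrd : r ∣ 2 ^ 7 * (3 * 5 * 11 * 23) := hrK.trans hdvd
    obtain ⟨h990, h1035⟩ := helt r hr hrK
    rw [hG, hθd] at h990
    rw [hG, hqd] at h1035
    rcases (Nat.Prime.dvd_mul hr).1 hrd with h | h
    · exact (Nat.prime_dvd_prime_iff_eq hr Nat.prime_two).1 (hr.dvd_of_dvd_pow h)
    rcases (Nat.Prime.dvd_mul hr).1 h with h | h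
    · rcases (Nat.Prime.dvd_mul hr).1 h with h | h
      · rcases (Nat.Prime.dvd_mul hr).1 h with h | h
        · rw [(Nat.prime_dvd_prime_iff_eq hr Nat.prime_three).1 h] at h1035
          norm_num [ord] at h1035
        · rw [(Nat.prime_dvd_prime_iff_eq hr (by norm_num)).1 h] at h990
          norm_num [ord] at h990
      · rw [(Nat.prime_dvd_prime_iff_eq hr Fact.out).1 h] at hrK
        exact absurd (hrK.mul_left 7) hbig.1
    · rw [(Nat.prime_dvd_prime_iff_eq hr Fact.out).1 h] at hrK
      exact absurd (hrK.mul_left 7) hbig.2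
  have ha7 : a < 8 := by
    by_contra h
    push Not at h
    have := ((pow_dvd_pow 2 h).trans (ha ▸ hdvd))
    norm_num at this
  refine ⟨a, seven_count a (Finset.mem_range.2 ha7) (Nat.card (Sylow 7 G)) ?_ hmod, by
    rw [hCK, ha]⟩
  rw [ha] at hcnt
  simp only [ord] at hcnt
  linarith

/-- The Sylow 7-subgroup: centralizer of order fourteen. -/
theorem seven (P : Sylow 7 G) : BlockThms.OrderP.Setup P 3 ∧
    Nat.card (Subgroup.centralizer (P : Set G)) = 14 := by
  classical
  obtain ⟨hS, a, ha, hC⟩ := seven_pre hG T P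
  refine ⟨hS, ?_⟩
  rcases eq_or_ne a 1 with rfl | hne
  · exact hC.trans (by norm_num)
  exfalso
  obtain ⟨K, hKC, hpK, hKm, -, hCK, hdec⟩ := hS.exists_complement
  have hK : Nat.card K = 2 ^ a := by
    rw [hC] at hCK
    exact (Nat.eq_of_mul_eq_mul_left (by norm_num) hCK).symm
  have h6 := six_classes hK (by omega)
  obtain ⟨z, hz, hz1, hzo⟩ := hS.exists_gen
  have hp : Nat.Prime 7 := Fact.out
  haveI := Fintype.ofFinite (ConjClasses K)
  let zz : Bool → G := fun b => if b then z else z⁻¹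
  have hzm : ∀ b, zz b ∈ (P : Subgroup G) ∧ zz b ≠ 1 := fun b => by
    cases b
    · exact ⟨inv_mem hz, inv_ne_one.2 hz1⟩
    · exact ⟨hz, hz1⟩
  let g : ConjClasses K × Bool → G := fun i => zz i.2 * ((Quotient.out i.1 : K) : G)
  have hparts : ∀ i, pPartOf 7 (g i) = zz i.2 ∧ pPrimePartOf 7 (g i) = ((Quotient.out i.1 : K) : G) :=
    fun i => Blocks.parts_mul hp
      (Subgroup.mem_centralizer_iff.1 (hKC (Quotient.out i.1 : K).2) _ (hzm i.2).1)
      (BlockThms.OrderP.exists_orderOf_pow (hzm i.2).1) ((hKm _).1 (Quotient.out i.1 : K).2).2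
  have hne' : ∀ i j, i ≠ j → ¬ IsConj (g i) (g j) := by
    intro i j hij hc
    obtain ⟨h, hh⟩ := isConj_iff.1 hc
    have h1 : h * zz i.2 * h⁻¹ = zz j.2 := by
      rw [← (hparts i).1, ← (hparts j).1, ← hh, Blocks.pPartOf_conj]
    have hb : i.2 = j.2 := by
      rcases i with ⟨c, b⟩
      rcases j with ⟨c', b'⟩
      cases b <;> cases b' <;> try rfl
      · refine (not_inverts hS (by norm_num) ⟨1, rfl⟩ hz hz1 (x := h) ?_).elim
        have h2 := congrArg (·⁻¹) h1
        simp only [zz] at h2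
        simpa [mul_assoc] using h2
      · exact (not_inverts hS (by norm_num) ⟨1, rfl⟩ hz hz1 (x := h) (by simpa [zz] using h1)).elim
    have hhC : h ∈ Subgroup.centralizer (P : Set G) := by
      rw [← hS.centralizer_eq (hzm i.2).1 (hzm i.2).2, Subgroup.mem_centralizer_singleton_iff]
      rw [← hb] at h1
      exact mul_inv_eq_iff_eq_mul.1 h1
    obtain ⟨x, hx, y, hy, rfl⟩ := hdec h hhC
    apply hij
    refine Prod.ext ?_ hb
    rw [← Quotient.out_eq i.1, ← Quotient.out_eq j.1]
    apply Quotient.sound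
    refine isConj_iff.2 ⟨⟨y, hy⟩, Subtype.ext ?_⟩
    show y * ((Quotient.out i.1 : K) : G) * y⁻¹ = ((Quotient.out j.1 : K) : G)
    have h2 := congrArg (pPrimePartOf 7) hh
    rw [BlockThms.OrderP.pPrimePartOf_conj', (hparts i).2, (hparts j).2] at h2
    rw [← h2]
    have hcx : ∀ c ∈ K, x * c * x⁻¹ = c := fun c hcK => by
      rw [Subgroup.mem_centralizer_iff.1 (hKC hcK) x hx, mul_inv_cancel_right]
    have hxy := Subgroup.mem_centralizer_iff.1 (hKC hy) x hx
    calc y * ((Quotient.out i.1 : K) : G) * y⁻¹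
        = y * (x * ((Quotient.out i.1 : K) : G) * x⁻¹) * y⁻¹ := by
          rw [hcx _ (Quotient.out i.1 : K).2]
      _ = y * x * ((Quotient.out i.1 : K) : G) * (y * x)⁻¹ := by group
  obtain ⟨M, hM⟩ := Blocks.exists_isPModular 7 hp
  have hz' : ∀ i, ∀ χ, χ ∉ (Finset.univ.filter fun χ : Cfsg.IrrCharacter G => ¬ 7 ∣ dg χ) →
      (χ : G → ℂ) (g i) = 0 := by
    intro i χ hχ
    simp only [Finset.mem_filter, Finset.mem_univ, true_and, not_not] at hχ
    refine BlockThms.eq_zero_of_not_dvd_codegree hM χ (fun h => ?_) fun hreg => hreg ?_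
    · obtain ⟨j, hj⟩ := deg_dvd hG χ
      rw [hG, show Cfsg.charDegree (χ : G → ℂ) = dg χ from rfl, hj,
        Nat.mul_div_cancel_left _ (dg_pos χ)] at h
      have h49 : 7 * 7 ∣ ord := hj ▸ mul_dvd_mul hχ h
      norm_num [ord] at h49
    · have h7 : orderOf (zz i.2) = 7 := by
        cases i.2
        · simpa [zz] using hzo
        · simpa [zz] using hzo
      obtain ⟨k, hk⟩ := Blocks.orderOf_pPartOf hp (g i)
      rw [← h7, ← (hparts i).1]
      exact orderOf_pow_dvd _
  have := card_le_of_orthogonal _ g hne' hz'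
  rw [Fintype.card_prod, Fintype.card_bool, T.card_filter fun d => ¬ 7 ∣ d] at this
  norm_num [degs17] at this
  rw [Fintype.card_eq_nat_card] at this
  omega

theorem cent_seven {x : G} (hx : orderOf x = 7) :
    Nat.card (Subgroup.centralizer ({x} : Set G)) = 14 := by
  obtain ⟨P, hP, hne⟩ := exists_sylow_mem hx
  rw [(seven hG T P).1.centralizer_eq hP hne]
  exact (seven hG T P).2

/-- There is only one involution centralizing an element of order seven. -/
theorem inv_unique {x s t : G} (hx : orderOf x = 7) (hs : orderOf s = 2) (ht : orderOf t = 2)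
    (hsx : Commute s x) (htx : Commute t x) : s = t := by
  classical
  set C := Subgroup.centralizer ({x} : Set G) with hC
  have hsC : s ∈ C := Subgroup.mem_centralizer_singleton_iff.2 hsx.eq
  have htC : t ∈ C := Subgroup.mem_centralizer_singleton_iff.2 htx.eq
  have hgen : orderOf (x * t) = 14 := by
    rw [htx.symm.orderOf_mul_eq_mul_orderOf_of_coprime (by rw [hx, ht]; norm_num), hx, ht]
  have hgC : x * t ∈ C := mul_mem (Subgroup.mem_centralizer_singleton_iff.2 rfl) htC
  have hCz : C = Subgroup.zpowers (x * t) := (Subgroup.eq_of_le_of_card_ge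
    (Subgroup.zpowers_le.2 hgC) (by rw [cent_seven hG T hx, Nat.card_zpowers, hgen])).symm
  have key : ∀ y, orderOf y = 2 → y ∈ C → y = (x * t) ^ 7 := by
    intro y hy hyC
    rw [hCz, mem_zpowers_iff_mem_range_orderOf, hgen] at hyC
    obtain ⟨k, hk, rfl⟩ := Finset.mem_image.1 hyC
    rw [Finset.mem_range] at hk
    have h := orderOf_pow' (x * t) (n := k) (by
      intro h0; rw [h0, pow_zero, orderOf_one] at hy; omega)
    rw [hy, hgen] at h
    interval_cases k <;> first | rfl | (norm_num at h)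
  exact (key s hs hsC).trans (key t ht htC).symm

/-- The normalizer of a subgroup of order seven fixes its involution. -/
theorem commute_of_normalizes {x t n : G} (hx : orderOf x = 7) (ht : orderOf t = 2)
    (htx : Commute t x) (hn : n * x * n⁻¹ ∈ Subgroup.zpowers x) : Commute n t := by
  have h1 : Commute (n * t * n⁻¹) (n * x * n⁻¹) := htx.map (MulAut.conj n).toMonoidHom
  obtain ⟨P, hP, hne⟩ := exists_sylow_mem hx
  have hS := (seven hG T P).1
  have hy : n * x * n⁻¹ ∈ (P : Subgroup G) := (Subgroup.zpowers_le.2 hP) hn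
  have hy1 : n * x * n⁻¹ ≠ 1 := fun h => hne (conj_eq_one_iff.1 h)
  have h2 : n * t * n⁻¹ ∈ Subgroup.centralizer ({x} : Set G) := by
    rw [hS.centralizer_eq hP hne, ← hS.centralizer_eq hy hy1]
    exact Subgroup.mem_centralizer_singleton_iff.2 h1.eq
  have := inv_unique hG T hx (by rw [Blocks.orderOf_conj', ht]) ht
    (Subgroup.mem_centralizer_singleton_iff.1 h2) htx
  exact mul_inv_eq_iff_eq_mul.1 this

/-- The normalizer of a Sylow 7-subgroup. -/
theorem card_normalizer_seven (P : Sylow 7 G) :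
    Nat.card (Subgroup.normalizer (P : Set G)) = 42 := by
  rw [(seven hG T P).1.card_normalizer, (seven hG T P).2]

/-- The Sylow 5-subgroup: centralizer of order fifteen. -/
theorem five_local (P : Sylow 5 G) : BlockThms.OrderP.Setup P 4 ∧
    Nat.card (Subgroup.centralizer (P : Set G)) = 15 := by
  obtain ⟨hS, -⟩ := five hG P
  refine ⟨hS, ?_⟩
  obtain ⟨K, hKC, hpK, -, hCK, hcnt, hmod, -⟩ := sylow_count hG hS
  obtain ⟨z, hz, hz1, hzo⟩ := hS.exists_gen
  have hbig := not_dvd_big hG hzo (by norm_num) (by norm_num)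
  rw [hS.centralizer_eq hz hz1, hCK] at hbig
  have hdvd : Nat.card K ∣ 510048 := Dvd.intro_left (Nat.card (Sylow 5 G)) (by
    have := hcnt
    simp only [ord] at this
    linarith)
  have hcomm : ∀ c ∈ K, Commute z c := fun c hc => Subgroup.mem_centralizer_iff.1 (hKC c hc) z hz
  have h2 : ¬ 2 ∣ Nat.card K := by
    intro h
    obtain ⟨c, hc⟩ := exists_prime_orderOf_dvd_card' (G := K) 2 (hp := ⟨Nat.prime_two⟩) h
    have hco : orderOf (c : G) = 2 := by rw [Subgroup.orderOf_coe]; exact hc
    have := Subgroup.orderOf_dvd_natCard (Subgroup.centralizer ({(c : G)} : Set G)) (x := z)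
      (Subgroup.mem_centralizer_singleton_iff.2 (hcomm _ c.2).eq)
    rw [hzo, T.card_two _ hco] at this
    norm_num at this
  have h7 : ¬ 7 ∣ Nat.card K := by
    intro h
    obtain ⟨c, hc⟩ := exists_prime_orderOf_dvd_card' (G := K) 7 h
    have hco : orderOf (c : G) = 7 := by rw [Subgroup.orderOf_coe]; exact hc
    have := Subgroup.orderOf_dvd_natCard (Subgroup.centralizer ({(c : G)} : Set G)) (x := z)
      (Subgroup.mem_centralizer_singleton_iff.2 (hcomm _ c.2).eq)
    rw [hzo, cent_seven hG T hco] at this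
    norm_num at this
  have h11 : ¬ 11 ∣ Nat.card K := fun h => hbig.1 (h.mul_left 5)
  have h23 : ¬ 23 ∣ Nat.card K := fun h => hbig.2 (h.mul_left 5)
  have hdiv : Nat.card K ∣ 9 := by
    have hc : (Nat.card K).Coprime (2 ^ 5 * (7 * (11 * 23))) := by
      refine Nat.Coprime.mul_right (Nat.Coprime.pow_right _ ?_) (Nat.Coprime.mul_right ?_
        (Nat.Coprime.mul_right ?_ ?_))
      · exact ((Nat.prime_two.coprime_iff_not_dvd).2 h2).symm
      · exact ((Fact.out : Nat.Prime 7).coprime_iff_not_dvd.2 h7).symm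
      · exact ((Fact.out : Nat.Prime 11).coprime_iff_not_dvd.2 h11).symm
      · exact ((Fact.out : Nat.Prime 23).coprime_iff_not_dvd.2 h23).symm
    exact hc.dvd_of_dvd_mul_left (show _ ∣ 2 ^ 5 * (7 * (11 * 23)) * 9 from hdvd)
  have hle := Nat.le_of_dvd (by norm_num) hdiv
  have hpos : 0 < Nat.card K := Nat.card_pos
  rw [hCK]
  simp only [ord] at hcnt
  interval_cases hK : Nat.card K <;> omega

end Cfsg.Agent.Fg24.M23
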