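import Cfsg.Agent.Fg24.M23.Plane
import Cfsg.Agent.Char.ClassAlg

/-!
# The representation of degree twenty-two
-/

set_option autoImplicit false
set_option linter.unusedSectionVars false

namespace Cfsg.Agent.Fg24.M23

open Cfsg Cfsg.Agent Cfsg.Agent.Char Subgroup
open scoped ComplexConjugate

universe u

variable {G : Type u} [Group G] [Fintype G] {d : ℕ} (ρ : Representation ℂ G (Fin d → ℂ))

/-- The vectors fixed by a subgroup. -/
def fixV (K : Subgroup G) : Submodule ℂ (Fin d → ℂ) where
  carrier := {v | ∀ k ∈ K, ρ k v = v}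
  add_mem' := fun {a b} ha hb k hk => by rw [map_add, ha k hk, hb k hk]
  zero_mem' := fun k _ => map_zero (ρ k)
  smul_mem' := fun c {a} ha k hk => by rw [map_smul, ha k hk]

theorem mem_fixV {K : Subgroup G} {v : Fin d → ℂ} : v ∈ fixV ρ K ↔ ∀ k ∈ K, ρ k v = v := Iff.rfl

theorem fixV_anti {K L : Subgroup G} (h : K ≤ L) : fixV ρ L ≤ fixV ρ K :=
  fun _ hv k hk => hv k (h hk)

/-- The averaging projection. -/
noncomputable def avgV (K : Subgroup G) [Fintype K] : Module.End ℂ (Fin d → ℂ) :=
  (Nat.card K : ℂ)⁻¹ • ∑ k : K, ρ (k : G)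

variable (K : Subgroup G) [Fintype K]

theorem avgV_apply (v : Fin d → ℂ) : avgV ρ K v = (Nat.card K : ℂ)⁻¹ • ∑ k : K, ρ (k : G) v := by
  simp [avgV]

theorem avgV_mul {k : G} (hk : k ∈ K) (v : Fin d → ℂ) : avgV ρ K (ρ k v) = avgV ρ K v := by
  rw [avgV_apply, avgV_apply]
  congr 1
  refine Fintype.sum_equiv (Equiv.mulRight ⟨k, hk⟩) _ _ fun a => ?_
  show ρ (a : G) (ρ k v) = ρ ((a : G) * k) v
  rw [map_mul]; rfl

theorem avgV_comm {j : G} (hj : j ∈ normalizer (K : Set G)) (v : Fin d → ℂ) :
    ρ j (avgV ρ K v) = avgV ρ K (ρ j v) := by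
  rw [avgV_apply, avgV_apply, map_smul, map_sum]
  congr 1
  refine Fintype.sum_equiv
    { toFun := fun a => ⟨j * (a : G) * j⁻¹, (mem_normalizer_iff.1 hj a).1 a.2⟩
      invFun := fun a => ⟨j⁻¹ * (a : G) * j, (mem_normalizer_iff''.1 hj a).1 a.2⟩
      left_inv := fun a => Subtype.ext (by simp [mul_assoc])
      right_inv := fun a => Subtype.ext (by simp [mul_assoc]) } _ _ fun a => ?_
  show ρ j (ρ (a : G) v) = ρ (j * (a : G) * j⁻¹) (ρ j v)
  rw [← Module.End.mul_apply, ← map_mul, ← Module.End.mul_apply, ← map_mul, inv_mul_cancel_right]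

theorem avgV_mem (v : Fin d → ℂ) : avgV ρ K v ∈ fixV ρ K := fun k hk => by
  rw [avgV_comm ρ K (le_normalizer hk), avgV_mul ρ K hk]

theorem avgV_id {v : Fin d → ℂ} (hv : v ∈ fixV ρ K) : avgV ρ K v = v := by
  rw [avgV_apply, Finset.sum_congr rfl fun (k : K) _ => hv k k.2, Finset.sum_const, Finset.card_univ,
    ← Nat.cast_smul_eq_nsmul ℂ, smul_smul, ← Nat.card_eq_fintype_card,
    inv_mul_cancel₀ (Nat.cast_ne_zero.2 Nat.card_pos.ne'), one_smul]

theorem trace_avgV :
    LinearMap.trace ℂ _ (avgV ρ K) = (Nat.card K : ℂ)⁻¹ * ∑ k : K, ρ.character (k : G) := by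
  simp [avgV, Representation.character, map_sum]

theorem finrank_fixV :
    (Module.finrank ℂ (fixV ρ K) : ℂ) = (Nat.card K : ℂ)⁻¹ * ∑ k : K, ρ.character (k : G) := by
  rw [← trace_avgV]
  exact ((LinearMap.IsProj.trace ⟨avgV_mem ρ K, fun v hv => avgV_id ρ K hv⟩)).symm

omit [Fintype K] in
/-- Eigenvectors of a list of commuting involutions span. -/
theorem eigen_span : ∀ (L : List G), (∀ e ∈ L, e * e = 1) → (∀ e ∈ L, ∀ f ∈ L, Commute e f) →
    ⊤ ≤ Submodule.span ℂ {w : Fin d → ℂ | ∀ e ∈ L, ρ e w = w ∨ ρ e w = -w} := by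
  intro L
  induction L with
  | nil => intro _ _ v _; exact Submodule.subset_span fun e he => absurd he List.not_mem_nil
  | cons a L ih =>
    intro hsq hc
    refine (ih (fun e he => hsq e (List.mem_cons_of_mem _ he))
      fun e he f hf => hc e (List.mem_cons_of_mem _ he) f (List.mem_cons_of_mem _ hf)).trans
        (Submodule.span_le.2 fun w hw => ?_)
    have haa : ρ a (ρ a w) = w := by
      rw [← Module.End.mul_apply, ← map_mul, hsq a List.mem_cons_self, map_one]; rfl
    have hcom : ∀ e ∈ L, ρ e (ρ a w) = ρ a (ρ e w) := fun e he => by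
      rw [← Module.End.mul_apply, ← map_mul, (hc e (List.mem_cons_of_mem _ he) a List.mem_cons_self).eq,
        map_mul]; rfl
    have h1 : w + ρ a w ∈ Submodule.span ℂ
        {w : Fin d → ℂ | ∀ e ∈ a :: L, ρ e w = w ∨ ρ e w = -w} := by
      refine Submodule.subset_span fun e he => ?_
      rcases List.mem_cons.1 he with rfl | he
      · left; rw [map_add, haa, add_comm]
      · rcases hw e he with h | h <;> rw [map_add, hcom e he, h]
        · exact Or.inl rfl
        · right; rw [map_neg, neg_add]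
    have h2 : w - ρ a w ∈ Submodule.span ℂ
        {w : Fin d → ℂ | ∀ e ∈ a :: L, ρ e w = w ∨ ρ e w = -w} := by
      refine Submodule.subset_span fun e he => ?_
      rcases List.mem_cons.1 he with rfl | he
      · right; rw [map_sub, haa, neg_sub]
      · rcases hw e he with h | h <;> rw [map_sub, hcom e he, h]
        · exact Or.inl rfl
        · right; rw [map_neg]; abel
    have e : w = (2 : ℂ)⁻¹ • ((w + ρ a w) + (w - ρ a w)) := by
      rw [show (w + ρ a w) + (w - ρ a w) = (2 : ℂ) • w by rw [two_smul]; abel, smul_smul,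
        inv_mul_cancel₀ (two_ne_zero), one_smul]
    rw [SetLike.mem_coe, e]
    exact Submodule.smul_mem _ _ (Submodule.add_mem _ h1 h2)

/-- The equations of the spherical function have no solution. -/
theorem spherical_arith {a b : ℂ} {n : ℕ} (h1 : 1 + 112 * a + 140 * b = 0)
    (h2 : 1 + 112 * a ^ 2 + 140 * b ^ 2 = 23 / 2)
    (h3 : 16 * (a * a) = 1 + n * a + (15 - n) * b) : False := by
  have hq : (504 * a - 113) * (56 * a + 13) = 0 := by
    linear_combination 140 * h2 + (1 + 112 * a - 140 * b) * h1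
  rcases mul_eq_zero.1 hq with ha | ha
  · have ha' : a = 113 / 504 := by linear_combination ha / 504
    have hb : b = -47 / 252 := by linear_combination h1 / 140 - (112 / 140) * ha'
    rw [ha', hb] at h3
    have : (n : ℂ) * 104328 = 660928 := by linear_combination -254016 * h3
    have : n * 104328 = 660928 := by exact_mod_cast this
    omega
  · have ha' : a = -13 / 56 := by linear_combination ha / 56
    have hb : b = 5 / 28 := by linear_combination h1 / 140 - (112 / 140) * ha'
    rw [ha', hb] at h3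
    have : (n : ℂ) * 1288 = 8832 := by linear_combination 3136 * h3
    have : n * 1288 = 8832 := by exact_mod_cast this
    omega

end Cfsg.Agent.Fg24.M23
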