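import Cfsg.Agent.Fg24.M23.Perm

/-!
# The suborbits on 253 points
-/

set_option autoImplicit false
set_option linter.unusedSectionVars false

namespace Cfsg.Agent.Fg24.M23

open Cfsg Cfsg.Agent Cfsg.Agent.Char Cfsg.Agent.Blocks Subgroup
open scoped Pointwise

universe u

variable {G : Type u} [Group G]

/-- The arithmetic of two suborbits. -/
theorem suborbit_arith {m n a b : ℕ} (ha : a ∣ 16) (hb : b ∣ 16) (hsum : m + n = 252)
    (hw : m * a + n * b = 672) (hm7 : 7 ∣ m) (hn7 : 7 ∣ n) (hm5 : m % 5 ≤ 2) (hn5 : n % 5 ≤ 2) :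
    (m = 112 ∧ a = 1 ∧ n = 140 ∧ b = 4) ∨ (m = 140 ∧ a = 4 ∧ n = 112 ∧ b = 1) := by
  have key : ∀ x ∈ Nat.divisors 16, x = 1 ∨ x = 2 ∨ x = 4 ∨ x = 8 ∨ x = 16 := by decide
  rcases key a (Nat.mem_divisors.2 ⟨ha, by norm_num⟩) with rfl | rfl | rfl | rfl | rfl <;>
    rcases key b (Nat.mem_divisors.2 ⟨hb, by norm_num⟩) with rfl | rfl | rfl | rfl | rfl <;> omega

/-- The stabilizer of two points. -/
def NData.meet (D : NData G) (g : G) : Subgroup G := D.N ⊓ D.N.map (MulAut.conj g).toMonoidHom

/-- The part of the elementary subgroup fixing a point. -/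
def NData.fixE (D : NData G) (g : G) : Subgroup G := D.E ⊓ D.N.map (MulAut.conj g).toMonoidHom

theorem mem_conj_iff {K : Subgroup G} {g x : G} :
    x ∈ K.map (MulAut.conj g).toMonoidHom ↔ g⁻¹ * x * g ∈ K :=
  ⟨fun ⟨z, hz, h⟩ => by subst h; simpa [mul_assoc] using hz,
    fun h => ⟨g⁻¹ * x * g, h, by simp [mul_assoc]⟩⟩

theorem smul_point_eq (N : Subgroup G) (x g : G) :
    x • (g : G ⧸ N) = (g : G ⧸ N) ↔ x ∈ N.map (MulAut.conj g).toMonoidHom := by
  rw [MulAction.Quotient.smul_coe, QuotientGroup.eq, mem_conj_iff, smul_eq_mul, ← inv_mem_iff]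
  exact iff_of_eq (congrArg (· ∈ N) (by group))

variable [Fintype G] [IsSimpleGroup G] (hG : Nat.card G = ord)
variable [Fact (Nat.Prime 11)] [Fact (Nat.Prime 23)] [Fact (Nat.Prime 5)] [Fact (Nat.Prime 7)]
variable (T : Table G) (D : NData G)
include hG T

theorem conj_sylow_N {p : ℕ} [Fact p.Prime] (hp : ¬ p * p ∣ 40320) {x : G} (hx : orderOf x = p)
    {g : G} (hxN : x ∈ D.N) (hg : g⁻¹ * x * g ∈ D.N) :
    ∃ n ∈ D.N, (g * n)⁻¹ * x * (g * n) ∈ zpowers x := by
  classical
  have hp' : p.Prime := Fact.out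
  have hfac : (Nat.card D.N).factorization p = 1 := by
    have hd : p ∣ Nat.card D.N := hx ▸ orderOf_dvd_natCard D.N hxN
    refine le_antisymm ?_ ((hp'.dvd_iff_one_le_factorization Nat.card_pos.ne').1 hd)
    by_contra h
    push Not at h
    exact hp (D.card_normalizer ▸ (sq p ▸ (hp'.pow_dvd_iff_le_factorization Nat.card_pos.ne').2 h))
  have hsy : ∀ z : D.N, orderOf z = p → ∃ P : Sylow p D.N, (P : Subgroup D.N) = zpowers z :=
    fun z hz => ⟨Sylow.ofCard (zpowers z) (by rw [Nat.card_zpowers, hz, hfac, pow_one]), rfl⟩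
  obtain ⟨P, hP⟩ := hsy ⟨x, hxN⟩ (by rw [Subgroup.orderOf_mk, hx])
  obtain ⟨Q, hQ⟩ := hsy ⟨_, hg⟩ (by
    rw [Subgroup.orderOf_mk, show g⁻¹ * x * g = g⁻¹ * x * g⁻¹⁻¹ by rw [inv_inv],
      Blocks.orderOf_conj', hx])
  obtain ⟨n, hn⟩ := MulAction.exists_smul_eq D.N Q P
  have h1 : (⟨g⁻¹ * x * g, hg⟩ : D.N) ∈ (Q : Subgroup D.N) := by rw [hQ]; exact mem_zpowers _
  have h2 : MulAut.conj n (⟨g⁻¹ * x * g, hg⟩ : D.N) ∈ ((n • Q : Sylow p D.N) : Subgroup D.N) := by
    rw [Sylow.coe_subgroup_smul]
    exact ⟨_, h1, rfl⟩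
  rw [hn, hP, mem_zpowers_iff] at h2
  obtain ⟨i, hi⟩ := h2
  refine ⟨(n : G)⁻¹, inv_mem n.2, mem_zpowers_iff.2 ⟨i, ?_⟩⟩
  calc x ^ i = (n : G) * (g⁻¹ * x * g) * (n : G)⁻¹ := congrArg Subtype.val hi
    _ = (g * (n : G)⁻¹)⁻¹ * x * (g * (n : G)⁻¹) := by group

/-- No element of order seven fixes two points. -/
theorem seven_meet {g : G} (hg : g ∉ D.N) : ¬ 7 ∣ Nat.card (D.meet g) := by
  intro h
  obtain ⟨⟨x, hxN, hxg⟩, hx⟩ := exists_prime_orderOf_dvd_card' (G := D.meet g) 7 h
  rw [← Subgroup.orderOf_coe] at hx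
  change orderOf x = 7 at hx
  obtain ⟨n, hn, hz⟩ := conj_sylow_N hG T D (by norm_num) hx hxN (mem_conj_iff.1 hxg)
  have := normalizer_seven_le hG T D hx hxN (g := (g * n)⁻¹) (by rwa [inv_inv])
  exact hg ((mul_mem_cancel_right hn).1 (inv_mem_iff.1 this))

/-- An element of order five fixes three points. -/
theorem five_fixed {x : G} (hx : orderOf x = 5) (hxN : x ∈ D.N) :
    Nat.card (MulAction.fixedPoints (zpowers x) (G ⧸ D.N)) = 3 := by
  classical
  obtain ⟨P, hP, hne⟩ := exists_sylow_mem hx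
  obtain ⟨hS, hC⟩ := five_local hG T P
  set NP := normalizer (zpowers x : Set G) with hNP
  have hNPc : Nat.card NP = 60 := by
    have h := hS.card_normalizer
    rw [hC] at h
    rw [hNP, show ((zpowers x : Subgroup G) : Set G) = (P : Set G) from
      congrArg (fun K : Subgroup G => (K : Set G)) (hS.zpowers_eq hP hne)]
    exact h
  have hfix : ∀ y : G, (y : G ⧸ D.N) ∈ MulAction.fixedPoints (zpowers x) (G ⧸ D.N) ↔
      y⁻¹ * x * y ∈ D.N := by
    intro y
    rw [MulAction.mem_fixedPoints]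
    refine ⟨fun h => mem_conj_iff.1 ((smul_point_eq _ x y).1 (h ⟨x, mem_zpowers x⟩)),
      fun h c => (smul_point_eq _ (c : G) y).2 ((zpowers_le.2 (mem_conj_iff.2 h)) c.2)⟩
  have hset : MulAction.fixedPoints (zpowers x) (G ⧸ D.N) =
      MulAction.orbit NP ((1 : G) : G ⧸ D.N) := by
    ext y
    induction y using QuotientGroup.induction_on with | _ y => ?_
    rw [hfix]
    constructor
    · intro h
      obtain ⟨n, hn, hz⟩ := conj_sylow_N hG T D (by norm_num) hx hxN h
      have hmem : y * n ∈ NP := by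
        have := hS.mem_normalizer hP hne (c := y * n)
          ((zpowers_le.2 hP) hz)
        rwa [hNP, show ((zpowers x : Subgroup G) : Set G) = (P : Set G) from
          congrArg (fun K : Subgroup G => (K : Set G)) (hS.zpowers_eq hP hne)]
      refine ⟨⟨y * n, hmem⟩, ?_⟩
      show ((y * n * 1 : G) : G ⧸ D.N) = (y : G ⧸ D.N)
      rw [mul_one, QuotientGroup.eq]
      rw [show (y * n)⁻¹ * y = n⁻¹ by group]
      exact inv_mem hn
    · rintro ⟨⟨c, hc⟩, hcy⟩
      change ((c * 1 : G) : G ⧸ D.N) = (y : G ⧸ D.N) at hcy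
      rw [mul_one, QuotientGroup.eq] at hcy
      have h1 : c⁻¹ * x * c ∈ D.N :=
        zpowers_le.2 hxN ((mem_normalizer_iff''.1 hc x).1 (mem_zpowers x))
      rw [show y⁻¹ * x * y = (c⁻¹ * y)⁻¹ * (c⁻¹ * x * c) * (c⁻¹ * y) by group]
      exact mul_mem (mul_mem (inv_mem hcy) h1) hcy
  have hmod := (IsPGroup.of_card (p := 5) (n := 1) (by
    rw [Nat.card_zpowers, hx, pow_one]) : IsPGroup 5 (zpowers x)).card_modEq_card_fixedPoints
      (G ⧸ D.N)
  rw [card_points hG T D] at hmod
  rw [hset] at hmod ⊢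
  have hos := Subgroup.card_mul_index (MulAction.stabilizer NP ((1 : G) : G ⧸ D.N))
  rw [MulAction.index_stabilizer, hNPc] at hos
  have h5 : 5 ∣ Nat.card (MulAction.stabilizer NP ((1 : G) : G ⧸ D.N)) := by
    rw [← hx, ← Subgroup.orderOf_mk x (le_normalizer (mem_zpowers x) : x ∈ NP)]
    refine Subgroup.orderOf_dvd_natCard _ ?_
    show x • ((1 : G) : G ⧸ D.N) = ((1 : G) : G ⧸ D.N)
    rw [smul_point_eq, mem_conj_iff]
    simpa using hxN
  rw [← Nat.card_coe_set_eq] at hos
  obtain ⟨j, hj⟩ := h5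
  rw [hj, mul_assoc, show (60 : ℕ) = 5 * 12 from rfl] at hos
  have hd : Nat.card (MulAction.orbit NP ((1 : G) : G ⧸ D.N)) ∣ 12 :=
    Dvd.intro_left j (Nat.eq_of_mul_eq_mul_left (by norm_num) hos)
  generalize Nat.card (MulAction.orbit NP ((1 : G) : G ⧸ D.N)) = f at hd hmod ⊢
  have hle := Nat.le_of_dvd (by norm_num) hd
  unfold Nat.ModEq at hmod
  interval_cases f <;> omega

/-- The two suborbits besides the point. -/
theorem meet_cases {g : G} (hg : g ∉ D.N) :
    (Nat.card (D.meet g) = 360 ∧ Nat.card (D.fixE g) = 1) ∨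
      (Nat.card (D.meet g) = 288 ∧ Nat.card (D.fixE g) = 4) := by
  classical
  obtain ⟨-, -, -, -, -, -, hrank, h29⟩ := exists_pi hG T D
  haveI : Fintype (G ⧸ D.N) := Fintype.ofFinite _
  set N := D.N with hN
  set Ω := G ⧸ N
  let α : Ω := ((1 : G) : Ω)
  haveI : Fintype (MulAction.orbitRel.Quotient N Ω) := Fintype.ofFinite _
  have hq : Fintype.card (MulAction.orbitRel.Quotient N Ω) = 3 := by
    have h := pi_inner_self (G := G) (Ω := Ω) α
    have hs : MulAction.stabilizer G α = N := MulAction.stabilizer_quotient N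
    rw [hs] at h
    change classInner _ _ = _ at hrank
    unfold NData.pi at hrank
    rw [hrank] at h
    rw [← Nat.card_eq_fintype_card]
    exact_mod_cast h.symm
  let cls : Ω → MulAction.orbitRel.Quotient N Ω := fun y => Quotient.mk'' y
  have hcls : ∀ y z, cls y = cls z ↔ y ∈ MulAction.orbit N z := fun y z =>
    Quotient.eq''.trans Iff.rfl
  -- invariants of an orbit
  let e : Ω → ℕ := fun y => Nat.card (MulAction.stabilizer D.E y)
  let m : Ω → ℕ := fun y => Nat.card (MulAction.orbit N y)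
  have he_smul : ∀ (n : N) y, e (n • y) = e y := by
    intro n y
    refine Nat.card_congr
      { toFun := fun c => ⟨⟨(n : G)⁻¹ * (c.1 : G) * (n : G),
          (mem_normalizer_iff''.1 n.2 _).1 c.1.2⟩, ?_⟩
        invFun := fun c => ⟨⟨(n : G) * (c.1 : G) * (n : G)⁻¹,
          (mem_normalizer_iff.1 n.2 _).1 c.1.2⟩, ?_⟩
        left_inv := fun c => Subtype.ext (Subtype.ext (by simp [mul_assoc]))
        right_inv := fun c => Subtype.ext (Subtype.ext (by simp [mul_assoc])) }
    · have hc : (c.1 : G) • ((n : G) • y) = (n : G) • y := c.2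
      show ((n : G)⁻¹ * (c.1 : G) * (n : G)) • y = y
      rw [mul_smul, mul_smul, hc, inv_smul_smul]
    · have hc : (c.1 : G) • y = y := c.2
      show ((n : G) * (c.1 : G) * (n : G)⁻¹) • ((n : G) • y) = (n : G) • y
      rw [mul_smul, mul_smul, inv_smul_smul, hc]
  have he_const : ∀ y z, cls y = cls z → e y = e z := fun y z h => by
    obtain ⟨n, rfl⟩ := (hcls y z).1 h
    exact he_smul n z
  have he_dvd : ∀ y, e y ∣ 16 := fun y => D.card ▸ Subgroup.card_subgroup_dvd_card _
  have hfib : ∀ y, (Finset.univ.filter fun z => cls z = cls y).card = m y := by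
    intro y
    rw [← Fintype.card_subtype, ← Nat.card_eq_fintype_card]
    exact Nat.card_congr (Equiv.subtypeEquivRight fun z => hcls z y)
  -- the sum of the stabilizers
  have htot : ∑ y : Ω, e y = 688 := by
    have h1 : ∑ y : Ω, e y = ∑ c : D.E, D.pi (c : G) := by
      simp only [e, NData.pi, Nat.card_eq_fintype_card, Fintype.card_subtype, Finset.card_filter]
      rw [Finset.sum_comm]
      refine Finset.sum_congr rfl fun c _ => Finset.sum_congr rfl fun y _ => ?_
      exact if_congr Iff.rfl rfl rfl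
    rw [h1, ← Finset.add_sum_erase _ _ (Finset.mem_univ (1 : D.E)),
      Finset.sum_congr rfl (g := fun _ => 29) fun c hc => h29 _ (D.orderOf_eq c.2 fun h =>
        Finset.ne_of_mem_erase hc (Subtype.ext h)),
      Finset.sum_const, Finset.card_erase_of_mem (Finset.mem_univ _), Finset.card_univ,
      ← Nat.card_eq_fintype_card, D.card, OneMemClass.coe_one,
      show D.pi 1 = 253 from by
        rw [NData.pi, ← card_points hG T D]
        exact Nat.card_congr (Equiv.subtypeUnivEquiv fun x => one_smul G x)]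
    norm_num
  -- the three classes
  have hαfix : ∀ n : N, n • α = α := fun n => by
    show (n : G) • ((1 : G) : Ω) = _
    rw [smul_point_eq, mem_conj_iff]
    simpa using n.2
  have hclsα : ∀ y, cls y = cls α → y = α := fun y h => by
    obtain ⟨n, rfl⟩ := (hcls y α).1 h
    exact hαfix n
  have hne : cls (g : Ω) ≠ cls α := fun h => hg (by
    have h' := hclsα _ h
    change ((g : G) : Ω) = ((1 : G) : Ω) at h'
    rw [QuotientGroup.eq, mul_one, inv_mem_iff] at h'
    exact h')
  obtain ⟨q, hq'⟩ : ∃ q, q ∉ ({cls α, cls (g : Ω)} : Finset _) := by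
    by_contra h
    push Not at h
    have := Finset.card_le_card (fun q _ => h q : (Finset.univ : Finset _) ⊆ {cls α, cls (g : Ω)})
    rw [Finset.card_univ, hq, Finset.card_pair hne.symm] at this
    omega
  simp only [Finset.mem_insert, Finset.mem_singleton, not_or] at hq'
  obtain ⟨z, hz⟩ : ∃ z, cls z = q := Quotient.exists_rep q
  have huniv : (Finset.univ : Finset (MulAction.orbitRel.Quotient N Ω)) =
      {cls α, cls (g : Ω), cls z} := by
    refine (Finset.eq_univ_of_card _ ?_).symm
    rw [hq, Finset.card_insert_of_notMem, Finset.card_pair (hz ▸ Ne.symm hq'.2)]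
    simp only [Finset.mem_insert, Finset.mem_singleton, not_or]
    exact ⟨hne.symm, hz ▸ Ne.symm hq'.1⟩
  have hsplit : ∀ f : Ω → ℕ, (∀ y w, cls y = cls w → f y = f w) →
      ∑ y, f y = m α * f α + (m (g : Ω) * f (g : Ω) + m z * f z) := by
    intro f hf
    rw [← Finset.sum_fiberwise Finset.univ cls f, huniv, Finset.sum_insert, Finset.sum_pair]
    · congr 1
      · rw [Finset.sum_congr rfl fun y hy => hf y α (Finset.mem_filter.1 hy).2, Finset.sum_const,
          hfib, smul_eq_mul]
      congr 1 <;>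
        rw [Finset.sum_congr rfl fun y hy => hf y _ (Finset.mem_filter.1 hy).2, Finset.sum_const,
          hfib, smul_eq_mul]
    · exact hz ▸ Ne.symm hq'.2
    · simp only [Finset.mem_insert, Finset.mem_singleton, not_or]
      exact ⟨hne.symm, hz ▸ Ne.symm hq'.1⟩
  have hmα : m α = 1 := by
    show Nat.card (MulAction.orbit N α) = 1
    rw [Nat.card_eq_one_iff_unique]
    exact ⟨⟨fun a b => Subtype.ext (by
      obtain ⟨⟨_, n, rfl⟩, ⟨_, n', rfl⟩⟩ := a, b
      exact (hαfix n).trans (hαfix n').symm)⟩, ⟨⟨α, MulAction.mem_orbit_self α⟩⟩⟩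
  have heα : e α = 16 := by
    show Nat.card (MulAction.stabilizer D.E α) = 16
    rw [← D.card]
    exact Nat.card_congr (Equiv.subtypeUnivEquiv fun c => hαfix ⟨c, D.le_N c.2⟩)
  have hsum1 : m (g : Ω) + m z = 252 := by
    have := hsplit (fun _ => 1) fun _ _ _ => rfl
    simp only [Finset.sum_const, Finset.card_univ, smul_eq_mul, mul_one] at this
    rw [← Nat.card_eq_fintype_card, card_points hG T D, hmα] at this
    omega
  have hsum2 : m (g : Ω) * e (g : Ω) + m z * e z = 672 := by
    have := hsplit e he_const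
    rw [htot, hmα, heα] at this
    omega
  -- passing to subgroups
  have hstab : ∀ y : G, Nat.card (MulAction.stabilizer N (y : Ω)) = Nat.card (D.meet y) ∧
      e (y : Ω) = Nat.card (D.fixE y) := by
    intro y
    constructor
    · exact Nat.card_congr
        { toFun := fun c => ⟨(c.1 : G), c.1.2, (smul_point_eq _ _ y).1 c.2⟩
          invFun := fun c => ⟨⟨c.1, c.2.1⟩, (smul_point_eq _ _ y).2 c.2.2⟩
          left_inv := fun _ => rfl
          right_inv := fun _ => rfl }
    · exact Nat.card_congr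
        { toFun := fun c => ⟨(c.1 : G), c.1.2, (smul_point_eq _ _ y).1 c.2⟩
          invFun := fun c => ⟨⟨c.1, c.2.1⟩, (smul_point_eq _ _ y).2 c.2.2⟩
          left_inv := fun _ => rfl
          right_inv := fun _ => rfl }
  have hprod : ∀ y : G, m (y : Ω) * Nat.card (D.meet y) = 40320 := by
    intro y
    have h := Subgroup.card_mul_index (MulAction.stabilizer N (y : Ω))
    rw [MulAction.index_stabilizer, ← Nat.card_coe_set_eq, (hstab y).1, D.card_normalizer,
      mul_comm] at h
    exact h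
  have hseven : ∀ y : G, y ∉ N → 7 ∣ m (y : Ω) := fun y hy => by
    have h := hprod y
    have h7 : 7 ∣ m (y : Ω) * Nat.card (D.meet y) := by rw [h]; norm_num
    exact ((Nat.Prime.dvd_mul Fact.out).1 h7).resolve_right (seven_meet hG T D hy)
  have hfive : ∀ y : Ω, y ≠ α → m y % 5 ≤ 2 := by
    intro y hy
    obtain ⟨⟨x, hxN⟩, hx⟩ := exists_prime_orderOf_dvd_card' (G := N) 5
      (by rw [D.card_normalizer]; norm_num)
    rw [← Subgroup.orderOf_coe] at hx
    change orderOf x = 5 at hx
    have hX : IsPGroup 5 (zpowers x) := IsPGroup.of_card (n := 1) (by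
      rw [Nat.card_zpowers, hx, pow_one])
    letI : MulAction (zpowers x) (MulAction.orbit N y) :=
      MulAction.compHom _ (Subgroup.inclusion (zpowers_le.2 hxN))
    have hmod := hX.card_modEq_card_fixedPoints (MulAction.orbit N y)
    have h3 := five_fixed hG T D hx hxN
    have hle : Nat.card (MulAction.fixedPoints (zpowers x) (MulAction.orbit N y)) + 1 ≤ 3 := by
      rw [← h3, ← Finite.card_option]
      refine Nat.card_le_card_of_injective
        (fun o => o.elim ⟨α, fun c => hαfix ⟨c, zpowers_le.2 hxN c.2⟩⟩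
          fun w => ⟨(w.1 : Ω), fun c => congrArg Subtype.val (w.2 c)⟩) ?_
      have hαy : ∀ w : MulAction.orbit N y, (w : Ω) ≠ α := fun w h => by
        obtain ⟨n, hn⟩ := w.2
        change n • y = (w : Ω) at hn
        rw [h, ← hαfix n] at hn
        exact hy (MulAction.injective n hn)
      intro o o' h
      cases o <;> cases o' <;> simp only [Option.elim, Subtype.mk.injEq] at h
      · rfl
      · exact absurd (congrArg Subtype.val h).symm (hαy _)
      · exact absurd (congrArg Subtype.val h) (hαy _)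
      · have h' := congrArg Subtype.val h
        exact congrArg some (Subtype.ext (Subtype.ext h'))
    show Nat.card (MulAction.orbit N y) % 5 ≤ 2
    unfold Nat.ModEq at hmod
    omega
  obtain ⟨y, rfl⟩ := QuotientGroup.mk_surjective z
  have hyN : y ∉ N := fun h => hq'.1 (by
    rw [← hz]
    congr 1
    rw [QuotientGroup.eq, mul_one]
    exact inv_mem h)
  have hgα : (g : Ω) ≠ α := fun h => hne (congrArg cls h)
  have hyα : (y : Ω) ≠ α := fun h => hq'.1 (hz ▸ congrArg cls h)
  have h := suborbit_arith (he_dvd _) (he_dvd _) hsum1 hsum2 (hseven g hg) (hseven y hyN)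
    (hfive _ hgα) (hfive _ hyα)
  have hp := hprod g
  rw [← (hstab g).2]
  rcases h with ⟨hm, he, -, -⟩ | ⟨hm, he, -, -⟩ <;> rw [hm] at hp <;> omega

/-- Equal stabilizer orders give the same double coset. -/
theorem same_double_coset {g h : G} (hg : g ∉ D.N) (hh : h ∉ D.N)
    (he : Nat.card (D.meet g) = Nat.card (D.meet h)) :
    ∃ n ∈ D.N, (n * g)⁻¹ * h ∈ D.N := by
  classical
  haveI : Fintype (G ⧸ D.N) := Fintype.ofFinite _
  set N := D.N with hN
  set Ω := G ⧸ N
  let α : Ω := ((1 : G) : Ω)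
  by_contra hno
  push Not at hno
  obtain ⟨-, -, -, -, -, -, hrank, -⟩ := exists_pi hG T D
  haveI : Fintype (MulAction.orbitRel.Quotient N Ω) := Fintype.ofFinite _
  have hq : Fintype.card (MulAction.orbitRel.Quotient N Ω) = 3 := by
    have h := pi_inner_self (G := G) (Ω := Ω) α
    have hs : MulAction.stabilizer G α = N := MulAction.stabilizer_quotient N
    rw [hs] at h
    change classInner _ _ = _ at hrank
    unfold NData.pi at hrank
    rw [hrank] at h
    rw [← Nat.card_eq_fintype_card]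
    exact_mod_cast h.symm
  -- the three orbits have 253 points
  let O : G → Set Ω := fun y => MulAction.orbit N (y : Ω)
  have hcard : ∀ y : G, Nat.card (O y) * Nat.card (D.meet y) = 40320 := by
    intro y
    have hs := Subgroup.card_mul_index (MulAction.stabilizer N (y : Ω))
    rw [MulAction.index_stabilizer, ← Nat.card_coe_set_eq, D.card_normalizer, mul_comm] at hs
    have e : Nat.card (MulAction.stabilizer N (y : Ω)) = Nat.card (D.meet y) := Nat.card_congr
      { toFun := fun c => ⟨(c.1 : G), c.1.2, (smul_point_eq _ _ y).1 c.2⟩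
        invFun := fun c => ⟨⟨c.1, c.2.1⟩, (smul_point_eq _ _ y).2 c.2.2⟩
        left_inv := fun _ => rfl
        right_inv := fun _ => rfl }
    rwa [e] at hs
  have hdis : ∀ w : Ω, w ∈ O g → w ∉ O h := by
    rintro _ ⟨n, rfl⟩ ⟨n', hn'⟩
    change (((n' : G) * h : G) : Ω) = (((n : G) * g : G) : Ω) at hn'
    rw [QuotientGroup.eq] at hn'
    refine hno ((n' : G)⁻¹ * (n : G)) (mul_mem (inv_mem n'.2) n.2) ?_
    rw [← inv_mem_iff]
    convert hn' using 1
    group
  have hαO : ∀ y : G, y ∉ N → α ∉ O y := fun y hy ⟨n, hn⟩ => hy (by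
    change (((n : G) * y : G) : Ω) = ((1 : G) : Ω) at hn
    rw [QuotientGroup.eq, mul_one, inv_mem_iff] at hn
    simpa using mul_mem (inv_mem n.2) hn)
  have hall : ∀ w : Ω, w = α ∨ w ∈ O g ∨ w ∈ O h := by
    intro w
    let cls : Ω → MulAction.orbitRel.Quotient N Ω := fun y => Quotient.mk'' y
    have hcls : ∀ y z, cls y = cls z ↔ y ∈ MulAction.orbit N z := fun y z =>
      Quotient.eq''.trans Iff.rfl
    have huniv : (Finset.univ : Finset (MulAction.orbitRel.Quotient N Ω)) =
        {cls α, cls (g : Ω), cls (h : Ω)} := by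
      refine (Finset.eq_univ_of_card _ ?_).symm
      rw [hq, Finset.card_insert_of_notMem, Finset.card_pair]
      · exact fun e => hdis _ (MulAction.mem_orbit_self _) ((hcls _ _).1 e)
      · simp only [Finset.mem_insert, Finset.mem_singleton, not_or]
        exact ⟨fun e => hαO g hg ((hcls _ _).1 e), fun e => hαO h hh ((hcls _ _).1 e)⟩
    have := Finset.mem_univ (cls w)
    rw [huniv] at this
    simp only [Finset.mem_insert, Finset.mem_singleton] at this
    rcases this with e | e | e
    · left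
      obtain ⟨n, rfl⟩ := (hcls w α).1 e
      show (n : G) • ((1 : G) : Ω) = _
      rw [smul_point_eq, mem_conj_iff]
      simpa using n.2
    · exact Or.inr (Or.inl ((hcls w _).1 e))
    · exact Or.inr (Or.inr ((hcls w _).1 e))
  have h253 : 253 = 1 + Nat.card (O g) + Nat.card (O h) := by
    rw [← card_points hG T D, Nat.card_eq_fintype_card, ← Finset.card_univ]
    have e : (Finset.univ : Finset Ω) = insert α ((O g).toFinset ∪ (O h).toFinset) :=
      (Finset.eq_univ_iff_forall.2 fun w => by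
        simp only [Finset.mem_insert, Finset.mem_union, Set.mem_toFinset]; exact hall w).symm
    rw [e, Finset.card_insert_of_notMem, Finset.card_union_of_disjoint, Nat.card_eq_card_toFinset,
      Nat.card_eq_card_toFinset]
    · omega
    · rw [Finset.disjoint_left]
      intro w hw hw'
      exact hdis w (Set.mem_toFinset.1 hw) (Set.mem_toFinset.1 hw')
    · simp only [Finset.mem_union, Set.mem_toFinset, not_or]
      exact ⟨hαO g hg, hαO h hh⟩
  have c1 := hcard g
  have c2 := hcard h
  rcases meet_cases hG T D hg with ⟨e1, -⟩ | ⟨e1, -⟩ <;> rw [e1] at c1 <;>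
    rw [← he, e1] at c2 <;> omega

end Cfsg.Agent.Fg24.M23
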