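import Cfsg.Agent.Fg24.M23.Column
import Cfsg.Agent.S0840

/-!
# The seventeen characters and the column of an involution
-/

set_option autoImplicit false
set_option linter.unusedSectionVars false

namespace Cfsg.Agent.Fg24.M23

open scoped ComplexConjugate
open Cfsg.Agent Cfsg.Agent.Blocks

universe u

variable {G : Type u} [Group G] [Fintype G]

/-- The degrees. -/
def degs17 : List ℕ :=
  [1, 22, 45, 45, 230, 231, 231, 231, 253, 770, 770, 896, 896, 990, 990, 1035, 2024]

/-- The values at an involution. -/
def vals17 : List ℤ := [1, 6, -3, -3, 22, 7, 7, 7, 13, -14, -14, 0, 0, -18, -18, 27, 8]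

/-- The list of the irreducible characters. -/
structure Table (G : Type u) [Group G] [Fintype G] where
  all : List (Cfsg.IrrCharacter G)
  nodup : all.Nodup
  complete : ∀ χ, χ ∈ all
  degrees : all.map dg = degs17
  head : all.head? = some (triv G)
  invol : ∀ t : G, orderOf t = 2 →
    all.map (fun χ : Cfsg.IrrCharacter G => (χ : G → ℂ) t) = vals17.map (fun v : ℤ => (v : ℂ))
  card_two : ∀ t : G, orderOf t = 2 → Nat.card (Subgroup.centralizer ({t} : Set G)) = 2688
  conj_two : ∀ s t : G, orderOf s = 2 → orderOf t = 2 → IsConj s t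

namespace Table

variable (T : Table G)
include T

theorem sum_eq {β : Type*} [AddCommMonoid β] (f : Cfsg.IrrCharacter G → β) :
    ∑ χ, f χ = (T.all.map f).sum := by
  classical
  rw [← List.sum_toFinset f T.nodup]
  exact Finset.sum_congr (Finset.ext fun χ => by simpa using T.complete χ) fun _ _ => rfl

/-- Sums of functions of the degree and of the value at an involution. -/
theorem sum_invol {t : G} (ht : orderOf t = 2) {β : Type*} [AddCommMonoid β] (f : ℕ → ℂ → β) :
    ∑ χ : Cfsg.IrrCharacter G, f (dg χ) ((χ : G → ℂ) t) =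
      ((degs17.zip vals17).map fun x => f x.1 (x.2 : ℂ)).sum := by
  rw [T.sum_eq]
  congr 1
  have h1 : T.all.map (fun χ : Cfsg.IrrCharacter G => (dg χ, (χ : G → ℂ) t)) =
      degs17.zip (vals17.map fun v : ℤ => (v : ℂ)) := by
    rw [← T.invol t ht, ← T.degrees, List.zip_map']
  rw [List.zip_map_right] at h1
  have h2 := congrArg (List.map fun x : ℕ × ℂ => f x.1 x.2) h1
  simpa [List.map_map, Function.comp_def] using h2

theorem mem_degrees (χ : Cfsg.IrrCharacter G) : dg χ ∈ degs17 :=
  T.degrees ▸ List.mem_map_of_mem (T.complete χ)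

/-- The value at an involution is determined by the degree. -/
theorem value_mem {t : G} (ht : orderOf t = 2) (χ : Cfsg.IrrCharacter G) :
    ∃ v : ℤ, (dg χ, v) ∈ degs17.zip vals17 ∧ (χ : G → ℂ) t = (v : ℂ) := by
  have h1 : T.all.map (fun χ : Cfsg.IrrCharacter G => (dg χ, (χ : G → ℂ) t)) =
      degs17.zip (vals17.map fun v : ℤ => (v : ℂ)) := by
    rw [← T.invol t ht, ← T.degrees, List.zip_map']
  have h2 : (dg χ, (χ : G → ℂ) t) ∈ degs17.zip (vals17.map fun v : ℤ => (v : ℂ)) :=
    h1 ▸ List.mem_map_of_mem (f := fun χ : Cfsg.IrrCharacter G => (dg χ, (χ : G → ℂ) t))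
      (T.complete χ)
  rw [List.zip_map_right, List.mem_map] at h2
  obtain ⟨⟨d, v⟩, hm, e⟩ := h2
  simp only [Prod.map_apply, id_eq, Prod.mk.injEq] at e
  exact ⟨v, e.1 ▸ hm, e.2.symm⟩

/-- Two involutions with product a given involution. -/
theorem card_invol_pairs (hG : Nat.card G = ord) {t : G} (ht : orderOf t = 2) :
    Nat.card {x : G // orderOf x = 2 ∧ orderOf (x * t) = 2} = 98 := by
  classical
  have hconj : ∀ x : G, IsConj t x ↔ orderOf x = 2 := fun x =>
    ⟨fun h => by obtain ⟨c, rfl⟩ := isConj_iff.1 h; rw [Blocks.orderOf_conj', ht],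
      fun h => T.conj_two t x ht h⟩
  have hsq : ∀ x : G, orderOf x = 2 → x * x = 1 := fun x hx => by
    rw [← sq, ← hx, pow_orderOf_eq_one]
  have hcard : Nat.card {q : G × G // IsConj t q.1 ∧ IsConj t q.2 ∧ q.1 * q.2 = t} =
      Nat.card {x : G // orderOf x = 2 ∧ orderOf (x * t) = 2} := by
    refine Nat.card_congr
      { toFun := fun q => ⟨q.1.1, (hconj _).1 q.2.1, by
          have e : q.1.1 * t = q.1.2 := by
            calc q.1.1 * t = q.1.1 * (q.1.1 * q.1.2) := by rw [q.2.2.2]
              _ = q.1.2 := by rw [← mul_assoc, hsq _ ((hconj _).1 q.2.1), one_mul]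
          rw [e]
          exact (hconj _).1 q.2.2.1⟩
        invFun := fun x => ⟨(x.1, x.1 * t), (hconj _).2 x.2.1, (hconj _).2 x.2.2, by
          rw [← mul_assoc, hsq _ x.2.1, one_mul]⟩
        left_inv := fun q => Subtype.ext (Prod.ext rfl (by
          show q.1.1 * t = q.1.2
          calc q.1.1 * t = q.1.1 * (q.1.1 * q.1.2) := by rw [q.2.2.2]
            _ = q.1.2 := by rw [← mul_assoc, hsq _ ((hconj _).1 q.2.1), one_mul]))
        right_inv := fun x => rfl }
  have hidx : (Subgroup.centralizer ({t} : Set G)).index = 3795 := by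
    rw [index_eq hG, T.card_two t ht]; rfl
  have h := S0840.result t t t
  rw [finsum_eq_sum_of_fintype, hcard, Char.card_isConj_eq_index, hidx, hG] at h
  simp only [value_one] at h
  rw [T.sum_invol ht (fun d v => v * v * conj v / (d : ℂ))] at h
  simp [degs17, vals17, ord] at h
  norm_num at h
  rw [Nat.card_eq_fintype_card]
  exact_mod_cast h

end Table

variable [IsSimpleGroup G] (hG : Nat.card G = ord)
variable [Fact (Nat.Prime 11)] [Fact (Nat.Prime 23)]
include hG

theorem exists_table [Fact (Nat.Prime 5)] : Nonempty (Table G) := by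
  classical
  obtain ⟨C⟩ := exists_core hG
  obtain ⟨t₀, ht₀⟩ := exists_prime_orderOf_dvd_card' (G := G) 2 (hp := ⟨Nat.prime_two⟩)
    (by rw [hG]; norm_num [ord])
  have H := isCol hG C ht₀
  obtain ⟨L, hL, hs⟩ := exists_sorted C.F
  have hLd : L.map dg = [22, 231, 231, 990, 990] :=
    List.Perm.eq_of_pairwise (fun a b _ _ h h' => le_antisymm h h') (List.pairwise_map.2 hs)
      (by decide) ((hL.map dg).trans H.degF)
  obtain ⟨ha, hb, hθ, hθ', hw, hl, hy'⟩ := C.degs
  have hlen : L.length = 5 := by
    have := congrArg List.length hLd; simpa using this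
  match L, hlen with
  | [f₁, f₂, f₃, f₄, f₅], _ =>
    simp only [List.map_cons, List.map_nil, List.cons.injEq, and_true] at hLd
    obtain ⟨d1, d2, d3, d4, d5⟩ := hLd
    have hFm : ∀ χ, χ ∈ C.F ↔ χ ∈ [f₁, f₂, f₃, f₄, f₅] := fun χ => by
      rw [hL.mem_iff, Finset.mem_toList]
    set S := (coreList C).toFinset with hS
    have h253 : ∀ χ ∈ Sᶜ, 253 ∣ dg χ := by
      intro χ hχ
      rw [Finset.mem_compl, hS, List.mem_toFinset, coreList] at hχ
      simp only [List.mem_append, List.mem_cons, List.not_mem_nil, or_false, not_or,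
        Finset.mem_toList] at hχ
      obtain ⟨⟨n0, n1, n2, n3, n4, n5, n6, n7, n8, n9, n10⟩, nF⟩ := hχ
      have h11 : 11 ∣ dg χ := by
        by_contra h
        rcases C.complete11 χ h with e | e | e | e | e | e | e
        exacts [n0 e, n1 e, n2 e, n3 e, n4 e, n5 e, n6 e]
      have h23 : 23 ∣ dg χ := by
        have h := res_twentythree hG χ
        simp only [res23, List.mem_cons, List.not_mem_nil, or_false] at h
        rcases h with h | h | h | h | h
        · exact Nat.dvd_of_mod_eq_zero h
        all_goals exfalso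
        · have h' := C.complete23 χ (by omega)
          simp only [List.mem_cons, List.not_mem_nil, or_false] at h'
          rcases h' with (e | e | e | e | e | e) | e
          exacts [n0 e, n1 e, n2 e, n5 e, n6 e, n7 e, nF e]
        · have h' := C.complete23 χ (by omega)
          simp only [List.mem_cons, List.not_mem_nil, or_false] at h'
          rcases h' with (e | e | e | e | e | e) | e
          exacts [n0 e, n1 e, n2 e, n5 e, n6 e, n7 e, nF e]
        · rcases C.completeY χ (by omega) with e | e
          exacts [n9 e, n10 e]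
        · rcases C.completeY χ (by omega) with e | e
          exacts [n9 e, n10 e]
      exact (show Nat.Coprime 11 23 by norm_num).mul_dvd_of_dvd_of_dvd h11 h23
    have hrest : ∑ χ ∈ Sᶜ, dg χ * dg χ = 64009 := by
      have h := Finset.sum_add_sum_compl S fun χ => dg χ * dg χ
      rw [sum_sq hG, hS, coreList, List.sum_toFinset _ C.nodup, List.map_append, List.sum_append,
        ← (hL.map fun χ => dg χ * dg χ).sum_eq] at h
      simp only [List.map_cons, List.map_nil, List.sum_cons, List.sum_nil, dg_triv, ha, hb, hθ,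
        hθ', hw, hl, hy', H.degp.1, H.degp.2, H.degy, d1, d2, d3, d4, d5, ord] at h
      rw [hS, coreList]
      omega
    obtain ⟨z, hz⟩ : Sᶜ.Nonempty := by
      rw [Finset.nonempty_iff_ne_empty]
      intro h; rw [h, Finset.sum_empty] at hrest; norm_num at hrest
    have hzle := Finset.single_le_sum (f := fun χ => dg χ * dg χ) (fun _ _ => Nat.zero_le _) hz
    rw [hrest] at hzle
    have hdz : dg z = 253 := by
      obtain ⟨j, hj⟩ := h253 z hz
      have := dg_pos z
      have hj1 : j ≤ 1 := by
        by_contra hj2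
        have : 506 * 506 ≤ dg z * dg z := Nat.mul_le_mul (by omega) (by omega)
        omega
      interval_cases j <;> omega
    have honly : ∀ χ ∈ Sᶜ, χ = z := by
      intro χ hχ
      by_contra hne
      have h := Finset.add_sum_erase _ (fun χ => dg χ * dg χ) hz
      have h2 := Finset.single_le_sum (f := fun χ => dg χ * dg χ) (fun _ _ => Nat.zero_le _)
        (Finset.mem_erase.2 ⟨hne, hχ⟩)
      have h3 : 0 < dg χ * dg χ := Nat.mul_pos (dg_pos χ) (dg_pos χ)
      have h4 : dg z * dg z = 64009 := by rw [hdz]
      omega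
    have hzS : z ∉ coreList C := by
      rw [Finset.mem_compl, hS, List.mem_toFinset] at hz; exact hz
    have hperm : [triv G, f₁, C.a, C.b, C.p, C.w, f₂, f₃, z, C.y, C.y', C.θ, C.θ', f₄, f₅, C.q,
        C.l].Perm (coreList C ++ [z]) := by
      have h1 : ([triv G, C.a, C.b, C.p, C.q, C.θ, C.θ', C.w, C.l, C.y, C.y'] ++
          [f₁, f₂, f₃, f₄, f₅] ++ [z]).Perm (coreList C ++ [z]) :=
        (List.Perm.append_left _ hL).append_right _
      refine List.Perm.trans ?_ h1
      rw [← Multiset.coe_eq_coe]
      simp only [List.cons_append, List.nil_append, ← Multiset.cons_coe, Multiset.coe_nil]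
      simp only [← Multiset.singleton_add, add_assoc, add_comm, add_left_comm]
    have hnd : (coreList C ++ [z]).Nodup := by
      rw [List.nodup_append]
      exact ⟨C.nodup, List.nodup_singleton z, fun x hx y hy e => hzS (List.mem_singleton.1 hy ▸ e ▸ hx)⟩
    refine ⟨⟨_, hperm.nodup_iff.2 hnd, fun χ => hperm.mem_iff.2 ?_, ?_, rfl, fun t ht => ?_,
      fun t ht => (isCol hG C ht).card, fun s t hs ht => isConj_of_two hG C hs ht⟩⟩
    · by_cases h : χ ∈ coreList C
      · exact List.mem_append_left _ h
      · refine List.mem_append_right _ (List.mem_singleton.2 (honly χ ?_))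
        rw [Finset.mem_compl, hS, List.mem_toFinset]; exact h
    · simp only [List.map_cons, List.map_nil, dg_triv, d1, d2, d3, d4, d5, ha, hb, hθ, hθ', hw, hl,
        hy', H.degp.1, H.degp.2, H.degy, hdz, degs17]
    · have Ht := isCol hG C ht
      obtain ⟨b1, b2, b3, b4, b5, b6, b7, b8, b9, b10⟩ := Ht.vals
      obtain ⟨v, hv, hsum, hok⟩ := exists_values hG ht
      have hzne : z ≠ triv G := fun e => by rw [e, dg_triv] at hdz; norm_num at hdz
      have hf : ∀ {x}, x ∈ [f₁, f₂, f₃, f₄, f₅] → (x : G → ℂ) t =
          if dg x = 22 then 6 else if dg x = 231 then 7 else -18 := fun hx =>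
        Ht.valF _ ((hFm _).2 hx)
      have e1 := hf (x := f₁) (by simp)
      have e2 := hf (x := f₂) (by simp)
      have e3 := hf (x := f₃) (by simp)
      have e4 := hf (x := f₄) (by simp)
      have e5 := hf (x := f₅) (by simp)
      rw [d1] at e1; rw [d2] at e2; rw [d3] at e3; rw [d4] at e4; rw [d5] at e5
      norm_num at e1 e2 e3 e4 e5
      have hvz : (z : G → ℂ) t = 13 := by
        have h := Finset.sum_add_sum_compl S fun χ => v χ * v χ
        rw [hsum, (isCol hG C ht).card,
          show Sᶜ = {z} from Finset.eq_singleton_iff_unique_mem.2 ⟨hz, honly⟩, Finset.sum_singleton,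
          hS, coreList, List.sum_toFinset _ C.nodup, List.map_append, List.sum_append,
          ← (hL.map fun χ => v χ * v χ).sum_eq] at h
        have cast' : ∀ {χ : Cfsg.IrrCharacter G} {n : ℤ}, (χ : G → ℂ) t = (n : ℂ) → v χ = n :=
          fun {χ n} h => by exact_mod_cast (hv χ).symm.trans h
        have c0 : v (triv G) = 1 := cast' (by simp [triv_apply])
        have c1 : v C.a = -3 := cast' (by simp [b1])
        have c2 : v C.b = -3 := cast' (by simp [b2])
        have c3 : v C.p = 22 := cast' (by simp [b3])
        have c4 : v C.q = 27 := cast' (by simp [b4])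
        have c5 : v C.θ = 0 := cast' (by simp [b5])
        have c6 : v C.θ' = 0 := cast' (by simp [b6])
        have c7 : v C.w = 7 := cast' (by simp [b7])
        have c8 : v C.l = 8 := cast' (by simp [b8])
        have c9 : v C.y = -14 := cast' (by simp [b9])
        have c10 : v C.y' = -14 := cast' (by simp [b10])
        have g1 : v f₁ = 6 := cast' (by simp [e1])
        have g2 : v f₂ = 7 := cast' (by simp [e2])
        have g3 : v f₃ = 7 := cast' (by simp [e3])
        have g4 : v f₄ = -18 := cast' (by simp [e4])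
        have g5 : v f₅ = -18 := cast' (by simp [e5])
        simp only [List.map_cons, List.map_nil, List.sum_cons, List.sum_nil, c0, c1, c2, c3, c4,
          c5, c6, c7, c8, c9, c10, g1, g2, g3, g4, g5] at h
        norm_num at h
        obtain ⟨h4, -, hlt, -⟩ := okv_iff.1 (hok z hzne)
        rw [hdz] at h4
        have hv13 : v z = 13 ∨ v z = -13 := by
          have : (v z - 13) * (v z + 13) = 0 := by linear_combination h
          rcases mul_eq_zero.1 this with e | e <;> omega
        rcases hv13 with e | e
        · rw [hv, e]; norm_num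
        · rw [e] at h4; norm_num at h4
      simp only [List.map_cons, List.map_nil, vals17, List.cons.injEq, and_true]
      refine ⟨?_, ?_, ?_, ?_, ?_, ?_, ?_, ?_, ?_, ?_, ?_, ?_, ?_, ?_, ?_, ?_, ?_⟩ <;>
        simp [triv_apply, b1, b2, b3, b4, b5, b6, b7, b8, b9, b10, e1, e2, e3, e4, e5, hvz]

end Cfsg.Agent.Fg24.M23
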