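import Cfsg.Agent.Fg24.M23.Basic

/-!
# The Sylow 23-subgroup is self-centralizing with automizer of order eleven

Otherwise the principal block has a nontrivial member of odd degree, and that degree has no
possible value at an element of prime order in the complement of the Sylow subgroup.
-/

set_option autoImplicit false

namespace Cfsg.Agent.Fg24.M23

open Cfsg.Agent Cfsg.Agent.Blocks

universe u

theorem mem_divs {n : ℕ} (h : n ∣ 443520) :
    ∃ a ∈ Nat.divisors 128, ∃ b ∈ Nat.divisors 3465, a * b = n := by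
  have h1 : n ∈ Nat.divisors (128 * 3465) := Nat.mem_divisors.2 ⟨h, by norm_num⟩
  rw [Nat.divisors_mul] at h1
  obtain ⟨a, ha, b, hb, e⟩ := Finset.mem_mul.1 h1
  exact ⟨a, ha, b, hb, e⟩

theorem count_twentythree_aux : ∀ e ∈ ([2, 11, 22] : List ℕ), ∀ a ∈ [1, 2, 4, 8, 16, 32, 64, 128],
    ∀ b ∈ Nat.divisors 3465,
    e * (a * b) ∣ 443520 → (443520 / (e * (a * b))) % 23 = 1 → 443520 / (e * (a * b)) ≠ 1 →
      (e = 11 ∧ a * b = 1) ∨ (2 ∣ a * b ∧ ¬ 11 ∣ a * b ∨ e = 2 ∧ 2 ∣ a * b) ∨
        ((e = 2 ∨ e = 22) ∧ 7 ∣ a * b ∧ (3 ∣ a * b ∨ 5 ∣ a * b)) := by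
  decide +kernel

theorem count_twentythree {e : ℕ} (he : e = 2 ∨ e = 11 ∨ e = 22) {k : ℕ} (hk : e * k ∣ 443520)
    (hmod : (443520 / (e * k)) % 23 = 1) (hne : 443520 / (e * k) ≠ 1) :
    (e = 11 ∧ k = 1) ∨ (2 ∣ k ∧ ¬ 11 ∣ k ∨ e = 2 ∧ 2 ∣ k) ∨
      ((e = 2 ∨ e = 22) ∧ 7 ∣ k ∧ (3 ∣ k ∨ 5 ∣ k)) := by
  obtain ⟨a, ha, b, hb, rfl⟩ := mem_divs ((dvd_mul_left k e).trans hk)
  refine count_twentythree_aux e (by simpa using he) a ?_ b hb hk hmod hne
  exact (show ∀ x ∈ Nat.divisors 128, x ∈ [1, 2, 4, 8, 16, 32, 64, 128] by decide +kernel) a ha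

theorem odd_twentythree : ∀ e ∈ ([2, 11, 22] : List ℕ), ∀ d ∈ Nat.divisors 3465,
    d ≤ 3193 → d ≠ 1 → (d % 23 = 1 ∨ d % 23 = 22 ∨ d % 23 = e ∨ d % 23 = 23 - e) →
    (d < 46 ∨ d = 231 ∨ (d = 495 ∧ e ≠ 2)) ∧ (e = 2 ∨ e = 22 → d = 21 ∨ d = 45 ∨ d = 231) := by
  decide +kernel

theorem pow_eleven : ∀ i ∈ Finset.Icc 1 7, ¬ 11 ∣ 2 ^ i - 1 := by decide +kernel

section Group

variable {G : Type u} [Group G] [Fintype G]

/-- A block has a nontrivial member of odd degree. -/
theorem Blk.exists_odd {p : ℕ} [Fact p.Prime] {P : Sylow p G} {e : ℕ} (B : Blk P e) :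
    ∃ ψ, B.Mem ψ ∧ ψ ≠ triv G ∧ dg ψ % 2 = 1 := by
  classical
  by_contra hcon
  push Not at hcon
  have hev : ∀ ψ, B.Mem ψ → ψ ≠ triv G → (dg ψ : ZMod 2) = 0 := by
    intro ψ hψ hne
    rw [ZMod.natCast_eq_zero_iff_even, Nat.even_iff]
    have := hcon ψ hψ hne
    omega
  obtain ⟨θ, hθ, hθ'⟩ : ∃ θ, θ ∈ B.Y ∧ (triv G ∈ B.Y → θ = triv G) := by
    by_cases h : triv G ∈ B.Y
    · exact ⟨_, h, fun _ => rfl⟩
    · obtain ⟨θ, hθ⟩ := B.Y_nonempty
      exact ⟨θ, hθ, fun h' => absurd h' h⟩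
  have h2 := congrArg (fun z : ℤ => (z : ZMod 2)) (B.rel_one hθ)
  push_cast at h2
  have hsign : ∀ z : ℤ, z = 1 ∨ z = -1 → (z : ZMod 2) = 1 := fun z hz => by
    rcases hz with rfl | rfl <;> decide
  rw [hsign _ B.hs, one_mul, Finset.sum_congr rfl (g := fun χ => (dg χ : ZMod 2)) fun χ hχ => by
    rw [hsign _ (B.ha χ hχ), one_mul]] at h2
  rcases B.triv_mem with ht | ht
  · rw [Finset.sum_eq_single_of_mem _ ht fun χ hχ hne => hev χ (Or.inl hχ) hne,
      hev θ (Or.inr hθ) (fun e => Finset.disjoint_left.1 B.disj ht (e ▸ hθ)), dg_triv, zero_add,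
      Nat.cast_one] at h2
    exact one_ne_zero h2
  · rw [Finset.sum_eq_zero fun χ hχ => hev χ (Or.inl hχ)
        (fun e => Finset.disjoint_left.1 B.disj (e ▸ hχ) ht),
      hθ' ht, dg_triv, add_zero, Nat.cast_one] at h2
    exact one_ne_zero h2

variable [IsSimpleGroup G] (hG : Nat.card G = ord)
include hG

/-- The number of Sylow subgroups through the centralizer. -/
theorem sylow_count {p : ℕ} [Fact p.Prime] {P : Sylow p G} {e : ℕ}
    (hS : BlockThms.OrderP.Setup P e) :
    ∃ K : Subgroup G, (∀ c ∈ K, c ∈ Subgroup.centralizer (P : Set G)) ∧ ¬ p ∣ Nat.card K ∧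
      (∀ n ∈ Subgroup.normalizer (P : Set G), n ∈ Subgroup.normalizer (K : Set G)) ∧
      Nat.card (Subgroup.centralizer (P : Set G)) = p * Nat.card K ∧
      Nat.card (Sylow p G) * (p * (e * Nat.card K)) = ord ∧
      Nat.card (Sylow p G) % p = 1 ∧ Nat.card (Sylow p G) ≠ 1 := by
  obtain ⟨K, hKC, hpK, -, hKn, hCK, -⟩ := hS.exists_complement
  refine ⟨K, fun c hc => hKC hc, hpK, fun n hn => ?_, hCK, ?_, ?_, fun h => ?_⟩
  · refine Subgroup.mem_normalizer_iff.2 fun c => ⟨fun hc => hKn n hn c hc, fun hc => ?_⟩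
    have := hKn n⁻¹ (inv_mem hn) _ hc
    rwa [show n⁻¹ * (n * c * n⁻¹) * n⁻¹⁻¹ = c by group] at this
  · have hidx := Sylow.card_eq_index_normalizer P
    have hmul := Subgroup.card_mul_index (Subgroup.normalizer ((P : Subgroup G) : Set G))
    rw [show (Subgroup.normalizer ((P : Subgroup G) : Set G)).index = Nat.card (Sylow p G) from
      hidx.symm, hG, show Nat.card (Subgroup.normalizer ((P : Subgroup G) : Set G)) =
      e * Nat.card (Subgroup.centralizer (P : Set G)) from hS.card_normalizer, hCK] at hmul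
    rw [← hmul]; ring
  · have := card_sylow_modEq_one p G
    rwa [Nat.ModEq, Nat.mod_eq_of_lt (Fact.out : p.Prime).one_lt] at this
  · have hnorm : (P : Subgroup G).Normal := by
      rw [← Subgroup.normalizer_eq_top_iff, ← Subgroup.index_eq_one]
      exact (Sylow.card_eq_index_normalizer P).symm.trans h
    have hp := (Fact.out : p.Prime)
    rcases hnorm.eq_bot_or_eq_top with hb | ht
    · have := hS.card
      rw [hb, Subgroup.card_bot] at this
      exact hp.ne_one this.symm
    · have := hS.card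
      rw [ht, Subgroup.card_top, hG] at this
      rw [← this] at hp
      exact absurd hp (by norm_num [ord])

/-- The Sylow 23-subgroup. -/
theorem twentythree [Fact (Nat.Prime 23)] (P : Sylow 23 G) :
    BlockThms.OrderP.Setup P 11 ∧
      Nat.card (Subgroup.centralizer (P : Set G)) = 23 := by
  classical
  obtain ⟨e, hS⟩ := exists_setup hG (Or.inr (Or.inr (Or.inr rfl))) P
  obtain ⟨K, hKC, hpK, hKn, hCK, hcnt, hmod, hn1⟩ := sylow_count hG hS
  have hnd : Nat.card (Sylow 23 G) * (e * Nat.card K) = 443520 :=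
    Nat.eq_of_mul_eq_mul_left (show 0 < 23 by norm_num) (by
      rw [← mul_assoc, mul_comm 23, mul_assoc, hcnt])
  have he : e = 2 ∨ e = 11 ∨ e = 22 := by
    have h22 : e ∣ 22 := hS.exists_y.1
    have hne : e ≠ 1 := S4429.e_ne_one hS (by rw [hG]; norm_num [ord])
    have := hS.e_pos
    have := Nat.le_of_dvd (by norm_num) h22
    interval_cases e <;> omega
  have hdiv : 443520 / (e * Nat.card K) = Nat.card (Sylow 23 G) := by
    rw [← hnd, Nat.mul_div_left _ (Nat.mul_pos hS.e_pos Nat.card_pos)]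
  rcases count_twentythree he (Dvd.intro_left _ hnd) (by rw [hdiv]; exact hmod)
    (by rw [hdiv]; exact hn1) with
    ⟨rfl, hk⟩ | hk
  · exact ⟨hS, by rw [hCK, hk]⟩
  exfalso
  obtain ⟨B⟩ := exists_blk hS
  obtain ⟨ψ, hψ, hne, hodd⟩ := B.exists_odd
  have hd23 : ¬ 23 ∣ dg ψ := B.not_dvd hψ
  have hdd : dg ψ ∈ Nat.divisors 3465 := by
    have h1 : dg ψ ∣ 443520 :=
      (((Fact.out : Nat.Prime 23).coprime_iff_not_dvd.2 hd23).symm).dvd_of_dvd_mul_left
        (show _ ∣ 23 * 443520 from deg_dvd hG ψ)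
    refine Nat.mem_divisors.2 ⟨Nat.Coprime.dvd_of_dvd_mul_left ?_ (show _ ∣ 128 * 3465 from h1),
      by norm_num⟩
    exact ((Nat.prime_two.coprime_iff_not_dvd.2 (by omega)).pow_left 7).symm
  have hres : dg ψ % 23 = 1 ∨ dg ψ % 23 = 22 ∨ dg ψ % 23 = e ∨ dg ψ % 23 = 23 - e := by
    rcases hψ with h | h
    · have h4 := Int.ModEq.eq (B.modX ψ h)
      rcases B.ha ψ h with e1 | e1 <;> rw [e1] at h4 <;> norm_num at h4 <;> omega
    · have h4 := Int.ModEq.eq (B.modY ψ h)
      rcases he with rfl | rfl | rfl <;> rcases B.hs with e1 | e1 <;> rw [e1] at h4 <;>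
        norm_num at h4 <;> omega
  obtain ⟨hlist, hlist'⟩ := odd_twentythree e (by simpa using he) _ hdd (deg_le hG ψ)
    (fun h => hne (dg_one hG h)) hres
  have elt : ∀ r : ℕ, r.Prime → r ∣ Nat.card K → r ∣ Nat.card G / dg ψ := by
    intro r hr hrK
    haveI := Fact.mk hr
    obtain ⟨c, hc⟩ := exists_prime_orderOf_dvd_card' (G := K) r hrK
    exact B.dvd_codeg hψ (hKC _ c.2) hr (fun e => hpK (e ▸ hrK))
      (by rw [Subgroup.orderOf_coe]; exact hc)
  rcases hk with hk | ⟨hee, h7, h35⟩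
  · -- an involution of the complement
    have h2 : 2 ∣ Nat.card K := by rcases hk with ⟨h, -⟩ | ⟨-, h⟩ <;> exact h
    obtain ⟨w, hwC, hw2, hwc⟩ : ∃ w ∈ Subgroup.centralizer (P : Set G), orderOf w = 2 ∧
        (e ≠ 2 → 11 ∣ Nat.card (Subgroup.centralizer ({w} : Set G))) := by
      by_cases h2e : e = 2
      · obtain ⟨c, hc⟩ := exists_prime_orderOf_dvd_card' (G := K) 2 (hp := ⟨Nat.prime_two⟩) h2
        exact ⟨c, hKC _ c.2, by rw [Subgroup.orderOf_coe]; exact hc, fun h => absurd h2e h⟩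
      haveI : Fact (Nat.Prime 11) := ⟨by norm_num⟩
      obtain ⟨-, h11⟩ := hk.resolve_right fun h => h2e h.1
      have he11 : 11 ∣ e := by rcases he with rfl | rfl | rfl <;> omega
      have hfac : (Nat.card K).factorization 2 ≤ 7 := by
        by_contra hlt
        push Not at hlt
        have h256 : 2 ^ 8 ∣ Nat.card K :=
          (Nat.prime_two.pow_dvd_iff_le_factorization Nat.card_pos.ne').2 hlt
        have := h256.trans ((dvd_mul_left _ e).trans (Dvd.intro_left _ hnd))
        norm_num at this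
      obtain ⟨y, hy⟩ := exists_prime_orderOf_dvd_card'
        (G := (Subgroup.normalizer (P : Set G) : Subgroup G)) 11
        (hS.card_normalizer ▸ he11.mul_right _)
      obtain ⟨w, hwK, hw2, hyw⟩ := exists_commuting_inv (K := K) h2 h11
        (fun i hi => pow_eleven i (Finset.Icc_subset_Icc_right hfac hi))
        (y := (y : G)) (by rw [Subgroup.orderOf_coe]; exact hy) (hKn _ y.2)
      refine ⟨w, hKC _ hwK, hw2, fun _ => ?_⟩
      rw [← hy, ← Subgroup.orderOf_coe]
      exact Subgroup.orderOf_dvd_natCard _ (Subgroup.mem_centralizer_singleton_iff.2 hyw.eq)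
    obtain ⟨v, -, h92, hlt, hdvd⟩ := B.central_inv hG (by norm_num) hψ hne hwC hw2
    norm_num at h92
    obtain ⟨m, hm⟩ := h92
    rcases hlist with h | h
    · omega
    -- the degree is divisible by eleven
    have h11d : 11 ∣ dg ψ := by rcases h with h | ⟨h, -⟩ <;> rw [h] <;> norm_num
    by_cases h2e : e = 2
    · -- the two nonexceptional members
      subst h2e
      have h231 : dg ψ = 231 := h.resolve_right fun h => h.2 rfl
      have htX : triv G ∈ B.X := B.triv_mem_X fun s hs => by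
        rcases hs with rfl | rfl <;> decide
      obtain ⟨θ, hθ⟩ := B.Y_nonempty
      obtain ⟨χ, hχ⟩ := Finset.card_eq_one.1 (show (B.X.erase (triv G)).card = 1 by
        rw [Finset.card_erase_of_mem htX, B.cardX])
      obtain ⟨hχne, hχX⟩ := Finset.mem_erase.1 (hχ.symm ▸ Finset.mem_singleton_self χ :
        χ ∈ B.X.erase (triv G))
      have h3 := B.rel_one hθ
      rw [← Finset.add_sum_erase _ _ htX, hχ, Finset.sum_singleton,
        B.a_triv (by norm_num) htX, dg_triv] at h3
      have hdv : ∀ φ, B.Mem φ → dg φ ∣ 443520 := fun φ hφ =>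
        (((Fact.out : Nat.Prime 23).coprime_iff_not_dvd.2 (B.not_dvd hφ)).symm).dvd_of_dvd_mul_left
          (show _ ∣ 23 * 443520 from deg_dvd hG φ)
      have h1 := hdv θ (Or.inr hθ)
      have h4 := hdv χ (Or.inl hχX)
      have key : dg θ = 231 ∨ dg χ = 231 := by
        rcases hψ with hX | hY
        · right
          have : ψ ∈ B.X.erase (triv G) := Finset.mem_erase.2 ⟨hne, hX⟩
          rw [hχ, Finset.mem_singleton] at this
          exact this ▸ h231
        · exact Or.inl ((B.dg_Y hθ hY).trans h231)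
      have := dg_pos θ
      have := dg_pos χ
      rcases B.ha χ hχX with e1 | e1 <;> rcases B.hs with e2 | e2 <;> rw [e1, e2] at h3 <;>
        rcases key with k | k <;> rw [k] at h3 <;>
        first
        | omega
        | (have : dg χ = 230 ∨ dg χ = 232 := by omega
           rcases this with q | q <;> rw [q] at h4 <;> norm_num at h4)
        | (have : dg θ = 230 ∨ dg θ = 232 := by omega
           rcases this with q | q <;> rw [q] at h1 <;> norm_num at h1)
    · have hc := hwc h2e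
      have hv11 : (11 : ℤ) ∣ v := by
        refine (Int.Prime.dvd_mul' (p := 11) (by norm_num)
          ((Int.natCast_dvd_natCast.2 h11d).trans hdvd)).resolve_left fun h' => ?_
        obtain ⟨j, hj⟩ := card_dvd hG w
        rw [hj, Nat.mul_div_cancel_left _ Nat.card_pos] at h'
        have h121 : 11 * 11 ∣ ord := hj ▸ mul_dvd_mul hc (Int.natCast_dvd_natCast.1 h')
        norm_num [ord] at h121
      obtain ⟨j, hj⟩ := hv11
      rcases h with h | ⟨h, -⟩ <;> omega
  · -- an element of odd order of the complement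
    have e7 := elt 7 (by norm_num) h7
    rw [hG] at e7
    rcases hlist' hee with h | h | h <;> rw [h] at e7
    · norm_num [ord] at e7
    · rcases h35 with h3 | h5
      · have := elt 3 (by norm_num) h3
        rw [hG, h] at this
        norm_num [ord] at this
      · have := elt 5 (by norm_num) h5
        rw [hG, h] at this
        norm_num [ord] at this
    · norm_num [ord] at e7

end Group

end Cfsg.Agent.Fg24.M23
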